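import Mathlib
import Cfsg.Agent.H952.F4.Scott_m3
import Cfsg.Agent.H879.E6.Conj_m3
import Cfsg.Agent.H944.E6TwC
import Cfsg.Agent.H944.E6Tab
import Cfsg.Agent.H65.E6Ext_m3
import Cfsg.Agent.H16.E6.Cov
import Cfsg.Agent.H401.E6Grp_m3
import Cfsg.Agent.Lib.PermCode
import Cfsg.Agent.H944.E6TwE_m3
import Cfsg.Agent.H952.S7.B6_m3
import Cfsg.Agent.LFourA.AltPsiAut
import Cfsg.Agent.H952.F4.Jord
import Cfsg.Agent.H944.E6CenMax_m3
import Cfsg.Agent.FastGrp
import Cfsg.Agent.Prune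
set_option linter.all false

section
prune_inst 0x7fbee9fbabf899dfdfff7e7fae9eddfdfcb9bfffe4dff9cbffe061ff0b5f4b02cbc5fb8f8be810fe1ef6e21410e87b43fbffffffe86bd87ffffd1ff41ffbffcfedf73508119488340f3c0ffe03f0778e7f3fffffffffffffffffffffffffffaeffffffffffff

-- part: H710/E6C/Cases_mg
section
set_option linter.all false
open scoped Cfsg.Agent.FastGrp

-- part: H710/E6C/Five
section
/-!
# S5927, case `n = 5`, `p = 2` (helper710)
-/

set_option autoImplicit false

namespace Cfsg.Agent.H710.E6C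

open Equiv Module Cfsg Cfsg.Lie
open Cfsg.Agent.ChevalleyStructure.E6Min.Tables Cfsg.Agent.ChevalleyStructure.E6Min.Basic
  Cfsg.Agent.ChevalleyStructure.E6Min.Adjoint
open Cfsg.Agent.H163.E6 (V V' Tab scal)
open Cfsg.Agent.H952.F4 (ev es tf GenT v0 c3 z5)
open Cfsg.Agent.H952.F4.Cases.Five (inv5 inv3 v0_sq v0_ne c3_cube c3_ne z5_five z5_ne gen235 powo ne_one_of_order ev_two
  ev_three ev_five)

universe u

/-- the core for `p = 2`, `n = 5` -/
theorem core5 {E : Type u} [Field E] [CharP E 2] (T : Tab 2 E)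
    (tf_act : ∀ (g : ↥(Zgrp E)) (x y : I27 → E), tf (V E g x) (V' E g y) = tf x y)
    (had : ∀ g : ↥(Zgrp E), ad E g = 1 → ∃ c : Eˣ, c ^ 3 = 1 ∧ (g : GL I27 E) = scal c)
    (θ : ↥(alternatingGroup (Fin 5)) →* ↥(Zgrp E))
    (h1 : Representation.invariants (MonoidHom.comp (V E) θ) = ⊥)
    (h2 : Representation.invariants (MonoidHom.comp (V' E) θ) = ⊥) : False := by
  have hp2 : Fact (Nat.Prime 2) := ⟨Nat.prime_two⟩
  have hne : ∀ a, a ≠ 1 → θ a ≠ 1 := by
    intro a ha h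
    have h3 : ∀ b, θ b = 1 := H882.E6Five.hom_trivial θ ha h
    have h4 : (fun _ => (1 : E) : I27 → E) ∈ Representation.invariants (MonoidHom.comp (V E) θ) := by
      rw [Representation.mem_invariants]
      intro g
      rw [MonoidHom.comp_apply, h3, map_one]
      rfl
    rw [h1, Submodule.mem_bot] at h4
    exact one_ne_zero (congrFun h4 (0, 0, 0))
  let ρ : Representation E ↥(alternatingGroup (Fin 5)) (I27 → E) := MonoidHom.comp (V E) θ
  have hρ : ∀ a, ρ a = V E (θ a) := fun a => rfl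
  have hdim : finrank E (I27 → E) = 27 := by
    rw [Module.finrank_fintype_fun_eq_card]
    decide
  have s3 : θ c3 ^ 3 = 1 := by rw [← map_pow, c3_cube, map_one]
  have s5 : θ z5 ^ 5 = 1 := by rw [← map_pow, z5_five, map_one]
  have r3 : ∃ g, g * θ c3 * g⁻¹ = (θ c3)⁻¹ := by
    obtain ⟨s, -, -, hs⟩ := inv3
    exact ⟨θ s, by rw [← map_inv, ← map_mul, ← map_mul, hs, map_inv]⟩
  have r5 : ∃ g, g * θ z5 * g⁻¹ = (θ z5)⁻¹ := ⟨θ v0, by rw [← map_inv, ← map_mul, ← map_mul, inv5, map_inv]⟩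
  have had3 : ad E (θ c3) ≠ 1 := by
    intro h
    obtain ⟨c, hc3, hc⟩ := had _ h
    obtain ⟨g, hg⟩ := r3
    have e1 : ((θ c3)⁻¹ : ↥(Zgrp E)) = θ c3 := by
      rw [← hg, mul_inv_eq_iff_eq_mul]
      apply Subtype.ext
      rw [Subgroup.coe_mul, Subgroup.coe_mul, hc]
      apply Units.ext
      show ((g : GL I27 E) : Matrix I27 I27 E) * algebraMap E _ (c : E) =
        algebraMap E _ (c : E) * ((g : GL I27 E) : Matrix I27 I27 E)
      exact (Algebra.commutes _ _).symm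
    have e2 : θ c3 * θ c3 = 1 := by
      nth_rewrite 1 [← e1]
      exact inv_mul_cancel _
    have e3 : θ c3 = 1 := by
      have := s3
      rwa [pow_succ, pow_two, e2, one_mul] at this
    exact hne c3 c3_ne e3
  have f3 : 9 ≤ ev (ρ c3) 1 := by
    have h := T.three (by norm_num) (θ c3) had3 s3
    have h' := T.three_real (by norm_num) (θ c3) had3 s3 r3
    rw [hρ]
    omega
  have f5 := T.five (by norm_num) (θ z5) (hne _ z5_ne) s5 r5
  have f2 : 14 ≤ ev (ρ v0) 1 := by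
    have h := H952.F4.Eig.le_mul_ev 2 (T := ρ v0) (by rw [pow_two, ← map_mul, v0_sq, map_one])
    rw [hdim] at h
    omega
  rw [← hρ] at f5
  obtain ⟨x, y, hgen, hx, hy, hxy⟩ := gen235 H952.F4.Gen.gen5
  have hsc := H952.F4.Scott.scott ρ hgen
  have hd := H882.E6Five.dual_bot tf_act θ h2
  have hsc' : ev (ρ x) 1 + ev (ρ y) 1 + ev (ρ (x * y)) 1 ≤ 27 := by
    have e1 : ρ.invariants = ⊥ := h1
    have e2 : ρ.dual.invariants = ⊥ := hd
    rw [e1, e2, finrank_bot, finrank_bot, hdim] at hsc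
    exact hsc
  rw [ev_two (ρ := ρ) (g := x) (by rw [← pow_two]; exact powo hx) (ne_one_of_order hx (by norm_num)),
    ev_three (ρ := ρ) (g := y) (powo hy) (ne_one_of_order hy (by norm_num)),
    ev_five (ρ := ρ) (g := x * y) (powo hxy) (ne_one_of_order hxy (by norm_num))] at hsc'
  omega

end Cfsg.Agent.H710.E6C
end

-- part: H710/E6C/Perm
section
/-!
# S5927, case `n = 7`, `p = 7`: permutations (helper710)
-/

set_option autoImplicit false

namespace Cfsg.Agent.H710.E6C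

open Equiv Cfsg.Agent.H952.F4 Cfsg.Agent.H952.F4.Gen

/-- generating triple of type (3, 3², 7) -/
theorem gen7a : GenT 7 {3} {3, 3} {7} :=
  genT_of (n := 5) (c[4, 5, 6]) (c[0, 3, 6] * c[1, 2, 4]) (by decide +kernel) (by decide +kernel)
    ![[], [], [3, 1, 3, 1, 2, 0, 2], [3, 0, 3, 1, 2, 1, 2], [1, 2, 1, 3, 0], [2, 1, 3], [0, 2, 1, 3, 1]]
    (by decide +kernel) (by decide +kernel) (by decide +kernel) (by decide +kernel)

/-- generating triple of type (2, 4, 7) -/
theorem gen7b : GenT 7 {2, 2} {4, 2} {7} :=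
  genT_of (n := 5) (c[3, 4] * c[5, 6]) (c[0, 6, 1, 2] * c[3, 5]) (by decide +kernel) (by decide +kernel)
    ![[], [], [0, 3, 0, 2, 0, 3, 0, 2, 0, 3], [3, 0, 2, 2, 0, 3], [0, 3, 0, 2, 2, 0, 3, 0],
      [2, 0, 2, 0, 2, 2, 0, 2, 2, 0, 3, 0, 2], [2, 2, 0, 2, 0, 3, 0, 2, 0, 3, 0, 3]]
    (by decide +kernel) (by decide +kernel) (by decide +kernel) (by decide +kernel)

/-! ### cycle types -/

theorem type_prime {p : ℕ} (hp : p.Prime) {g : ↥(alternatingGroup (Fin 7))} (h1 : g ^ p = 1) (h2 : g ≠ 1) :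
    ∃ n, (g : Perm (Fin 7)).cycleType = Multiset.replicate (n + 1) p ∧ (n + 1) * p ≤ 7 := by
  have ho : orderOf (g : Perm (Fin 7)) = p := by
    rw [Subgroup.orderOf_coe]
    have := Fact.mk hp
    exact orderOf_eq_prime h1 h2
  obtain ⟨n, hn⟩ := Perm.cycleType_prime_order (σ := (g : Perm (Fin 7))) (by rw [ho]; exact hp)
  rw [ho] at hn
  refine ⟨n, hn, ?_⟩
  have h3 := Perm.sum_cycleType_le (g : Perm (Fin 7))
  rw [hn, Multiset.sum_replicate, Fintype.card_fin, smul_eq_mul] at h3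
  exact h3

theorem type_two {g : ↥(alternatingGroup (Fin 7))} (h1 : g * g = 1) (h2 : g ≠ 1) :
    (g : Perm (Fin 7)).cycleType = {2, 2} := by
  obtain ⟨n, hn, hle⟩ := type_prime Nat.prime_two (by rw [pow_two]; exact h1) h2
  have hs : Perm.sign (g : Perm (Fin 7)) = 1 := Perm.mem_alternatingGroup.1 g.2
  rw [Perm.sign_of_cycleType, hn, Multiset.sum_replicate, Multiset.card_replicate, smul_eq_mul] at hs
  have hn2 : n ≤ 2 := by omega
  interval_cases n
  · exact absurd hs (by decide)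
  · exact hn
  · exact absurd hs (by decide)

theorem type_three {g : ↥(alternatingGroup (Fin 7))} (h1 : g ^ 3 = 1) (h2 : g ≠ 1) :
    (g : Perm (Fin 7)).cycleType = {3} ∨ (g : Perm (Fin 7)).cycleType = {3, 3} := by
  obtain ⟨n, hn, hle⟩ := type_prime Nat.prime_three h1 h2
  have hn2 : n ≤ 1 := by omega
  interval_cases n
  · exact Or.inl hn
  · exact Or.inr hn

theorem type_five {g : ↥(alternatingGroup (Fin 7))} (h1 : g ^ 5 = 1) (h2 : g ≠ 1) :
    (g : Perm (Fin 7)).cycleType = {5} := by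
  obtain ⟨n, hn, hle⟩ := type_prime Nat.prime_five h1 h2
  have hn2 : n = 0 := by omega
  subst hn2
  exact hn

theorem type_four {g : ↥(alternatingGroup (Fin 7))} (h1 : g ^ 4 = 1) (h2 : g * g ≠ 1) :
    (g : Perm (Fin 7)).cycleType = {4, 2} := by
  have ho : orderOf (g : Perm (Fin 7)) = 4 := by
    rw [Subgroup.orderOf_coe]
    have h3 := orderOf_dvd_of_pow_eq_one h1
    have h4 : ¬ orderOf g ∣ 2 := fun h => h2 (by rw [← pow_two]; exact orderOf_dvd_iff_pow_eq_one.1 h)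
    have h5 : orderOf g ≤ 4 := Nat.le_of_dvd (by norm_num) h3
    interval_cases h : orderOf g <;> omega
  have hlcm := Perm.lcm_cycleType (g : Perm (Fin 7))
  rw [ho] at hlcm
  have hs : Perm.sign (g : Perm (Fin 7)) = 1 := Perm.mem_alternatingGroup.1 g.2
  rw [Perm.sign_of_cycleType] at hs
  have hsum := Perm.sum_cycleType_le (g : Perm (Fin 7))
  have h2le : ∀ k ∈ (g : Perm (Fin 7)).cycleType, 2 ≤ k := fun k hk => Perm.two_le_of_mem_cycleType hk
  rw [Fintype.card_fin] at hsum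
  generalize (g : Perm (Fin 7)).cycleType = m at hlcm hs hsum h2le ⊢
  -- the entries are 2 or 4
  have hent : ∀ k ∈ m, k = 2 ∨ k = 4 := by
    intro k hk
    have h3 : k ∣ 4 := by rw [← hlcm]; exact Multiset.dvd_lcm hk
    have h4 := h2le k hk
    have h5 : k ≤ 4 := Nat.le_of_dvd (by norm_num) h3
    interval_cases k <;> omega
  have hm : m = Multiset.replicate (m.count 4) 4 + Multiset.replicate (m.count 2) 2 := by
    ext k
    rw [Multiset.count_add, Multiset.count_replicate, Multiset.count_replicate]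
    by_cases h4 : k = 4
    · subst h4
      simp
    · by_cases h22 : k = 2
      · subst h22
        simp
      · rw [if_neg (fun h => h4 h.symm), if_neg (fun h => h22 h.symm), Multiset.count_eq_zero]
        intro hk
        rcases hent k hk with h | h
        · exact h22 h
        · exact h4 h
  generalize m.count 4 = a at hm
  generalize m.count 2 = b at hm
  subst hm
  rw [Multiset.sum_add, Multiset.sum_replicate, Multiset.sum_replicate, smul_eq_mul, smul_eq_mul] at hsum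
  rw [Multiset.sum_add, Multiset.sum_replicate, Multiset.sum_replicate, smul_eq_mul, smul_eq_mul, Multiset.card_add,
    Multiset.card_replicate, Multiset.card_replicate] at hs
  have ha : a ≤ 1 := by omega
  have hb : b ≤ 3 := by omega
  interval_cases a
  · -- all entries 2
    exfalso
    rw [Multiset.replicate_zero, zero_add] at hlcm
    have h5 : (Multiset.replicate b 2).lcm ∣ 2 := by
      rw [Multiset.lcm_dvd]
      intro k hk
      rw [Multiset.eq_of_mem_replicate hk]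
    rw [hlcm] at h5
    omega
  · interval_cases b
    · exact absurd hs (by decide)
    · rfl
    · omega
    · omega

/-! ### embeddings -/

/-- the embedding of alternating groups -/
def emb (n : ℕ) : ↥(alternatingGroup (Fin n)) →* ↥(alternatingGroup (Fin (n + 1))) where
  toFun h := ⟨(h : Perm (Fin n)).extendDomain (finSuccAboveEquiv (Fin.last n)), by
    rw [Perm.mem_alternatingGroup, Perm.sign_extendDomain]
    exact Perm.mem_alternatingGroup.1 h.2⟩
  map_one' := Subtype.ext (Perm.extendDomain_one _)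
  map_mul' a b := Subtype.ext (Perm.extendDomain_mul _ _ _).symm

theorem emb_last (n : ℕ) (h : ↥(alternatingGroup (Fin n))) :
    ((emb n h : ↥(alternatingGroup (Fin (n + 1)))) : Perm (Fin (n + 1))) (Fin.last n) = Fin.last n :=
  Perm.extendDomain_apply_not_subtype _ _ (fun h => h rfl)

theorem emb_castSucc (n : ℕ) (h : ↥(alternatingGroup (Fin n))) (i : Fin n) :
    ((emb n h : ↥(alternatingGroup (Fin (n + 1)))) : Perm (Fin (n + 1))) i.castSucc =
      ((h : Perm (Fin n)) i).castSucc := by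
  have h1 : i.castSucc = ((finSuccAboveEquiv (Fin.last n) i : {x : Fin (n + 1) // x ≠ Fin.last n}) : Fin (n + 1)) := by
    rw [finSuccAboveEquiv_apply]
    exact (Fin.succAbove_last_apply i).symm
  rw [h1]
  refine (Perm.extendDomain_apply_image _ _ _).trans ?_
  rw [finSuccAboveEquiv_apply]
  exact Fin.succAbove_last_apply _

theorem emb_inj (n : ℕ) : Function.Injective (emb n) := by
  intro a b hab
  apply Subtype.ext
  ext i
  have h := emb_castSucc n a i
  rw [hab, emb_castSucc] at h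
  exact congrArg Fin.val (Fin.castSucc_injective n h.symm)

theorem emb_surj (n : ℕ) {g : ↥(alternatingGroup (Fin (n + 1)))}
    (hg : (g : Perm (Fin (n + 1))) (Fin.last n) = Fin.last n) : ∃ h, emb n h = g := by
  classical
  have hp : ∀ x : Fin (n + 1), (g : Perm (Fin (n + 1))) x ≠ Fin.last n ↔ x ≠ Fin.last n := by
    intro x
    rw [not_iff_not]
    constructor
    · intro h
      rw [← hg] at h
      exact (g : Perm (Fin (n + 1))).injective h
    · rintro rfl
      exact hg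
  let k : Perm {x : Fin (n + 1) // x ≠ Fin.last n} := (g : Perm (Fin (n + 1))).subtypePerm hp
  let h : Perm (Fin n) := (finSuccAboveEquiv (Fin.last n)).symm.permCongr k
  have hh : h.extendDomain (finSuccAboveEquiv (Fin.last n)) = (g : Perm (Fin (n + 1))) := by
    ext x
    by_cases hx : x = Fin.last n
    · rw [hx, Perm.extendDomain_apply_not_subtype _ _ (fun h => h rfl), hg]
    · obtain ⟨y, hy⟩ := (finSuccAboveEquiv (Fin.last n)).surjective ⟨x, hx⟩
      have hxy : x = ((finSuccAboveEquiv (Fin.last n) y : {x : Fin (n + 1) // x ≠ Fin.last n}) : Fin (n + 1)) := by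
        rw [hy]
      rw [hxy, Perm.extendDomain_apply_image]
      have e : finSuccAboveEquiv (Fin.last n) (h y) = k (finSuccAboveEquiv (Fin.last n) y) := by
        simp only [h, permCongr_apply, symm_symm, apply_symm_apply]
      rw [e]
      rfl
  refine ⟨⟨h, ?_⟩, Subtype.ext hh⟩
  have h2 : Perm.sign (h.extendDomain (finSuccAboveEquiv (Fin.last n))) = 1 := by
    rw [hh]
    exact Perm.mem_alternatingGroup.1 g.2
  rw [Perm.sign_extendDomain] at h2
  exact Perm.mem_alternatingGroup.2 h2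

end Cfsg.Agent.H710.E6C
end

-- part: H710/E6C/End
section
/-!
# S5927, case `n = 7`, `p = 7`: the trace formula and the end of the argument (helper710)
-/

set_option autoImplicit false

namespace Cfsg.Agent.H710.E6C

open Equiv Module

/-- the trace formula for the fixed vectors -/
theorem sum_trace {B E V : Type*} [Group B] [Fintype B] [Field E] [AddCommGroup V] [Module E V] [FiniteDimensional E V]
    (σ : Representation E B V) (hB : (Fintype.card B : E) ≠ 0) :
    ∑ b, LinearMap.trace E V (σ b) = (Fintype.card B : E) * (finrank E ↥σ.invariants : E) := by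
  classical
  have hinv : Invertible (Fintype.card B : E) := invertibleOfNonzero hB
  have h1 := (Representation.isProj_averageMap σ).trace
  have h2 : Representation.averageMap σ = (⅟(Fintype.card B : E)) • ∑ b, σ b := by
    rw [Representation.averageMap, GroupAlgebra.average, map_smul, map_sum]
    simp only [Representation.asAlgebraHom_of]
  rw [h2, map_smul, map_sum, smul_eq_mul] at h1
  rw [← h1, ← mul_assoc, mul_invOf_self, one_mul]

/-! ### the end of the argument -/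

theorem card_six : Fintype.card ↥(alternatingGroup (Fin 6)) = 360 := by
  have h := two_mul_card_alternatingGroup (α := Fin 6)
  rw [Fintype.card_perm, Fintype.card_fin, show Nat.factorial 6 = 720 from rfl] at h
  omega

theorem card_five : Fintype.card ↥(alternatingGroup (Fin 5)) = 60 := by
  have h := two_mul_card_alternatingGroup (α := Fin 5)
  rw [Fintype.card_perm, Fintype.card_fin, show Nat.factorial 5 = 120 from rfl] at h
  omega

abbrev A7 := ↥(alternatingGroup (Fin 7))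

def r7 : A7 := ⟨c[(0 : Fin 7), 1, 2, 3, 4, 5, 6], Perm.mem_alternatingGroup.2 (by decide +kernel)⟩

/-- a permutation taking 6 to `i` -/
def cc (i : Fin 7) : A7 := r7 ^ (i.val + 1)

theorem cc_apply : ∀ i : Fin 7, (cc i : Perm (Fin 7)) 6 = i := by decide +kernel

/-- an even permutation fixing 6 taking 5 to `i` -/
def dd (i : Fin 7) : Perm (Fin 7) :=
  ![swap (5 : Fin 7) 0 * swap (0 : Fin 7) 1, swap (5 : Fin 7) 1 * swap (1 : Fin 7) 2, swap (5 : Fin 7) 2 * swap (2 : Fin 7) 1, swap (5 : Fin 7) 3 * swap (3 : Fin 7) 1, swap (5 : Fin 7) 4 * swap (4 : Fin 7) 1, 1, 1] i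

theorem dd_sign : ∀ i : Fin 7, Perm.sign (dd i) = 1 := by decide +kernel
theorem dd_six : ∀ i : Fin 7, dd i 6 = 6 := by decide +kernel
theorem dd_five : ∀ i : Fin 7, i ≠ 6 → dd i 5 = i := by decide +kernel

/-- an even permutation interchanging 5 and 6 -/
def ss : A7 := ⟨swap (5 : Fin 7) 6 * swap (0 : Fin 7) 1, Perm.mem_alternatingGroup.2 (by decide +kernel)⟩

section

variable {E V : Type*} [Field E] [AddCommGroup V] [Module E V]

/-- the conjugates of a vector fixed by the stabilizer of 6 -/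
def av (ρ : Representation E A7 V) (a : V) (i : Fin 7) : V := ρ (cc i) a

theorem act_inv (ρ : Representation E A7 V) (g : A7) (x : V) : ρ g (ρ g⁻¹ x) = x := by
  rw [← Module.End.mul_apply, ← map_mul, mul_inv_cancel, map_one]
  rfl

theorem av_act {ρ : Representation E A7 V} {a : V} (ha : ∀ g : A7, (g : Perm (Fin 7)) 6 = 6 → ρ g a = a) (g : A7)
    (i : Fin 7) : ρ g (av ρ a i) = av ρ a ((g : Perm (Fin 7)) i) := by
  have h1 : ρ ((cc ((g : Perm (Fin 7)) i))⁻¹ * (g * cc i)) a = a := by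
    apply ha
    show ((cc ((g : Perm (Fin 7)) i) : Perm (Fin 7)))⁻¹ ((g : Perm (Fin 7)) ((cc i : Perm (Fin 7)) 6)) = 6
    rw [cc_apply, Perm.inv_eq_iff_eq, cc_apply]
  unfold av
  conv_rhs => rw [← h1]
  rw [← Module.End.mul_apply, ← Module.End.mul_apply, ← map_mul, ← map_mul, mul_inv_cancel_left]

theorem av_six {ρ : Representation E A7 V} {a : V} (ha : ∀ g : A7, (g : Perm (Fin 7)) 6 = 6 → ρ g a = a) :
    av ρ a 6 = a := ha _ (cc_apply 6)

theorem sum_av {ρ : Representation E A7 V} (h1 : ρ.invariants = ⊥) {a : V}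
    (ha : ∀ g : A7, (g : Perm (Fin 7)) 6 = 6 → ρ g a = a) : ∑ i, av ρ a i = 0 := by
  have h : ∑ i, av ρ a i ∈ ρ.invariants := by
    rw [Representation.mem_invariants]
    intro g
    rw [map_sum]
    refine Fintype.sum_equiv (g : Perm (Fin 7)) _ _ fun i => ?_
    exact av_act ha g i
  rwa [h1, Submodule.mem_bot] at h

/-- if two conjugates are equal, then the vector is 0 -/
theorem av_ne {ρ : Representation E A7 V} (h1 : ρ.invariants = ⊥) {a : V}
    (ha : ∀ g : A7, (g : Perm (Fin 7)) 6 = 6 → ρ g a = a) (h56 : av ρ a 5 = av ρ a 6) : a = 0 := by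
  have h2 : ∀ i, av ρ a i = a := by
    intro i
    by_cases hi : i = 6
    · rw [hi, av_six ha]
    · have h3 := congrArg (ρ (⟨dd i, Perm.mem_alternatingGroup.2 (dd_sign i)⟩ : A7)) h56
      rw [av_act ha, av_act ha] at h3
      have h4 : av ρ a (dd i 5) = av ρ a (dd i 6) := h3
      rw [dd_six, dd_five i hi, av_six ha] at h4
      exact h4
  have h : a ∈ ρ.invariants := by
    rw [Representation.mem_invariants]
    intro g
    have h3 := av_act ha g 6
    rwa [h2, h2] at h3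
  rwa [h1, Submodule.mem_bot] at h

variable [FiniteDimensional E V]

theorem endgame (h7 : (7 : E) = 0) {ρ ρ' : Representation E A7 V} (β : V →ₗ[E] V →ₗ[E] E)
    (hβ : ∀ g x y, β (ρ g x) (ρ' g y) = β x y) (hnd : ∀ y, (∀ x, β x y = 0) → y = 0)
    (hnd' : ∀ x, (∀ y, β x y = 0) → x = 0)
    (h1 : ρ.invariants = ⊥) (h1' : ρ'.invariants = ⊥)
    (h6 : Representation.invariants (MonoidHom.comp ρ (emb 6) : Representation E _ V) ≠ ⊥)
    (h5 : finrank E ↥(Representation.invariants (MonoidHom.comp ρ ((emb 6).comp (emb 5)) : Representation E _ V)) ≤ 2) :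
    False := by
  -- the vectors
  obtain ⟨a, haM, ha0⟩ := Submodule.exists_mem_ne_zero_of_ne_bot h6
  rw [Representation.mem_invariants] at haM
  have ha : ∀ g : A7, (g : Perm (Fin 7)) 6 = 6 → ρ g a = a := by
    intro g hg
    obtain ⟨h, rfl⟩ := emb_surj 6 (g := g) hg
    exact haM h
  have hy : ∃ y, β a y ≠ 0 := by
    by_contra hne
    push Not at hne
    exact ha0 (hnd' a hne)
  obtain ⟨y, hy⟩ := hy
  have c360 : ((360 : ℕ) : E) ≠ 0 := by
    intro h
    have e : (360 : E) = 7 * 51 + 3 := by norm_num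
    have h3 : (3 : E) = 0 := by
      rw [Nat.cast_ofNat, e, h7, zero_mul, zero_add] at h
      exact h
    have : (1 : E) = 0 := by linear_combination h7 - 2 * h3
    exact one_ne_zero this
  have c60 : ((60 : ℕ) : E) ≠ 0 := by
    intro h
    have : (1 : E) = 0 := by
      rw [Nat.cast_ofNat] at h
      linear_combination (-17 : E) * h7 + 2 * h
    exact one_ne_zero this
  have hadj : ∀ g x z, β x (ρ' g z) = β (ρ g⁻¹ x) z := by
    intro g x z
    rw [← hβ g (ρ g⁻¹ x) z, act_inv]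
  obtain ⟨b, hbdef⟩ : ∃ b, b = ∑ h : ↥(alternatingGroup (Fin 6)), ρ' (emb 6 h) y := ⟨_, rfl⟩
  have hab : β a b ≠ 0 := by
    rw [hbdef, map_sum]
    have h2 : ∀ h : ↥(alternatingGroup (Fin 6)), β a (ρ' (emb 6 h) y) = β a y := by
      intro h
      rw [hadj, ← map_inv, ha _ (emb_last 6 h⁻¹)]
    rw [Finset.sum_congr rfl fun h _ => h2 h, Finset.sum_const, Finset.card_univ, nsmul_eq_mul]
    rw [card_six]
    exact mul_ne_zero c360 hy
  have hb : ∀ g : A7, (g : Perm (Fin 7)) 6 = 6 → ρ' g b = b := by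
    intro g hg
    obtain ⟨h, rfl⟩ := emb_surj 6 (g := g) hg
    rw [hbdef, map_sum]
    refine Fintype.sum_equiv (Equiv.mulLeft h) _ _ fun k => ?_
    rw [Equiv.coe_mulLeft, map_mul, map_mul]
    rfl
  have hb0 : b ≠ 0 := by
    rintro rfl
    exact hab (map_zero _)
  obtain ⟨c, hc⟩ : ∃ c, c = β a b := ⟨_, rfl⟩
  rw [← hc] at hab
  -- the matrix of the pairing
  have hact : ∀ (g : A7) i j, β (av ρ a i) (av ρ' b j) = β (av ρ a ((g : Perm (Fin 7)) i)) (av ρ' b ((g : Perm (Fin 7)) j)) := by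
    intro g i j
    rw [← av_act ha, ← av_act hb, hβ]
  have h66 : β (av ρ a 6) (av ρ' b 6) = c := by rw [av_six ha, av_six hb, hc]
  have hi6 : ∀ i, i ≠ 6 → β (av ρ a i) (av ρ' b 6) = β (av ρ a 5) (av ρ' b 6) := by
    intro i hi
    have h := hact (⟨dd i, Perm.mem_alternatingGroup.2 (dd_sign i)⟩ : A7) 5 6
    have h' : β (av ρ a 5) (av ρ' b 6) = β (av ρ a (dd i 5)) (av ρ' b (dd i 6)) := h
    rw [dd_six, dd_five i hi] at h'
    exact h'.symm
  have h56 : β (av ρ a 5) (av ρ' b 6) = c := by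
    have h := congrArg (fun v => β v (av ρ' b 6)) (sum_av h1 ha)
    simp only [map_sum, LinearMap.sum_apply, map_zero, LinearMap.zero_apply] at h
    rw [Fin.sum_univ_seven, hi6 0 (by decide), hi6 1 (by decide), hi6 2 (by decide), hi6 3 (by decide),
      hi6 4 (by decide), h66] at h
    linear_combination (-1 : E) * h + β (av ρ a 5) (av ρ' b 6) * h7
  have h65 : β (av ρ a 6) (av ρ' b 5) = c := by
    rw [hact ss]
    have e1 : (ss : Perm (Fin 7)) 6 = 5 := by decide +kernel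
    have e2 : (ss : Perm (Fin 7)) 5 = 6 := by decide +kernel
    rw [e1, e2, h56]
  have h55 : β (av ρ a 5) (av ρ' b 5) = c := by
    rw [hact ss]
    have e2 : (ss : Perm (Fin 7)) 5 = 6 := by decide +kernel
    rw [e2, h66]
  -- the fixed vectors of `A₅`
  have hmemfix : ∀ (σ : Representation E A7 V) (v : V), (∀ g : A7, (g : Perm (Fin 7)) 6 = 6 → σ g v = v) →
      ∀ i, i = 5 ∨ i = 6 → av σ v i ∈ Representation.invariants (MonoidHom.comp σ ((emb 6).comp (emb 5)) : Representation E _ V) := by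
    intro σ v hv i hi
    rw [Representation.mem_invariants]
    intro h
    show σ (emb 6 (emb 5 h)) (av σ v i) = av σ v i
    rw [av_act hv]
    congr 1
    rcases hi with rfl | rfl
    · have e := emb_castSucc 6 (emb 5 h) 5
      have e' : ((emb 5 h : ↥(alternatingGroup (Fin 6))) : Perm (Fin 6)) 5 = 5 := emb_last 5 h
      rw [e'] at e
      exact e
    · exact emb_last 6 _
  have hne : av ρ a 5 ≠ av ρ a 6 := fun h => ha0 (av_ne h1 ha h)
  have hli : LinearIndependent E ![av ρ a 5, av ρ a 6] := by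
    rw [LinearIndependent.pair_iff]
    intro s t hst
    have h := congrArg (fun v => β v (av ρ' b 6)) hst
    simp only [map_add, map_smul, LinearMap.add_apply, LinearMap.smul_apply, map_zero, LinearMap.zero_apply, h56, h66,
      smul_eq_mul] at h
    have h2 : s + t = 0 := by
      have : (s + t) * c = 0 := by linear_combination h
      exact (mul_eq_zero.1 this).resolve_right hab
    have h3 : t = -s := by linear_combination h2
    rw [h3, neg_smul, ← sub_eq_add_neg, ← smul_sub] at hst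
    have h4 : s = 0 := (smul_eq_zero.1 hst).resolve_right (sub_ne_zero.2 hne)
    exact ⟨h4, by rw [h3, h4, neg_zero]⟩
  obtain ⟨U, hU⟩ : ∃ U, U = Representation.invariants (MonoidHom.comp ρ ((emb 6).comp (emb 5)) : Representation E _ V) := ⟨_, rfl⟩
  rw [← hU] at h5
  have hspan : Submodule.span E (Set.range ![av ρ a 5, av ρ a 6]) = U := by
    apply Submodule.eq_of_le_of_finrank_le
    · rw [Submodule.span_le]
      rintro _ ⟨i, rfl⟩
      rw [hU]
      fin_cases i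
      · exact hmemfix ρ a ha 5 (Or.inl rfl)
      · exact hmemfix ρ a ha 6 (Or.inr rfl)
    · rw [finrank_span_eq_card hli, Fintype.card_fin]
      exact h5
  -- the difference is orthogonal to everything
  have horth : ∀ x ∈ U, β x (av ρ' b 5 - av ρ' b 6) = 0 := by
    intro x hx
    rw [← hspan] at hx
    induction hx using Submodule.span_induction with
    | mem x hx =>
      obtain ⟨i, rfl⟩ := hx
      fin_cases i
      · show β (av ρ a 5) (av ρ' b 5 - av ρ' b 6) = 0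
        rw [map_sub, h55, h56, sub_self]
      · show β (av ρ a 6) (av ρ' b 5 - av ρ' b 6) = 0
        rw [map_sub, h65, h66, sub_self]
    | zero => rw [map_zero, LinearMap.zero_apply]
    | add x y _ _ hx hy => rw [map_add, LinearMap.add_apply, hx, hy, add_zero]
    | smul s x _ hx => rw [map_smul, LinearMap.smul_apply, hx, smul_zero]
  have hfix : ∀ h : ↥(alternatingGroup (Fin 5)), ρ' (emb 6 (emb 5 h)) (av ρ' b 5 - av ρ' b 6) = av ρ' b 5 - av ρ' b 6 := by
    intro h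
    have e5 := (Representation.mem_invariants _ _).1 (hmemfix ρ' b hb 5 (Or.inl rfl)) h
    have e6 := (Representation.mem_invariants _ _).1 (hmemfix ρ' b hb 6 (Or.inr rfl)) h
    rw [map_sub]
    exact congrArg₂ (· - ·) e5 e6
  have hz : av ρ' b 5 - av ρ' b 6 = 0 := by
    apply hnd
    intro x
    have h2 : ∑ h : ↥(alternatingGroup (Fin 5)), ρ (emb 6 (emb 5 h)) x ∈ U := by
      rw [hU, Representation.mem_invariants]
      intro g
      rw [map_sum]
      refine Fintype.sum_equiv (Equiv.mulLeft g) _ _ fun k => ?_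
      rw [Equiv.coe_mulLeft, map_mul, map_mul, map_mul]
      rfl
    have h3 := horth _ h2
    have h3' : ∑ h : ↥(alternatingGroup (Fin 5)), β (ρ (emb 6 (emb 5 h)) x) (av ρ' b 5 - av ρ' b 6) = 0 := by
      rw [← h3]
      exact (map_sum (β.flip (av ρ' b 5 - av ρ' b 6)) (fun h => ρ (emb 6 (emb 5 h)) x) Finset.univ).symm
    have h4 : ∀ h : ↥(alternatingGroup (Fin 5)), β (ρ (emb 6 (emb 5 h)) x) (av ρ' b 5 - av ρ' b 6) =
        β x (av ρ' b 5 - av ρ' b 6) := by
      intro h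
      rw [← hβ (emb 6 (emb 5 h)) x, hfix]
    rw [Finset.sum_congr rfl fun h _ => h4 h, Finset.sum_const, Finset.card_univ, nsmul_eq_mul, card_five] at h3'
    exact (mul_eq_zero.1 h3').resolve_left c60
  exact hb0 (av_ne h1' hb (sub_eq_zero.1 hz))

end

end Cfsg.Agent.H710.E6C
end

-- part: H710/E6C/Elt
section
/-!
# S5927, case `n = 7`, `p = 7`: the main argument over an algebraically closed field (helper710)
-/

set_option autoImplicit false

namespace Cfsg.Agent.H710.E6C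

open Equiv Module
open Cfsg.Agent.ChevalleyStructure.E6Min.Tables Cfsg.Agent.ChevalleyStructure.E6Min.Basic
  Cfsg.Agent.ChevalleyStructure.E6Min.Adjoint
open Cfsg.Agent.H163.E6 (V V' Tab scal)
open Cfsg.Agent.H952.F4 (ev es tf GenT)
open Cfsg.Agent.H952.F4.Jord

/-! ### elements -/

/-- an even permutation -/
def mk (σ : Perm (Fin 7)) (h : Perm.sign σ = 1) : A7 := ⟨σ, Perm.mem_alternatingGroup.2 h⟩

def a0 : A7 := mk (swap (0 : Fin 7) 1 * swap (2 : Fin 7) 3) (by decide +kernel)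
def b0 : A7 := mk (swap (0 : Fin 7) 2 * swap (1 : Fin 7) 3) (by decide +kernel)
def t0 : A7 := mk (c[(1 : Fin 7), 2, 3]) (by decide +kernel)
def a1 : A7 := mk (swap (1 : Fin 7) 4 * swap (2 : Fin 7) 3) (by decide +kernel)
def b1 : A7 := mk (swap (0 : Fin 7) 5 * swap (2 : Fin 7) 3) (by decide +kernel)
def t1 : A7 := mk (c[(0 : Fin 7), 1, 2] * c[(3 : Fin 7), 5, 4]) (by decide +kernel)
def zz : A7 := mk (c[(0 : Fin 7), 1, 2]) (by decide +kernel)
def ww : A7 := mk (c[(3 : Fin 7), 4, 5]) (by decide +kernel)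
def sg : A7 := mk (swap (0 : Fin 7) 1 * swap (3 : Fin 7) 4) (by decide +kernel)
def f4 : A7 := mk (c[(0 : Fin 7), 1, 2, 3] * c[(4 : Fin 7), 5]) (by decide +kernel)
def f5 : A7 := mk (c[(0 : Fin 7), 1, 2, 3, 4]) (by decide +kernel)

/-! ### conjugacy -/

/-- the type of a permutation -/
abbrev ct (g : A7) : Multiset ℕ := (g : Perm (Fin 7)).cycleType

/-- the elements with this cycle type are conjugate -/
def NS (m : Multiset ℕ) : Prop := ∀ g g' : A7, ct g = m → ct g' = m → ∃ k, k * g * k⁻¹ = g'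

theorem ns_of {r : A7} {o : Perm (Fin 7)} (ho : Perm.sign o = -1)
    (hor : o * (r : Perm (Fin 7)) = (r : Perm (Fin 7)) * o) : NS (ct r) := by
  have key : ∀ g : A7, ct g = ct r → ∃ x : A7, x * r * x⁻¹ = g := by
    intro g hg
    obtain ⟨s, hs⟩ := isConj_iff.1 (Perm.isConj_iff_cycleType_eq.2 hg.symm)
    rcases Int.units_eq_one_or (Perm.sign s) with h1 | h1
    · exact ⟨⟨s, Perm.mem_alternatingGroup.2 h1⟩, Subtype.ext hs⟩
    · refine ⟨⟨s * o, Perm.mem_alternatingGroup.2 (by rw [map_mul, h1, ho]; decide)⟩,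
        Subtype.ext ?_⟩
      change s * o * (r : Perm (Fin 7)) * (s * o)⁻¹ = g
      rw [mul_assoc s, hor, mul_inv_rev, ← hs]
      group
  intro g g' h h'
  obtain ⟨x, rfl⟩ := key g h
  obtain ⟨y, rfl⟩ := key g' h'
  exact ⟨y * x⁻¹, by group⟩

theorem ct_a0 : ct a0 = {2, 2} := by decide +kernel
theorem ct_t0 : ct t0 = {3} := by decide +kernel
theorem ct_t1 : ct t1 = {3, 3} := by decide +kernel
theorem ct_f4 : ct f4 = {4, 2} := by decide +kernel
theorem ct_f5 : ct f5 = {5} := by decide +kernel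

theorem ns2 : NS {2, 2} := by
  rw [← ct_a0]
  exact ns_of (o := swap (5 : Fin 7) 6) (by decide +kernel) (by decide +kernel)
theorem ns3 : NS {3} := by
  rw [← ct_t0]
  exact ns_of (o := swap (5 : Fin 7) 6) (by decide +kernel) (by decide +kernel)
theorem ns33 : NS {3, 3} := by
  rw [← ct_t1]
  exact ns_of (o := swap (0 : Fin 7) 3 * swap (1 : Fin 7) 5 * swap (2 : Fin 7) 4) (by decide +kernel) (by decide +kernel)
theorem ns42 : NS {4, 2} := by
  rw [← ct_f4]
  exact ns_of (o := swap (4 : Fin 7) 5) (by decide +kernel) (by decide +kernel)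
theorem ns5 : NS {5} := by
  rw [← ct_f5]
  exact ns_of (o := swap (5 : Fin 7) 6) (by decide +kernel) (by decide +kernel)

theorem ct_inv (g : A7) : ct g⁻¹ = ct g := Perm.cycleType_inv _

theorem NS.real {m : Multiset ℕ} (h : NS m) {g : A7} (hg : ct g = m) : ∃ k, k * g * k⁻¹ = g⁻¹ :=
  h g g⁻¹ hg ((ct_inv g).trans hg)

theorem ne_one_of_ct {g : A7} {m : Multiset ℕ} (hg : ct g = m) (hm : m ≠ 0) : g ≠ 1 := by
  rintro rfl
  exact hm (hg.symm.trans Perm.cycleType_one)

theorem order_of_ct {g : A7} {m : Multiset ℕ} (hg : ct g = m) {k : ℕ} (hm : m.lcm = k) : orderOf g = k := by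
  rw [← Subgroup.orderOf_coe, ← Perm.lcm_cycleType]
  rw [← hm, ← hg]

theorem pow_of_ct {g : A7} {m : Multiset ℕ} (hg : ct g = m) {k : ℕ} (hm : m.lcm = k) : g ^ k = 1 := by
  rw [← order_of_ct hg hm, pow_orderOf_eq_one]

/-! ### the count of the elements -/

/-- the trace of an element of `A₅`, `A₆` -/
def cf {n : ℕ} (h : ↥(alternatingGroup (Fin n))) : ℤ :=
  if h = 1 then 27 else if h * h = 1 then 3 else if h * h * h = 1 then 0 else if h * h * h * h = 1 then -1 else 2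

set_option maxRecDepth 100000 in
theorem sum_six : ∑ h : ↥(alternatingGroup (Fin 6)), cf h = 360 := by (delta cf; simp only [↓Cfsg.Agent.PermCode.M, Cfsg.Agent.PermCode.P6.R, Cfsg.Agent.PermCode.B]; decide +kernel)

set_option maxRecDepth 100000 in
theorem sum_five : ∑ h : ↥(alternatingGroup (Fin 5)), cf h = 120 := by (delta cf; simp only [↓Cfsg.Agent.PermCode.M, Cfsg.Agent.PermCode.P5.R, Cfsg.Agent.PermCode.B]; decide +kernel)

set_option maxRecDepth 100000 in
theorem ords : ∀ h : ↥(alternatingGroup (Fin 6)), h = 1 ∨ h * h = 1 ∨ h * h * h = 1 ∨ h * h * h * h = 1 ∨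
    h * h * h * h * h = 1 := by (simp only [↓Cfsg.Agent.PermCode.M, Cfsg.Agent.PermCode.P6.R, Cfsg.Agent.PermCode.B]; decide +kernel)

end Cfsg.Agent.H710.E6C
end

-- part: H710/E6C/Seven
section
/-!
# S5927, case `n = 7`, `p = 7`: the main argument over an algebraically closed field (helper710)
-/

set_option autoImplicit false

namespace Cfsg.Agent.H710.E6C

open Equiv Module Cfsg Cfsg.Lie
open Cfsg.Agent.ChevalleyStructure.E6Min.Tables Cfsg.Agent.ChevalleyStructure.E6Min.Basic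
  Cfsg.Agent.ChevalleyStructure.E6Min.Adjoint
open Cfsg.Agent.H163.E6 (V V' Tab scal)
open Cfsg.Agent.H952.F4 (ev es tf GenT)
open Cfsg.Agent.H952.F4.Jord
open Cfsg.Agent.H952.F4.Cases.Five (ev_conj)

universe u

section

variable {E : Type u} [Field E]

theorem dim27 : finrank E (I27 → E) = 27 := by
  rw [Module.finrank_fintype_fun_eq_card]
  decide

theorem NS.ev {m : Multiset ℕ} (h : NS m) (ρ : Representation E A7 (I27 → E)) {g g' : A7} (hg : ct g = m)
    (hg' : ct g' = m) : H952.F4.ev (ρ g) 1 = H952.F4.ev (ρ g') 1 := by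
  obtain ⟨k, rfl⟩ := h g g' hg hg'
  exact (ev_conj ρ k g).symm

/-- homomorphisms of `A₇` are injective or trivial -/
theorem inj_of {G : Type*} [Group G] (θ : A7 →* G) {a : A7} (ha : θ a ≠ 1) {b : A7} (hb : b ≠ 1) : θ b ≠ 1 := by
  have hS : IsSimpleGroup A7 := alternatingGroup.isSimpleGroup (α := Fin 7) (by simp)
  intro h
  rcases (inferInstance : θ.ker.Normal).eq_bot_or_eq_top with h1 | h1
  · have : b ∈ θ.ker := h
    rw [h1, Subgroup.mem_bot] at this
    exact hb this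
  · have : a ∈ θ.ker := by rw [h1]; trivial
    exact ha this

/-- the core for `p = 7`, `n = 7` -/
theorem core7 [IsAlgClosed E] [CharP E 7] (T : Tab 7 E)
    (tf_act : ∀ (g : ↥(Zgrp E)) (x y : I27 → E), tf (V E g x) (V' E g y) = tf x y)
    (had : ∀ g : ↥(Zgrp E), ad E g = 1 → ∃ c : Eˣ, c ^ 3 = 1 ∧ (g : GL I27 E) = scal c)
    (θ : A7 →* ↥(Zgrp E))
    (h1 : Representation.invariants (MonoidHom.comp (V E) θ) = ⊥)
    (h2 : Representation.invariants (MonoidHom.comp (V' E) θ) = ⊥) : False := by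
  have c7 : (7 : E) = 0 := by exact_mod_cast CharP.cast_eq_zero E 7
  have hp7 : Fact (Nat.Prime 7) := ⟨by norm_num⟩
  have two_ne : (2 : E) ≠ 0 := by
    intro h
    have : (1 : E) = 0 := by linear_combination c7 - 3 * h
    exact one_ne_zero this
  have three_ne : (3 : E) ≠ 0 := by
    intro h
    have : (1 : E) = 0 := by linear_combination c7 - 2 * h
    exact one_ne_zero this
  -- nontriviality
  have hne : ∀ a, a ≠ 1 → θ a ≠ 1 := by
    have hex : ∃ a, θ a ≠ 1 := by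
      by_contra hne
      push Not at hne
      have h4 : (fun _ => (1 : E) : I27 → E) ∈ Representation.invariants (MonoidHom.comp (V E) θ) := by
        rw [Representation.mem_invariants]
        intro g
        rw [MonoidHom.comp_apply, hne, map_one]
        rfl
      rw [h1, Submodule.mem_bot] at h4
      exact one_ne_zero (congrFun h4 (0, 0, 0))
    obtain ⟨a, ha⟩ := hex
    exact fun b hb => inj_of θ ha hb
  let ρ : Representation E A7 (I27 → E) := MonoidHom.comp (V E) θ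
  have hρ : ∀ a, ρ a = V E (θ a) := fun a => rfl
  have i1 : ρ.invariants = ⊥ := h1
  have i2 : ρ.dual.invariants = ⊥ := H882.E6Five.dual_bot tf_act θ h2
  -- Scott's lemma
  have hsc : ∀ {a b c : Multiset ℕ}, GenT 7 a b c → ∃ x y : A7, ct x = a ∧ ct y = b ∧ ct (x * y) = c ∧
      ev (ρ x) 1 + ev (ρ y) 1 + ev (ρ (x * y)) 1 ≤ 27 := by
    intro a b c hg
    obtain ⟨x, y, hgen, hx, hy, hxy⟩ := hg
    have hs := H952.F4.Scott.scott ρ hgen
    rw [i1, i2, finrank_bot, finrank_bot, dim27] at hs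
    exact ⟨x, y, hx, hy, hxy, hs⟩
  -- elements of order 7
  have g7 : ∀ g : A7, ct g = {7} → 4 ≤ ev (ρ g) 1 := by
    intro g hg
    have h := H952.F4.Eig.le_mul_ev 7 (T := ρ g) (by
      rw [← map_pow, pow_of_ct hg (by rfl), map_one])
    rw [dim27] at h
    omega
  -- reality
  have hreal : ∀ {m : Multiset ℕ}, NS m → ∀ g : A7, ct g = m → ∃ k, k * θ g * k⁻¹ = (θ g)⁻¹ := by
    intro m hm g hg
    obtain ⟨k, hk⟩ := hm.real hg
    exact ⟨θ k, by rw [← map_inv, ← map_mul, ← map_mul, hk, map_inv]⟩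
  -- elements of order 3
  have g3 : ∀ {m : Multiset ℕ}, NS m → m ≠ 0 → m.lcm = 3 → ∀ g : A7, ct g = m →
      (ev (ρ g) 1 = 15 ∧ LinearMap.trace E _ (ρ g) = 9) ∨ (ev (ρ g) 1 = 9 ∧ LinearMap.trace E _ (ρ g) = 0) := by
    intro m hm hm0 hl g hg
    have s3 : θ g ^ 3 = 1 := by rw [← map_pow, pow_of_ct hg hl, map_one]
    have r3 := hreal hm g hg
    have had3 : ad E (θ g) ≠ 1 := by
      intro h
      obtain ⟨c, hc3, hc⟩ := had _ h
      obtain ⟨k, hk⟩ := r3
      have e1 : ((θ g)⁻¹ : ↥(Zgrp E)) = θ g := by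
        rw [← hk, mul_inv_eq_iff_eq_mul]
        apply Subtype.ext
        rw [Subgroup.coe_mul, Subgroup.coe_mul, hc]
        apply Units.ext
        show ((k : GL I27 E) : Matrix I27 I27 E) * algebraMap E _ (c : E) =
          algebraMap E _ (c : E) * ((k : GL I27 E) : Matrix I27 I27 E)
        exact (Algebra.commutes _ _).symm
      have e2 : θ g * θ g = 1 := by
        nth_rewrite 1 [← e1]
        exact inv_mul_cancel _
      have e3 : θ g = 1 := by
        have := s3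
        rwa [pow_succ, pow_two, e2, one_mul] at this
      exact hne g (ne_one_of_ct hg hm0) e3
    have h := T.three (by norm_num) (θ g) had3 s3
    have h' := T.three_real (by norm_num) (θ g) had3 s3 r3
    rw [hρ]
    rcases h with h | h | h | h
    · exact Or.inl ⟨h.1, h.2.2.1⟩
    · exact Or.inr ⟨h.1, h.2.2.1⟩
    · exact Or.inr ⟨h.1, h.2.2.1⟩
    · exact absurd h.1 h'
  -- elements of order 2
  have g2 : ∀ g : A7, ct g = {2, 2} → (ev (ρ g) 1 = 15 ∧ LinearMap.trace E _ (ρ g) = 3) ∨ ev (ρ g) 1 = 11 := by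
    intro g hg
    have h := T.two (by norm_num) (θ g) (hne g (ne_one_of_ct hg (by decide)))
      (by rw [← map_mul, ← pow_two, pow_of_ct hg (by rfl), map_one])
    rcases h with h | h
    · exact Or.inl ⟨h.1, h.2.2.1⟩
    · exact Or.inr h.1
  -- the involutions have type 15
  have hf2 : ∀ g : A7, ct g = {2, 2} → ev (ρ g) 1 = 15 ∧ LinearMap.trace E _ (ρ g) = 3 := by
    have hall : ev (ρ a0) 1 ≠ 11 := by
      intro h11
      have c11 : ∀ g : A7, ct g = {2, 2} → ev (ρ g) 1 = 11 := fun g hg => (ns2.ev ρ hg ct_a0).trans h11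
      -- the four-groups
      have key : ∀ a b t : A7, ct a = {2, 2} → ct b = {2, 2} → ct (a * b) = {2, 2} → a * a = 1 → b * b = 1 →
          a * b = b * a → t ^ 3 = 1 → t * a * t⁻¹ = b → t * b * t⁻¹ = a * b → ev (ρ t) 1 ≤ 11 := by
        intro a b t ha hb hab ha2 hb2 hcm ht hta htb
        have e1 := H952.F4.Eig.four two_ne ρ ha2 hb2 hcm
        have e2 := H952.F4.Eig.a4 two_ne ρ ha2 hb2 hcm ht hta htb
        rw [c11 a ha, c11 b hb, c11 _ hab, dim27] at e1
        rw [dim27] at e2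
        have e3 : finrank E ↥(es (ρ a) 1 ⊓ es (ρ b) 1 ⊓ es (ρ t) 1) ≤ finrank E ↥(es (ρ a) 1 ⊓ es (ρ b) 1) :=
          Submodule.finrank_mono inf_le_left
        omega
      have k0 := key a0 b0 t0 (by decide +kernel) (by decide +kernel) (by decide +kernel) (by decide +kernel)
        (by decide +kernel) (by decide +kernel) (by decide +kernel) (by decide +kernel) (by decide +kernel)
      have k1 := key a1 b1 t1 (by decide +kernel) (by decide +kernel) (by decide +kernel) (by decide +kernel)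
        (by decide +kernel) (by decide +kernel) (by decide +kernel) (by decide +kernel) (by decide +kernel)
      have l0 : ev (ρ t0) 1 = 9 := by
        rcases g3 ns3 (by decide) (by rfl) t0 ct_t0 with h | h <;> omega
      have l1 : ev (ρ t1) 1 = 9 := by
        rcases g3 ns33 (by decide) (by rfl) t1 ct_t1 with h | h <;> omega
      have h9 := H952.F4.Eig.nine three_ne ρ (z := zz) (w := ww) (s := sg) (by decide +kernel) (by decide +kernel)
        (by decide +kernel) (by decide +kernel) (by decide +kernel) (by decide +kernel)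
      rw [dim27, c11 sg (by decide +kernel), ns3.ev ρ (g := zz) (by decide +kernel) ct_t0,
        ns3.ev ρ (g := ww) (by decide +kernel) ct_t0, ns33.ev ρ (g := zz * ww) (by decide +kernel) ct_t1,
        ns33.ev ρ (g := zz * ww⁻¹) (by decide +kernel) ct_t1, l0, l1] at h9
      omega
    intro g hg
    rcases g2 g hg with h | h
    · exact h
    · exact absurd ((ns2.ev ρ ct_a0 hg).trans h) hall
  -- the elements of order 3 have type 9
  have hf3 : ∀ g : A7, ct g = {3} ∨ ct g = {3, 3} → ev (ρ g) 1 = 9 ∧ LinearMap.trace E _ (ρ g) = 0 := by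
    obtain ⟨x, y, hx, hy, hxy, hs⟩ := hsc gen7a
    have k7 := g7 _ hxy
    have kx := g3 ns3 (by decide) (by rfl) x hx
    have ky := g3 ns33 (by decide) (by rfl) y hy
    intro g hg
    rcases hg with hg | hg
    · have e := ns3.ev ρ hx hg
      rcases g3 ns3 (by decide) (by rfl) g hg with h | h
      · omega
      · exact h
    · have e := ns33.ev ρ hy hg
      rcases g3 ns33 (by decide) (by rfl) g hg with h | h
      · omega
      · exact h
  -- the elements of order 4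
  have hf4 : ∀ g : A7, ct g = {4, 2} → LinearMap.trace E _ (ρ g) = -1 := by
    obtain ⟨x, y, hx, hy, hxy, hs⟩ := hsc gen7b
    have k7 := g7 _ hxy
    have k2 := (hf2 x hx).1
    have e4 : ∀ g : A7, ct g = {4, 2} → θ g ^ 4 = 1 := fun g hg => by
      rw [← map_pow, pow_of_ct hg (by rfl), map_one]
    have e2 : ∀ g : A7, ct g = {4, 2} → g * g ≠ 1 := by
      intro g hg h
      have ho := order_of_ct hg (k := 4) (by rfl)
      have h' : orderOf g ∣ 2 := orderOf_dvd_of_pow_eq_one (by rw [pow_two]; exact h)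
      rw [ho] at h'
      omega
    intro g hg
    have h15 : ev (V E (θ g * θ g)) 1 = 15 := by
      rw [← map_mul, ← hρ]
      exact (hf2 _ (type_two (by
        have := pow_of_ct hg (k := 4) (by rfl)
        rw [← this]
        simp only [pow_succ, pow_zero, one_mul, mul_assoc]) (e2 g hg))).1
    have h := T.four_real (by norm_num) (θ g) (by rw [← map_mul]; exact hne _ (e2 g hg)) (e4 g hg) (hreal ns42 g hg)
    have e := ns42.ev ρ hy hg
    rw [hρ g] at e ⊢
    rcases h with h | h | h | h | h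
    · omega
    · omega
    · omega
    · exact h.2.2.2.1
    · omega
  -- the elements of order 5
  have hf5 : ∀ g : A7, ct g = {5} → ev (ρ g) 1 = 7 ∧ LinearMap.trace E _ (ρ g) = 2 := by
    intro g hg
    have g5 : g ^ 5 = 1 := pow_of_ct hg (by rfl)
    have hg1 : g ≠ 1 := ne_one_of_ct hg (by decide)
    obtain ⟨k, hk⟩ := ns5 g (g ^ 2) hg (type_five (by rw [← pow_mul, mul_comm, pow_mul, g5, one_pow]) (by
      intro h
      apply hg1
      have : g = (g ^ 2) ^ 3 * (g ^ 5)⁻¹ := by group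
      rw [this, h, g5, one_pow, inv_one, mul_one]))
    have h := T.five_rat (by norm_num) (θ g) (hne g hg1) (by rw [← map_pow, g5, map_one])
      ⟨θ k, by rw [← map_inv, ← map_mul, ← map_mul, hk, map_pow]⟩
    exact ⟨h.1, h.2.2.1⟩
  -- the traces
  have htr : ∀ h : ↥(alternatingGroup (Fin 6)), LinearMap.trace E _ (ρ (emb 6 h)) = ((cf h : ℤ) : E) := by
    intro h
    have hinj : ∀ {k : ↥(alternatingGroup (Fin 6))}, k ≠ 1 → emb 6 k ≠ 1 := by
      intro k hk hh
      exact hk (emb_inj 6 (hh.trans (map_one (emb 6)).symm))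
    unfold cf
    by_cases c1 : h = 1
    · rw [if_pos c1, c1, map_one, map_one]
      have : LinearMap.trace E (I27 → E) 1 = (finrank E (I27 → E) : E) := LinearMap.trace_one E _
      rw [this, dim27]
      norm_num
    rw [if_neg c1]
    by_cases c2 : h * h = 1
    · rw [if_pos c2, (hf2 _ (type_two (by rw [← map_mul, c2, map_one]) (hinj c1))).2]
      norm_num
    rw [if_neg c2]
    by_cases c3 : h * h * h = 1
    · rw [if_pos c3, (hf3 _ (type_three (by
        rw [← map_pow]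
        simp only [pow_succ, pow_zero, one_mul, c3, map_one]) (hinj c1))).2]
      norm_num
    rw [if_neg c3]
    by_cases c4 : h * h * h * h = 1
    · rw [if_pos c4, hf4 _ (type_four (by
        rw [← map_pow]
        simp only [pow_succ, pow_zero, one_mul, c4, map_one]) (by rw [← map_mul]; exact hinj c2))]
      norm_num
    rw [if_neg c4, (hf5 _ (type_five (by
        rw [← map_pow]
        have := ords h
        simp only [c1, c2, c3, c4, false_or] at this
        simp only [pow_succ, pow_zero, one_mul, this, map_one]) (hinj c1))).2]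
    norm_num
  -- the dimensions of the fixed vectors
  have n360 : ((Fintype.card ↥(alternatingGroup (Fin 6)) : ℕ) : E) ≠ 0 := by
    rw [card_six]
    intro h
    have : (1 : E) = 0 := by
      rw [Nat.cast_ofNat] at h
      linear_combination (103 : E) * c7 - 2 * h
    exact one_ne_zero this
  have n60 : ((Fintype.card ↥(alternatingGroup (Fin 5)) : ℕ) : E) ≠ 0 := by
    rw [card_five]
    intro h
    have : (1 : E) = 0 := by
      rw [Nat.cast_ofNat] at h
      linear_combination (-17 : E) * c7 + 2 * h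
    exact one_ne_zero this
  have d6 := sum_trace (MonoidHom.comp ρ (emb 6) : Representation E _ (I27 → E)) n360
  have d5 := sum_trace (MonoidHom.comp ρ ((emb 6).comp (emb 5)) : Representation E _ (I27 → E)) n60
  have s6 : ∑ b, LinearMap.trace E (I27 → E) ((MonoidHom.comp ρ (emb 6) : Representation E _ (I27 → E)) b) =
      ((360 : ℤ) : E) := by
    rw [← sum_six, Int.cast_sum]
    exact Fintype.sum_congr _ _ htr
  rw [s6] at d6
  have hcf : ∀ h : ↥(alternatingGroup (Fin 5)), cf (emb 5 h) = cf h := by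
    intro h
    have hinj : ∀ {k : ↥(alternatingGroup (Fin 5))}, emb 5 k = 1 ↔ k = 1 := by
      intro k
      exact ⟨fun hh => emb_inj 5 (hh.trans (map_one (emb 5)).symm), fun hh => by rw [hh, map_one]⟩
    unfold cf
    simp only [← map_mul, hinj]
  have s5 : ∑ b, LinearMap.trace E (I27 → E) ((MonoidHom.comp ρ ((emb 6).comp (emb 5)) :
      Representation E _ (I27 → E)) b) = ((120 : ℤ) : E) := by
    rw [← sum_five, Int.cast_sum]
    refine Fintype.sum_congr _ _ fun h => ?_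
    rw [← hcf h]
    exact htr (emb 5 h)
  rw [s5] at d5
  have hn6 : Representation.invariants (MonoidHom.comp ρ (emb 6) : Representation E _ (I27 → E)) ≠ ⊥ := by
    intro h
    rw [h, finrank_bot, Nat.cast_zero, mul_zero] at d6
    apply n360
    rw [card_six]
    exact_mod_cast d6
  have hn5 : finrank E ↥(Representation.invariants (MonoidHom.comp ρ ((emb 6).comp (emb 5)) :
      Representation E _ (I27 → E))) ≤ 2 := by
    have hle : finrank E ↥(Representation.invariants (MonoidHom.comp ρ ((emb 6).comp (emb 5)) :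
      Representation E _ (I27 → E))) ≤ 7 := by
      let z : ↥(alternatingGroup (Fin 5)) := H952.F4.z5
      have hz1 : z ≠ 1 := H952.F4.Cases.Five.z5_ne
      have hz5 : z ^ 5 = 1 := H952.F4.Cases.Five.z5_five
      have hct := type_five (g := emb 6 (emb 5 z)) (by rw [← map_pow, ← map_pow, hz5, map_one, map_one]) (by
        intro h
        exact hz1 (emb_inj 5 ((emb_inj 6 (h.trans (map_one (emb 6)).symm)).trans (map_one (emb 5)).symm)))
      refine le_trans ?_ (hf5 _ hct).1.le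
      apply Submodule.finrank_mono
      intro v hv
      rw [Representation.mem_invariants] at hv
      rw [Module.End.mem_eigenspace_iff, one_smul]
      exact hv z
    generalize finrank E ↥(Representation.invariants (MonoidHom.comp ρ ((emb 6).comp (emb 5)) :
      Representation E _ (I27 → E))) = d at d5 hle
    rw [card_five] at d5
    have hd : ((d : ℤ) - 2 : ℤ) ∈ ({k : ℤ | ((k : ℤ) : E) = 0} : Set ℤ) := by
      show (((d : ℤ) - 2 : ℤ) : E) = 0
      have h60 : (60 : E) * (((d : ℤ) - 2 : ℤ) : E) = 0 := by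
        push_cast at d5 ⊢
        linear_combination -d5
      have n60' : (60 : E) ≠ 0 := by
        rw [card_five] at n60
        exact_mod_cast n60
      exact (mul_eq_zero.1 h60).resolve_left n60'
    have hd' : (7 : ℤ) ∣ (d : ℤ) - 2 := by
      have := (CharP.intCast_eq_zero_iff E 7 ((d : ℤ) - 2)).1 hd
      exact_mod_cast this
    omega
  -- the end
  exact endgame c7 (ρ := ρ) (ρ' := (MonoidHom.comp (V' E) θ : Representation E A7 (I27 → E)))
    (LinearMap.mk₂ E (fun x y => tf x y) (fun x x' y => tf_add_left x x' y) (fun c x y => tf_smul_left c x y)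
      (fun x y y' => tf_add_right x y y') (fun c x y => tf_smul_right c x y))
    (fun g x y => tf_act (θ g) x y) (fun y hy => tf_nondeg fun x => (tf_comm y x).trans (hy x))
    (fun x hx => tf_nondeg fun y => hx y) i1 h2 hn6 hn5

end

end Cfsg.Agent.H710.E6C
end

-- part: H710/E6C/Cases
section
/-!
# S5927: `five_two` and `seven_seven` (helper710)
-/

set_option autoImplicit false

namespace Cfsg.Agent.H163.E6.Cases

open Cfsg Cfsg.Lie Module
open Cfsg.Agent.ChevalleyStructure.E6Min.Tables Cfsg.Agent.ChevalleyStructure.E6Min.Basic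
  Cfsg.Agent.ChevalleyStructure.E6Min.Adjoint

universe u

variable {F : Type u} [Field F] [Finite F] {H : Subgroup ↥(chevE6.group F)}

theorem seven_seven [CharP F 7] {φ : ↥(alternatingGroup (Fin 7)) →* ↥(chevE6.group F)} (hS : Sit H 7 φ)
    {ψ : ↥(alternatingGroup (Fin 7)) →* ↥(Zgrp F)} (hψ : Lift φ ψ) : False := by
  have : Fact (Nat.Prime 7) := ⟨by norm_num⟩
  have hch : CharP (AlgebraicClosure F) 7 := charP_of_injective_algebraMap
    (algebraMap F (AlgebraicClosure F)).injective 7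
  obtain ⟨j, hj⟩ := Sing.exists_emb (algebraMap F (AlgebraicClosure F))
  obtain ⟨n1, n2⟩ := hS.no_fixed ψ hψ
  exact H710.E6C.core7 (Tor.tab_closed 7) Act.tf_act (fun g hg => (Act.ad_eq_one_iff g).1 hg) (j.comp ψ)
    (H882.E6Five.inv_ext _ j hj ψ n1) (H882.E6Five.inv_ext' _ j hj ψ n2)

theorem five_two [CharP F 2] {φ : ↥(alternatingGroup (Fin 5)) →* ↥(chevE6.group F)} (hS : Sit H 5 φ) : False := by
  have : Fact (Nat.Prime 2) := ⟨Nat.prime_two⟩
  rcases Cov.exists_lift (n := 5) le_rfl hS.inj with ⟨ψ, hψ⟩ | ⟨h | h, -⟩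
  · obtain ⟨n1, n2⟩ := hS.no_fixed ψ hψ
    exact H710.E6C.core5 (Tor.tab 2) Act.tf_act (fun g hg => (Act.ad_eq_one_iff g).1 hg) ψ n1 n2
  · omega
  · omega

end Cfsg.Agent.H163.E6.Cases
end

-- part: H16/E6/CovOdd
section
/-!
# S5927, S5928: the covers in odd characteristic (helper16)

* `Alt6.aut` : an involutive automorphism of `A₆` fixing `(0 1 2)` and `(3 4 5)` is trivial (action on the ten Sylow
  3-subgroups);
* `Cov.seven_sit` : `H = A₇` in the cover case, from `Sit`;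
* `Cov.cov_odd` : the cover case from `Cen` and an `H`-stable line of the Lie algebra.
-/

set_option autoImplicit false
set_option linter.unusedSectionVars false

namespace Cfsg.Agent.H16.E6.Alt6

open Subgroup Equiv

section abs
variable {G : Type*} [Group G]

/-- an involutive automorphism centralizing `E` -/
theorem abs_fix (E N : Subgroup G) (f : G →* G) (hff : ∀ g, f (f g) = g) (hfE : ∀ e ∈ E, f e = e)
    (hfN : ∀ n ∈ N, f n ∈ N) (hE2 : ∀ e ∈ E, e * e = 1 → e = 1) {g0 : G} (hg0 : g0 ∉ N)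
    (hdec : ∀ g, g ∈ N ∨ ∃ e ∈ E, ∃ n ∈ N, g = e * g0 * n) (hfree : ∀ e ∈ E, g0⁻¹ * e * g0 ∈ N → e = 1)
    (hcore : N.normalCore = ⊥) (g : G) : f g = g := by
  have hfN' : ∀ g, f g ∈ N → g ∈ N := fun g hg => by
    have := hfN _ hg
    rwa [hff] at this
  obtain ⟨e0, he0, n0, hn0, h1⟩ := (hdec (f g0)).resolve_left (fun h => hg0 (hfN' _ h))
  have h2 : e0 * e0 = 1 := by
    have h3 : g0 = e0 * (e0 * g0 * n0) * f n0 := by
      have h4 := hff g0
      rw [h1, map_mul, map_mul, hfE e0 he0, h1] at h4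
      exact h4.symm
    have h4 : g0⁻¹ * (e0 * e0) * g0 = (n0 * f n0)⁻¹ := by
      rw [eq_inv_iff_mul_eq_one, show g0⁻¹ * (e0 * e0) * g0 * (n0 * f n0) = g0⁻¹ * (e0 * (e0 * g0 * n0) * f n0) by group,
        ← h3, inv_mul_cancel]
    refine hfree _ (mul_mem he0 he0) ?_
    rw [h4]
    exact inv_mem (mul_mem hn0 (hfN _ hn0))
  have h3 : e0 = 1 := hE2 _ he0 h2
  rw [h3, one_mul] at h1
  have h4 : ∀ g, g⁻¹ * f g ∈ N := by
    intro g
    rcases hdec g with h | ⟨e, he, n, hn, rfl⟩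
    · exact mul_mem (inv_mem h) (hfN _ h)
    · rw [map_mul, map_mul, hfE e he, h1]
      have : (e * g0 * n)⁻¹ * (e * (g0 * n0) * f n) = n⁻¹ * (n0 * f n) := by group
      rw [this]
      exact mul_mem (inv_mem hn) (mul_mem hn0 (hfN _ hn))
  have h5 : g⁻¹ * f g ∈ N.normalCore := by
    intro h
    have h6 := h4 (g * h⁻¹)
    rw [map_mul, map_inv] at h6
    have h7 : h⁻¹⁻¹ * (g⁻¹ * f g) * h⁻¹ = ((g * h⁻¹)⁻¹ * (f g * (f h)⁻¹)) * (f h * h⁻¹) := by group
    have h8 : f h * h⁻¹ ∈ N := by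
      have := h4 h⁻¹
      rw [inv_inv, map_inv] at this
      have h9 := inv_mem this
      rwa [mul_inv_rev, inv_inv] at h9
    have h9 : h * (g⁻¹ * f g) * h⁻¹ = ((g * h⁻¹)⁻¹ * (f g * (f h)⁻¹)) * (f h * h⁻¹) := by group
    rw [h9]
    exact mul_mem h6 h8
  rw [hcore, mem_bot, inv_mul_eq_one] at h5
  exact h5.symm

end abs

/-! ### the alternating group of degree 6 -/

def pa : Perm (Fin 6) := swap (0 : Fin 6) 1 * swap (1 : Fin 6) 2
def pb : Perm (Fin 6) := swap (3 : Fin 6) 4 * swap (4 : Fin 6) 5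
def pg : Perm (Fin 6) := swap (2 : Fin 6) 3 * swap (0 : Fin 6) 1

set_option maxRecDepth 100000 in
theorem cent_a : ∀ g : Perm (Fin 6), Perm.sign g = 1 → g * pa = pa * g → ∃ i j : Fin 3, g = pa ^ (i : ℕ) * pb ^ (j : ℕ) := by
  simp only [↓Cfsg.Agent.PermCode.M, Cfsg.Agent.PermCode.P6.R, Cfsg.Agent.PermCode.B]
  decide +kernel

theorem cent_b : ∀ g : Perm (Fin 6), Perm.sign g = 1 → g * pb = pb * g → ∃ i j : Fin 3, g = pa ^ (i : ℕ) * pb ^ (j : ℕ) := by
  simp only [↓Cfsg.Agent.PermCode.M, Cfsg.Agent.PermCode.P6.R, Cfsg.Agent.PermCode.B]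
  decide +kernel

/-- `g` preserves the partition `{012 | 345}` -/
def ok (x y z : Fin 6) : Bool := (x.val / 3 == y.val / 3) && (y.val / 3 == z.val / 3)

theorem reach : ∀ x y z : Fin 6, x ≠ y → y ≠ z → x ≠ z → ok x y z = false → ∃ i j : Fin 3,
    ok ((pg⁻¹ * pa ^ (i : ℕ) * pb ^ (j : ℕ)) x) ((pg⁻¹ * pa ^ (i : ℕ) * pb ^ (j : ℕ)) y)
      ((pg⁻¹ * pa ^ (i : ℕ) * pb ^ (j : ℕ)) z) = true := by
  decide +kernel

theorem ok_conj : ∀ x y z : Fin 6, x ≠ y → y ≠ z → x ≠ z → ok x y z = true →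
    swap x y * swap y z = pa ∨ swap x y * swap y z = pa⁻¹ ∨ swap x y * swap y z = pb ∨ swap x y * swap y z = pb⁻¹ := by
  decide +kernel

theorem free : ∀ i j : Fin 3, (pg⁻¹ * pa ^ (i : ℕ) * pb ^ (j : ℕ) * pg) * pa * (pg⁻¹ * pa ^ (i : ℕ) * pb ^ (j : ℕ) * pg)⁻¹ * pa =
    pa * ((pg⁻¹ * pa ^ (i : ℕ) * pb ^ (j : ℕ) * pg) * pa * (pg⁻¹ * pa ^ (i : ℕ) * pb ^ (j : ℕ) * pg)⁻¹) → i = 0 ∧ j = 0 := by
  decide +kernel

theorem pg_not : pg * pa * pg⁻¹ * pa ≠ pa * (pg * pa * pg⁻¹) := by decide +kernel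


/-- the elements of the alternating group -/
def ea : ↥(alternatingGroup (Fin 6)) := ⟨pa, Perm.mem_alternatingGroup.2 (by decide)⟩
def eb : ↥(alternatingGroup (Fin 6)) := ⟨pb, Perm.mem_alternatingGroup.2 (by decide)⟩
def eg : ↥(alternatingGroup (Fin 6)) := ⟨pg, Perm.mem_alternatingGroup.2 (by decide)⟩

theorem coe_ea : (ea : Perm (Fin 6)) = pa := rfl
theorem coe_eb : (eb : Perm (Fin 6)) = pb := rfl
theorem coe_eg : (eg : Perm (Fin 6)) = pg := rfl

theorem ea_pow : ea ^ 3 = 1 := Subtype.ext (by decide +kernel)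
theorem eb_pow : eb ^ 3 = 1 := Subtype.ext (by decide +kernel)
theorem ea_eb : Commute ea eb := Subtype.ext (by decide +kernel)

theorem mem_cent_a {g : ↥(alternatingGroup (Fin 6))} (h : g * ea = ea * g) : ∃ i j : Fin 3, g = ea ^ (i : ℕ) * eb ^ (j : ℕ) := by
  obtain ⟨i, j, hij⟩ := cent_a g (Perm.mem_alternatingGroup.1 g.2) (congrArg Subtype.val h)
  exact ⟨i, j, Subtype.ext hij⟩

theorem mem_cent_b {g : ↥(alternatingGroup (Fin 6))} (h : g * eb = eb * g) : ∃ i j : Fin 3, g = ea ^ (i : ℕ) * eb ^ (j : ℕ) := by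
  obtain ⟨i, j, hij⟩ := cent_b g (Perm.mem_alternatingGroup.1 g.2) (congrArg Subtype.val h)
  exact ⟨i, j, Subtype.ext hij⟩

theorem comm_iff (g : ↥(alternatingGroup (Fin 6))) : g * ea = ea * g ↔ g * eb = eb * g := by
  constructor
  · intro h
    obtain ⟨i, j, rfl⟩ := mem_cent_a h
    exact ((ea_eb.pow_left _).mul_left ((Commute.refl eb).pow_left _)).eq
  · intro h
    obtain ⟨i, j, rfl⟩ := mem_cent_b h
    exact (((Commute.refl ea).pow_left _).mul_left (ea_eb.symm.pow_left _)).eq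

/-- the Sylow 3-subgroup -/
def E : Subgroup ↥(alternatingGroup (Fin 6)) where
  carrier := {g | g * ea = ea * g}
  mul_mem' {x y} hx hy := (Commute.mul_left (show Commute x ea from hx) (show Commute y ea from hy)).eq
  one_mem' := (Commute.one_left ea).eq
  inv_mem' {x} hx := (Commute.inv_left (show Commute x ea from hx)).eq

theorem mem_E {g : ↥(alternatingGroup (Fin 6))} : g ∈ E ↔ g * ea = ea * g := Iff.rfl

/-- its normalizer -/
def N : Subgroup ↥(alternatingGroup (Fin 6)) := normalizer (E : Set ↥(alternatingGroup (Fin 6)))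

theorem mem_N {g : ↥(alternatingGroup (Fin 6))} : g ∈ N ↔ ∀ h, h ∈ E ↔ g * h * g⁻¹ ∈ E := mem_normalizer_iff

/-- elements whose conjugate of `a` is one of `a^±1, b^±1` -/
theorem mem_N_of {g : ↥(alternatingGroup (Fin 6))}
    (h : g * ea * g⁻¹ = ea ∨ g * ea * g⁻¹ = ea⁻¹ ∨ g * ea * g⁻¹ = eb ∨ g * ea * g⁻¹ = eb⁻¹) : g ∈ N := by
  rw [mem_N]
  intro x
  have h1 : x ∈ E ↔ Commute (g * x * g⁻¹) (g * ea * g⁻¹) := by
    rw [mem_E]
    constructor
    · intro hx
      change g * x * g⁻¹ * (g * ea * g⁻¹) = g * ea * g⁻¹ * (g * x * g⁻¹)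
      calc g * x * g⁻¹ * (g * ea * g⁻¹) = g * (x * ea) * g⁻¹ := by group
        _ = g * (ea * x) * g⁻¹ := by rw [hx]
        _ = _ := by group
    · intro hx
      have h2 : g * (x * ea) * g⁻¹ = g * (ea * x) * g⁻¹ := by
        calc g * (x * ea) * g⁻¹ = g * x * g⁻¹ * (g * ea * g⁻¹) := by group
          _ = g * ea * g⁻¹ * (g * x * g⁻¹) := hx.eq
          _ = _ := by group
      exact mul_left_cancel (mul_right_cancel h2)
  rw [h1]
  rcases h with h | h | h | h <;> rw [h]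
  · exact Iff.rfl
  · rw [Commute.inv_right_iff]; exact Iff.rfl
  · exact (comm_iff _).symm
  · rw [Commute.inv_right_iff]; exact (comm_iff _).symm

theorem mem_N_of_ok {g : ↥(alternatingGroup (Fin 6))}
    (h : ok ((g : Perm (Fin 6)) 0) ((g : Perm (Fin 6)) 1) ((g : Perm (Fin 6)) 2) = true) : g ∈ N := by
  have hi := (g : Perm (Fin 6)).injective
  have h1 := ok_conj _ _ _ (hi.ne (by decide)) (hi.ne (by decide)) (hi.ne (by decide)) h
  have h2 : swap ((g : Perm (Fin 6)) 0) ((g : Perm (Fin 6)) 1) * swap ((g : Perm (Fin 6)) 1) ((g : Perm (Fin 6)) 2) =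
      ((g * ea * g⁻¹ : ↥(alternatingGroup (Fin 6))) : Perm (Fin 6)) := by
    change _ = (g : Perm (Fin 6)) * (swap (0 : Fin 6) 1 * swap (1 : Fin 6) 2) * (g : Perm (Fin 6))⁻¹
    rw [Equiv.swap_apply_apply, Equiv.swap_apply_apply]
    group
  rw [h2] at h1
  apply mem_N_of
  rcases h1 with h1 | h1 | h1 | h1
  · exact Or.inl (Subtype.ext h1)
  · exact Or.inr (Or.inl (Subtype.ext h1))
  · exact Or.inr (Or.inr (Or.inl (Subtype.ext h1)))
  · exact Or.inr (Or.inr (Or.inr (Subtype.ext h1)))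

theorem dec (g : ↥(alternatingGroup (Fin 6))) : g ∈ N ∨ ∃ e ∈ E, ∃ n ∈ N, g = e * eg * n := by
  have hi := (g : Perm (Fin 6)).injective
  by_cases h : ok ((g : Perm (Fin 6)) 0) ((g : Perm (Fin 6)) 1) ((g : Perm (Fin 6)) 2) = true
  · exact Or.inl (mem_N_of_ok h)
  · right
    obtain ⟨i, j, hij⟩ := reach _ _ _ (hi.ne (by decide : (0 : Fin 6) ≠ 1)) (hi.ne (by decide : (1 : Fin 6) ≠ 2))
      (hi.ne (by decide : (0 : Fin 6) ≠ 2)) (Bool.not_eq_true _ ▸ h)
    have h1 : eg⁻¹ * ea ^ (i : ℕ) * eb ^ (j : ℕ) * g ∈ N := mem_N_of_ok hij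
    refine ⟨(ea ^ (i : ℕ) * eb ^ (j : ℕ))⁻¹, inv_mem ?_, _, h1, by group⟩
    exact (((Commute.refl ea).pow_left _).mul_left (ea_eb.symm.pow_left _)).eq

theorem free' : ∀ e ∈ E, eg⁻¹ * e * eg ∈ N → e = 1 := by
  intro e he h
  obtain ⟨i, j, rfl⟩ := mem_cent_a he
  have h1 := (mem_N.1 h ea).1 rfl
  rw [mem_E] at h1
  obtain ⟨rfl, rfl⟩ := free i j (by
    have h2 := congrArg Subtype.val h1
    simpa only [Subgroup.coe_mul, Subgroup.coe_inv, Subgroup.coe_pow, mul_assoc, mul_inv_rev, inv_inv, coe_ea, coe_eb,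
      coe_eg] using h2)
  rfl

/-- **An involutive automorphism of `A₆` fixing `(0 1 2)`, `(3 4 5)` is trivial.** -/
theorem aut (f : ↥(alternatingGroup (Fin 6)) →* ↥(alternatingGroup (Fin 6))) (hff : ∀ g, f (f g) = g) (ha : f ea = ea)
    (hb : f eb = eb) (g : ↥(alternatingGroup (Fin 6))) : f g = g := by
  have hfE : ∀ e ∈ E, f e = e := by
    intro e he
    obtain ⟨i, j, rfl⟩ := mem_cent_a he
    rw [map_mul, map_pow, map_pow, ha, hb]
  have hN : eg ∉ N := by
    intro h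
    have h1 : eg * ea * eg⁻¹ * ea = ea * (eg * ea * eg⁻¹) := mem_E.1 ((mem_N.1 h ea).1 (mem_E.2 (Eq.refl (ea * ea))))
    have h2 := congrArg Subtype.val h1
    simp only [Subgroup.coe_mul, Subgroup.coe_inv] at h2
    exact pg_not h2
  refine abs_fix E N f hff hfE ?_ ?_ hN dec free' ?_ g
  · intro n hn
    rw [mem_N] at hn ⊢
    intro x
    have h2 : ∀ y, y ∈ E ↔ f y ∈ E := by
      intro y
      constructor
      · intro hy; rw [hfE y hy]; exact hy
      · intro hy
        have := hfE _ hy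
        rw [hff] at this
        rw [this]; exact hy
    rw [h2 x, hn (f x), h2, map_mul, map_mul, map_inv, hff x]
  · intro e he hee
    obtain ⟨i, j, rfl⟩ := mem_cent_a he
    have h1 : (ea ^ (i : ℕ) * eb ^ (j : ℕ)) ^ 3 = 1 := by
      rw [(ea_eb.pow_pow _ _).mul_pow, ← pow_mul, ← pow_mul, mul_comm (i : ℕ), mul_comm (j : ℕ), pow_mul, pow_mul,
        ea_pow, eb_pow, one_pow, one_pow, mul_one]
    rw [pow_succ, pow_two, hee, one_mul] at h1
    exact h1
  · have hs : IsSimpleGroup ↥(alternatingGroup (Fin 6)) := alternatingGroup.isSimpleGroup (by simp)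
    rcases hs.eq_bot_or_eq_top_of_normal _ N.normalCore_normal with h | h
    · exact h
    · exfalso
      apply hN
      apply N.normalCore_le
      rw [h]
      exact mem_top _

end Cfsg.Agent.H16.E6.Alt6

namespace Cfsg.Agent.H163.E6.Cov

open Cfsg Cfsg.Lie Module Subgroup Equiv
open Cfsg.Agent.ChevalleyStructure.E6Min.Tables Cfsg.Agent.ChevalleyStructure.E6Min.Basic
  Cfsg.Agent.ChevalleyStructure.E6Min.Adjoint
open Cfsg.Agent.H952.F4 (ev es matRep MaxAlt)
open Cfsg.Agent.H16.E6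

universe u

variable {F : Type u} [Field F] [Finite F] {H : Subgroup ↥(chevE6.group F)} {n : ℕ}
  {φ : ↥(alternatingGroup (Fin n)) →* ↥(chevE6.group F)}

/-- `H = A₇` in the cover case -/
theorem seven_sit {φ : ↥(alternatingGroup (Fin 7)) →* ↥(chevE6.group F)} (hM : Sit H 7 φ) {ω : Fˣ} (hc : Cover φ ω) :
    H = φ.range := by
  classical
  refine le_antisymm ?_ hM.le
  intro h hh
  -- the automorphism
  have hex : ∀ g ∈ H, ∀ x, ∃ y, φ y = g * φ x * g⁻¹ := fun g hg x => hM.norm g hg (φ x) ⟨x, rfl⟩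
  choose f hf using hex h hh
  have hinj : Function.Injective f := by
    intro x y hxy
    have h1 := hf x
    rw [hxy, hf y] at h1
    exact hM.inj (mul_left_cancel (mul_right_cancel h1)).symm
  let α : MulAut ↥(alternatingGroup (Fin 7)) := MulEquiv.ofBijective
    (MonoidHom.mk' f (fun x y => hM.inj (by rw [hf, map_mul, map_mul, hf, hf]; group)))
    (Finite.injective_iff_bijective.mp hinj)
  obtain ⟨s, hs⟩ := (S2119.result 7 (by norm_num) (by norm_num)).2 α
  have hs' : ∀ x : ↥(alternatingGroup (Fin 7)), ((f x : ↥(alternatingGroup (Fin 7))) : Perm (Fin 7)) = s * x * s⁻¹ := by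
    intro x
    have h1 : (MulAut.conjNormal s x : ↥(alternatingGroup (Fin 7))) = f x := by rw [hs]; rfl
    rw [← h1, MulAut.conjNormal_apply]
  rcases Int.units_eq_one_or (Perm.sign s) with hsg | hsg
  · -- even
    let t : ↥(alternatingGroup (Fin 7)) := ⟨s, Perm.mem_alternatingGroup.mpr hsg⟩
    have hft : ∀ x, f x = t * x * t⁻¹ := fun x => Subtype.ext (hs' x)
    have hm : h * (φ t)⁻¹ = 1 := by
      refine hM.cent _ (mul_mem hh (inv_mem (hM.le ⟨t, rfl⟩))) fun x => ?_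
      have h1 : h * φ (t⁻¹ * x * t) * h⁻¹ = φ x := by
        rw [← hf, hft]; congr 1; group
      rw [map_mul, map_mul, map_inv] at h1
      calc φ x * (h * (φ t)⁻¹) = h * ((φ t)⁻¹ * φ x * φ t) * h⁻¹ * (h * (φ t)⁻¹) := by rw [h1]
        _ = h * (φ t)⁻¹ * φ x := by group
    exact ⟨t, (mul_inv_eq_one.mp hm).symm⟩
  · -- odd
    exfalso
    let t : ↥(alternatingGroup (Fin 7)) := ⟨s⁻¹ * swap (0 : Fin 7) 1, Perm.mem_alternatingGroup.mpr (by
      rw [map_mul, map_inv, hsg]; decide)⟩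
    let a : ↥(alternatingGroup (Fin 7)) := ⟨swap (1 : Fin 7) 0 * swap (1 : Fin 7) 2, by rw [Perm.mem_alternatingGroup]; decide⟩
    let b : ↥(alternatingGroup (Fin 7)) := ⟨swap (4 : Fin 7) 3 * swap (4 : Fin 7) 5, by rw [Perm.mem_alternatingGroup]; decide⟩
    have ha : (a : Perm (Fin 7)).cycleType = {3} := by
      have h1 : Perm.IsThreeCycle (swap (1 : Fin 7) 0 * swap (1 : Fin 7) 2) :=
        Perm.isThreeCycle_swap_mul_swap_same (by decide) (by decide) (by decide)
      exact h1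
    have hb : (b : Perm (Fin 7)).cycleType = {3} := by
      have h1 : Perm.IsThreeCycle (swap (4 : Fin 7) 3 * swap (4 : Fin 7) 5) :=
        Perm.isThreeCycle_swap_mul_swap_same (by decide) (by decide) (by decide)
      exact h1
    have hab : (a : Perm (Fin 7)).Disjoint b := by
      intro i
      revert i
      decide
    obtain ⟨x, hx⟩ := ad_surjective (φ a)
    obtain ⟨y, hy⟩ := ad_surjective (φ b)
    obtain ⟨k, hk⟩ := ad_surjective (h * φ t)
    have hconj : ∀ c : ↥(alternatingGroup (Fin 7)), ∀ d : ↥(alternatingGroup (Fin 7)),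
        (swap (0 : Fin 7) 1 * (c : Perm (Fin 7)) * (swap (0 : Fin 7) 1)⁻¹ = (d : Perm (Fin 7))) → (h * φ t) * φ c * (h * φ t)⁻¹ = φ d := by
      intro c d hcd
      have h1 : f (t * c * t⁻¹) = d := by
        apply Subtype.ext
        rw [hs', ← hcd]
        change s * (s⁻¹ * swap (0 : Fin 7) 1 * (c : Perm (Fin 7)) * (s⁻¹ * swap (0 : Fin 7) 1)⁻¹) * s⁻¹ = _
        group
      rw [← h1, hf, map_mul, map_mul, map_inv]
      group
    have hka : ad F (k * x * k⁻¹) = φ a⁻¹ := by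
      rw [map_mul, map_mul, map_inv, hk, hx]
      exact hconj a a⁻¹ (by decide)
    have hkb : ad F (k * y * k⁻¹) = φ b := by
      rw [map_mul, map_mul, map_inv, hk, hy]
      exact hconj b b (by decide)
    -- the two correction terms
    have hz1 : ad F (x * (k * x * k⁻¹)) = 1 := by rw [map_mul, hx, hka, ← map_mul, mul_inv_cancel, map_one]
    have hz2 : ad F (y⁻¹ * (k * y * k⁻¹)) = 1 := by rw [map_mul, map_inv, hy, hkb, inv_mul_cancel]
    set z1 := x * (k * x * k⁻¹) with hz1d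
    set z2 := y⁻¹ * (k * y * k⁻¹) with hz2d
    have e1 : k * x * k⁻¹ = x⁻¹ * z1 := by rw [hz1d, inv_mul_cancel_left]
    have e2 : k * y * k⁻¹ = y * z2 := by rw [hz2d, mul_inv_cancel_left]
    have hw : ad F (x * y * x⁻¹ * y⁻¹) = 1 := by
      have hcm : a * b = b * a := Subtype.ext hab.commute.eq
      rw [map_mul, map_mul, map_mul, map_inv, map_inv, hx, hy, ← map_inv, ← map_inv, ← map_mul, ← map_mul, ← map_mul,
        hcm, mul_inv_cancel_right, mul_inv_cancel, map_one]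
    set w := x * y * x⁻¹ * y⁻¹ with hwd
    have hwc := ker_comm hw
    have e3 : k * w * k⁻¹ = w := by rw [hwc k, mul_inv_cancel_right]
    have e4 : k * w * k⁻¹ = (k * x * k⁻¹) * (k * y * k⁻¹) * (k * x * k⁻¹)⁻¹ * (k * y * k⁻¹)⁻¹ := by
      rw [hwd]; group
    have e5 : (x⁻¹ * z1) * (y * z2) * (x⁻¹ * z1)⁻¹ * (y * z2)⁻¹ = x⁻¹ * y * x * y⁻¹ := by
      have c1 := ker_comm hz1
      have c2 := ker_comm hz2
      calc (x⁻¹ * z1) * (y * z2) * (x⁻¹ * z1)⁻¹ * (y * z2)⁻¹
          = x⁻¹ * (z1 * (y * (z2 * z1⁻¹ * x))) * z2⁻¹ * y⁻¹ := by group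
        _ = x⁻¹ * ((y * (z2 * z1⁻¹ * x)) * z1) * z2⁻¹ * y⁻¹ := by rw [c1]
        _ = x⁻¹ * y * (z2 * (z1⁻¹ * x * z1)) * z2⁻¹ * y⁻¹ := by group
        _ = x⁻¹ * y * ((z1⁻¹ * x * z1) * z2) * z2⁻¹ * y⁻¹ := by rw [c2]
        _ = x⁻¹ * y * (z1⁻¹ * (x * z1)) * y⁻¹ := by group
        _ = x⁻¹ * y * (z1⁻¹ * (z1 * x)) * y⁻¹ := by rw [c1]
        _ = x⁻¹ * y * x * y⁻¹ := by group
    have e6 : w * (x⁻¹ * y * x * y⁻¹) = 1 := by
      calc w * (x⁻¹ * y * x * y⁻¹) = (w * x⁻¹) * (y * x * y⁻¹) := by group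
        _ = (x⁻¹ * w) * (y * x * y⁻¹) := by rw [hwc]
        _ = 1 := by rw [hwd]; group
    rw [e1, e2, e5] at e4
    have e7 : w * w = 1 := by
      rw [e3] at e4
      nth_rw 2 [e4]
      exact e6
    have e8 : w ^ 3 = 1 := ker_pow hw
    have e9 : w = 1 := by
      have : w ^ 3 = w * w * w := by rw [pow_succ, pow_two]
      rw [this, e7, one_mul] at e8
      exact e8
    have h1 := hc.1
    rcases not_comm (Or.inr rfl) hM.inj hc ha hb hab hx hy with h' | h'
    · have := h'.2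
      rw [← hwd, e9] at this
      exact h1 (scal_injective (F := F) (by rw [scal_one, ← this]; rfl))
    · have := h'.2
      rw [← hwd, e9] at this
      exact h1 (inv_eq_one.mp (scal_injective (F := F) (by rw [scal_one, ← this]; rfl)))

/-- an element of the kernel of `ad` of order at most 2 is trivial -/
theorem eq_one_of_ker {τ : ↥(Zgrp F)} (h2 : τ * τ = 1) (h : ad F τ = 1) : τ = 1 := by
  have h3 := ker_pow h
  rwa [pow_succ, pow_two, h2, one_mul] at h3

/-- conjugation by an element commuting with the first factor of a commutator -/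
theorem conj_lift {x y τ z : ↥(Zgrp F)} (hz : z = x * y * x⁻¹ * y⁻¹) (hzc : ad F z = 1) (hτ : τ * x = x * τ) {i j : ℕ}
    (h : ad F (τ * y * τ⁻¹) = ad F (x ^ i * y ^ j)) : z = z ^ j := by
  have hzz := ker_comm hzc
  set w := (x ^ i * y ^ j)⁻¹ * (τ * y * τ⁻¹) with hw
  have hw1 : ad F w = 1 := by rw [hw, map_mul, h, map_inv, inv_mul_cancel]
  have hww := ker_comm hw1
  have h1 : τ * y * τ⁻¹ = x ^ i * y ^ j * w := by rw [hw, mul_inv_cancel_left]
  have h2 : τ * z * τ⁻¹ = z := by rw [hzz τ, mul_inv_cancel_right]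
  have hτx : τ * x * τ⁻¹ = x := by rw [hτ, mul_inv_cancel_right]
  have h3 : τ * z * τ⁻¹ = (τ * x * τ⁻¹) * (τ * y * τ⁻¹) * (τ * x * τ⁻¹)⁻¹ * (τ * y * τ⁻¹)⁻¹ := by
    rw [hz]; group
  have h4 : x * y ^ j * x⁻¹ = z ^ j * y ^ j := by
    have h5 : x * y * x⁻¹ = z * y := by rw [hz]; group
    rw [← conj_pow, h5]
    exact (show Commute z y from (hzz y).symm).mul_pow j
  rw [h2, hτx, h1] at h3
  refine h3.trans ?_
  calc x * (x ^ i * y ^ j * w) * x⁻¹ * (x ^ i * y ^ j * w)⁻¹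
      = x ^ i * (x * (y ^ j * w) * x⁻¹) * (y ^ j * w)⁻¹ * (x ^ i)⁻¹ := by group
    _ = x ^ i * (x * (w * y ^ j) * x⁻¹) * (w * y ^ j)⁻¹ * (x ^ i)⁻¹ := by rw [hww]
    _ = x ^ i * (x * w * (y ^ j * x⁻¹)) * (w * y ^ j)⁻¹ * (x ^ i)⁻¹ := by group
    _ = x ^ i * (w * x * (y ^ j * x⁻¹)) * (w * y ^ j)⁻¹ * (x ^ i)⁻¹ := by rw [hww x]
    _ = x ^ i * (w * (x * y ^ j * x⁻¹)) * (w * y ^ j)⁻¹ * (x ^ i)⁻¹ := by group
    _ = x ^ i * (w * (z ^ j * y ^ j)) * (w * y ^ j)⁻¹ * (x ^ i)⁻¹ := by rw [h4]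
    _ = x ^ i * (w * z ^ j * w⁻¹) * (x ^ i)⁻¹ := by group
    _ = z ^ j := by
      rw [← hww, mul_inv_cancel_right, ((show Commute (x ^ i) z from hzz _).pow_right j).eq, mul_inv_cancel_right]

theorem cyc_a : ((Alt6.ea : ↥(alternatingGroup (Fin 6))) : Perm (Fin 6)).cycleType = {3} := by
  have h1 : Perm.IsThreeCycle (swap (1 : Fin 6) 0 * swap (1 : Fin 6) 2) :=
    Perm.isThreeCycle_swap_mul_swap_same (by decide) (by decide) (by decide)
  rw [swap_comm] at h1
  exact (show Perm.IsThreeCycle Alt6.pa from h1)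

theorem cyc_b : ((Alt6.eb : ↥(alternatingGroup (Fin 6))) : Perm (Fin 6)).cycleType = {3} := by
  have h1 : Perm.IsThreeCycle (swap (4 : Fin 6) 3 * swap (4 : Fin 6) 5) :=
    Perm.isThreeCycle_swap_mul_swap_same (by decide) (by decide) (by decide)
  rw [swap_comm] at h1
  exact (show Perm.IsThreeCycle Alt6.pb from h1)

theorem orderOf_a : orderOf Alt6.ea = 3 := by
  rw [← Subgroup.orderOf_coe]
  exact (show Perm.IsThreeCycle _ from cyc_a).orderOf

/-- the case `n = 6` -/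
theorem cov_six {φ : ↥(alternatingGroup (Fin 6)) →* ↥(chevE6.group F)} (hS : Sit H 6 φ) (hcen : Cen H φ) {ω : Fˣ}
    (hc : Cover φ ω) (hX : ∃ X : chevE6.Idx → F, X ≠ 0 ∧ ∀ h ∈ H, ∃ c : F, LK F h X = c • X) : False := by
  obtain ⟨X, hX0, hXH⟩ := hX
  have hab : (Alt6.ea : Perm (Fin 6)).Disjoint (Alt6.eb : Perm (Fin 6)) := by
    intro i
    revert i
    decide
  obtain ⟨x, hx⟩ := ad_surjective (φ Alt6.ea)
  obtain ⟨y, hy⟩ := ad_surjective (φ Alt6.eb)
  obtain ⟨hx3, hV, hL⟩ := type_thirty (Or.inl rfl) hS.inj hc orderOf_a hx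
  obtain ⟨τ, hτ2, hτ1, hτx, hτH⟩ := hcen X hX0 hXH x ⟨_, hx.symm⟩ hx3 hV hL
  apply hτ1
  refine eq_one_of_ker hτ2 ?_
  set t := ad F τ with ht
  have htt : t * t = 1 := by rw [ht, ← map_mul, hτ2, map_one]
  have htinv : t⁻¹ = t := inv_eq_of_mul_eq_one_left htt
  have hex : ∀ g, ∃ g', φ g' = t * φ g * t⁻¹ := fun g => hS.norm t hτH (φ g) ⟨g, rfl⟩
  choose f hf using hex
  let f' : ↥(alternatingGroup (Fin 6)) →* ↥(alternatingGroup (Fin 6)) :=
    MonoidHom.mk' f (fun g h => hS.inj (by rw [hf, map_mul, map_mul, hf, hf]; group))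
  have hff : ∀ g, f' (f' g) = g := by
    intro g
    apply hS.inj
    change φ (f (f g)) = φ g
    rw [hf, hf]
    calc t * (t * φ g * t⁻¹) * t⁻¹ = (t * t) * φ g * (t * t)⁻¹ := by group
      _ = φ g := by rw [htt]; group
  have hfa : f' Alt6.ea = Alt6.ea := by
    apply hS.inj
    change φ (f Alt6.ea) = _
    rw [hf, ← hx, ht, ← map_mul, ← map_inv, ← map_mul, hτx, mul_inv_cancel_right]
  -- the image of `b`
  have hcomm : f' Alt6.eb * Alt6.ea = Alt6.ea * f' Alt6.eb := by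
    have h := congrArg f' Alt6.ea_eb.eq
    rw [map_mul, map_mul, hfa] at h
    exact h.symm
  obtain ⟨i, j, hij⟩ := Alt6.mem_cent_a hcomm
  have hw : ad F (x * y * x⁻¹ * y⁻¹) = 1 := by
    rw [map_mul, map_mul, map_mul, map_inv, map_inv, hx, hy, ← map_inv, ← map_inv, ← map_mul, ← map_mul, ← map_mul,
      Alt6.ea_eb.eq, mul_inv_cancel_right, mul_inv_cancel, map_one]
  have hz1 : x * y * x⁻¹ * y⁻¹ ≠ 1 := by
    intro e
    have h1 := hc.1
    rcases not_comm (Or.inl rfl) hS.inj hc cyc_a cyc_b hab hx hy with h' | h'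
    · have := h'.2
      rw [e] at this
      exact h1 (scal_injective (F := F) (by rw [scal_one, ← this]; rfl))
    · have := h'.2
      rw [e] at this
      exact h1 (inv_eq_one.mp (scal_injective (F := F) (by rw [scal_one, ← this]; rfl)))
  have hz3 := ker_pow hw
  have hzj := conj_lift (j := (j : ℕ)) (i := (i : ℕ)) rfl hw hτx (by
    have h1 := hf Alt6.eb
    change φ (f' Alt6.eb) = _ at h1
    rw [map_mul, map_mul, map_inv, hy, ← ht, ← h1, hij, map_mul, map_pow, map_pow, map_mul, map_pow, map_pow, hx, hy])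
  set z := x * y * x⁻¹ * y⁻¹ with hz
  have hj : j = 1 := by
    match j, hzj with
    | 0, h => exact absurd (h.trans (pow_zero z)) hz1
    | 1, _ => rfl
    | 2, h =>
      exfalso
      apply hz1
      have h2 : z * z = z * 1 := by rw [mul_one]; nth_rw 3 [h]; exact (pow_two z).symm
      exact mul_left_cancel h2
  subst hj
  have h5 : f' Alt6.eb = Alt6.ea ^ (i : ℕ) * Alt6.eb := by
    rw [hij]
    congr 1
  have h6 := hff Alt6.eb
  rw [h5, map_mul, map_pow, hfa, h5, ← mul_assoc, mul_eq_right] at h6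
  have hfb : f' Alt6.eb = Alt6.eb := by
    have h7 : (Alt6.ea ^ (i : ℕ)) ^ 3 = 1 := by
      rw [← pow_mul, mul_comm, pow_mul, Alt6.ea_pow, one_pow]
    rw [pow_succ, pow_two, h6, one_mul] at h7
    rw [h5, h7, one_mul]
  have hall := Alt6.aut f' hff hfa hfb
  refine hS.cent t hτH fun g => ?_
  have h8 := hf g
  have h9 : f g = g := hall g
  rw [h9] at h8
  rw [eq_mul_inv_iff_mul_eq] at h8
  exact h8

/-! ### `n = 7` -/

/-- the element `(0 1 2)(3 4 5)` -/
def c7 : Perm (Fin 7) := swap (0 : Fin 7) 1 * swap (1 : Fin 7) 2 * (swap (3 : Fin 7) 4 * swap (4 : Fin 7) 5)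

/-- the values of a permutation commuting with `c7` -/
def T7 (u v w : Fin 7) : Fin 7 → Fin 7 := ![u, c7 u, c7 (c7 u), v, c7 v, c7 (c7 v), w]

theorem table7 : ∀ u v w : Fin 7, c7 w = w → (∀ i, T7 u v w (T7 u v w i) = i) →
    T7 u v w = ⇑(1 : Perm (Fin 7)) ∨ T7 u v w = ⇑(swap (0 : Fin 7) 3 * swap (1 : Fin 7) 4 * swap (2 : Fin 7) 5 : Perm (Fin 7)) ∨
    T7 u v w = ⇑(swap (0 : Fin 7) 4 * swap (1 : Fin 7) 5 * swap (2 : Fin 7) 3 : Perm (Fin 7)) ∨ T7 u v w = ⇑(swap (0 : Fin 7) 5 * swap (1 : Fin 7) 3 * swap (2 : Fin 7) 4 : Perm (Fin 7)) := by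
  decide +kernel

theorem inv7 {s : Perm (Fin 7)} (hs : Perm.sign s = 1) (h2 : s * s = 1) (hc : s * c7 = c7 * s) : s = 1 := by
  have hcc : ∀ i, s (c7 i) = c7 (s i) := fun i => DFunLike.congr_fun hc i
  have hss : ∀ i, s (s i) = i := fun i => DFunLike.congr_fun h2 i
  have hT : T7 (s 0) (s 3) (s 6) = ⇑s := by
    ext i
    congr 1
    match i with
    | 0 => rfl
    | 1 => exact (hcc 0).symm
    | 2 =>
      have := hcc 1
      rw [show (1 : Fin 7) = c7 0 by decide, hcc 0] at this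
      exact this.symm
    | 3 => rfl
    | 4 => exact (hcc 3).symm
    | 5 =>
      have := hcc 4
      rw [show (4 : Fin 7) = c7 3 by decide, hcc 3] at this
      exact this.symm
    | 6 => rfl
  have h6 : c7 (s 6) = s 6 := by
    rw [← hcc]
    congr 1
  rcases table7 _ _ _ h6 (by rw [hT]; exact hss) with h | h | h | h <;> rw [hT] at h
  · exact DFunLike.coe_injective h
  all_goals
    have h1 := DFunLike.coe_injective h
    rw [h1] at hs
    exact absurd hs (by decide)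

theorem sign_c7 : Perm.sign c7 = 1 := by decide

/-- the case `n = 7` -/
theorem cov_seven {φ : ↥(alternatingGroup (Fin 7)) →* ↥(chevE6.group F)} (hS : Sit H 7 φ) (hcen : Cen H φ) {ω : Fˣ}
    (hc : Cover φ ω) (hX : ∃ X : chevE6.Idx → F, X ≠ 0 ∧ ∀ h ∈ H, ∃ c : F, LK F h X = c • X) : False := by
  obtain ⟨X, hX0, hXH⟩ := hX
  set c : ↥(alternatingGroup (Fin 7)) := ⟨c7, Perm.mem_alternatingGroup.2 sign_c7⟩ with hcd
  have hco : orderOf c = 3 := orderOf_eq_prime (Subtype.ext (by decide)) (fun h => absurd (congrArg Subtype.val h) (by decide))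
  obtain ⟨x, hx⟩ := ad_surjective (φ c)
  obtain ⟨hx3, hV, hL⟩ := type_thirty (Or.inr rfl) hS.inj hc hco hx
  obtain ⟨τ, hτ2, hτ1, hτx, hτH⟩ := hcen X hX0 hXH x ⟨_, hx.symm⟩ hx3 hV hL
  apply hτ1
  refine eq_one_of_ker hτ2 ?_
  rw [seven_sit hS hc] at hτH
  obtain ⟨s, hs⟩ := hτH
  have h1 : s * s = 1 := hS.inj (by rw [map_mul, hs, ← map_mul, hτ2, map_one, map_one])
  have h2 : s * c = c * s := hS.inj (by rw [map_mul, map_mul, hs, ← hx, ← map_mul, ← map_mul, hτx])
  have h3 : s = 1 := Subtype.ext (inv7 (Perm.mem_alternatingGroup.1 s.2) (congrArg Subtype.val h1) (congrArg Subtype.val h2))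
  rw [← hs, h3, map_one]

/-- **The covers of `A₆`, `A₇`** when the normalizer stabilizes a line of the Lie algebra. -/
theorem cov_odd (hn : n = 6 ∨ n = 7) (hS : Sit H n φ) (hcen : Cen H φ)
    (hX : ∃ X : chevE6.Idx → F, X ≠ 0 ∧ ∀ h ∈ H, ∃ c : F, LK F h X = c • X) {ω : Fˣ} (hc : Cover φ ω) : False := by
  rcases hn with rfl | rfl
  · exact cov_six hS hcen hc hX
  · exact cov_seven hS hcen hc hX

end Cfsg.Agent.H163.E6.Cov
end
end

-- part: H958/SixC/Ty
section
prune_inst 0x410400500662200000000000402200030600000220040000000c00a080b0980400000004002200010100004812001004000000020420000000a0000000001000008000400b1080108000010000000000000000000000000000000000000010000000000000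
set_option linter.all false
open scoped Cfsg.Agent.FastGrp

-- part: H801/SixS
section
/-!
# S5927, S5928: `sixc_two`, BOX S (helper801): dimensions of fixed spaces in characteristic 2

* `three_ev` : `3 * ev (ρ y) 1 = dim M` for `y` of order 3 conjugate to `ζ y`;
* `ev_le` : `3 * ev (ρ z) 1 ≤ dim M`;
* `even_sub` : `dim M - ev (ρ z) 1` is even;
* `fourfix` : fixed vectors or functionals of the two subgroups `A₅`.
-/

set_option autoImplicit false

namespace Cfsg.Agent.H958.SixC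

open Module
open Cfsg.Agent.H952.F4 (ev es)

variable {F P M : Type*} [Field F] [Group P] [AddCommGroup M] [Module F M] [FiniteDimensional F M]

section Abs
variable [CharP F 2]

omit [CharP F 2] in
theorem cube_sum {c : F} (hc : c ≠ 1) (h3 : c ^ 3 = 1) : c ^ 2 + c + 1 = 0 := by
  have h : (c - 1) * (c ^ 2 + c + 1) = 0 := by linear_combination h3
  exact (mul_eq_zero.1 h).resolve_left (sub_ne_zero.2 hc)

/-- an endomorphism with `T³ = 1` is diagonalisable -/
theorem split3 (T : Module.End F M) {c : F} (hc : c ≠ 1) (h3 : c ^ 3 = 1) (hT : ∀ v, T (T (T v)) = v) :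
    ev T 1 + ev T c + ev T (c ^ 2) = finrank F M := by
  have hs := cube_sum hc h3
  let f : (↥(T.eigenspace 1) × ↥(T.eigenspace c) × ↥(T.eigenspace (c ^ 2))) →ₗ[F] M :=
    LinearMap.coprod (T.eigenspace 1).subtype (LinearMap.coprod (T.eigenspace c).subtype (T.eigenspace (c ^ 2)).subtype)
  have hf : ∀ a b d, f (a, b, d) = (a : M) + ((b : M) + (d : M)) := fun a b d => rfl
  have hsm : ∀ v : M, (c ^ 2 + c + 1) • v = 0 := fun v => by rw [hs, zero_smul]
  have h2 : ∀ v : M, (2 : F) • v = 0 := fun v => by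
    rw [show (2 : F) = 0 from CharTwo.two_eq_zero, zero_smul]
  have h3' : ∀ v : M, (c ^ 3 - 1) • v = 0 := fun v => by rw [h3, sub_self, zero_smul]
  have hinj : Function.Injective f := by
    rw [injective_iff_map_eq_zero]
    rintro ⟨⟨a, ha⟩, ⟨b, hb⟩, ⟨d, hd⟩⟩ h0
    rw [hf] at h0
    rw [Module.End.mem_eigenspace_iff] at ha hb hd
    change a + (b + d) = 0 at h0
    have h1 : T (a + (b + d)) = 0 := by rw [h0, map_zero]
    rw [map_add, map_add, ha, hb, hd] at h1
    have h5 : T (T (a + (b + d))) = 0 := by rw [h0, map_zero, map_zero]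
    rw [map_add, map_add, map_add, map_add, ha, hb, hd, map_smul, map_smul, map_smul, ha, hb, hd] at h5
    have ea : a = 0 := by
      linear_combination (norm := module) h0 + h1 + h5 - h2 a - hsm b - hsm d - (c) • h3' d
    have eb : b = 0 := by
      rw [ea] at h0 h1
      have h6 : (c ^ 2 - c) • b = 0 := by
        linear_combination (norm := module) (c ^ 2) • h0 - h1
      have h7 : c ^ 2 - c ≠ 0 := by
        intro h
        have h8 : c * (c - 1) = 0 := by linear_combination h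
        rcases mul_eq_zero.1 h8 with h9 | h9
        · rw [h9] at h3; norm_num at h3
        · exact hc (sub_eq_zero.1 h9)
      exact (smul_eq_zero.1 h6).resolve_left h7
    have ed : d = 0 := by
      rw [ea, eb] at h0
      simpa using h0
    subst ea; subst eb; subst ed
    rfl
  have hsurj : Function.Surjective f := by
    intro v
    have e1 : v + T v + T (T v) ∈ T.eigenspace 1 := by
      rw [Module.End.mem_eigenspace_iff, map_add, map_add, hT, one_smul]
      abel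
    have e2 : v + (c ^ 2) • T v + c • T (T v) ∈ T.eigenspace c := by
      rw [Module.End.mem_eigenspace_iff, map_add, map_add, map_smul, map_smul, hT]
      linear_combination (norm := module) -h3' (T v)
    have e3 : v + c • T v + (c ^ 2) • T (T v) ∈ T.eigenspace (c ^ 2) := by
      rw [Module.End.mem_eigenspace_iff, map_add, map_add, map_smul, map_smul, hT]
      linear_combination (norm := module) -h3' (T v) - (c) • h3' (T (T v))
    refine ⟨(⟨_, e1⟩, ⟨_, e2⟩, ⟨_, e3⟩), ?_⟩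
    rw [hf]
    change (v + T v + T (T v)) + ((v + (c ^ 2) • T v + c • T (T v)) + (v + c • T v + (c ^ 2) • T (T v))) = v
    linear_combination (norm := module) h2 v + hsm (T v) + hsm (T (T v))
  have h := (LinearEquiv.ofBijective f ⟨hinj, hsurj⟩).finrank_eq
  rw [Module.finrank_prod, Module.finrank_prod] at h
  rw [← h, ev, ev, ev]
  ring

omit [CharP F 2] in
theorem ev_shift {T S : Module.End F M} {c μ : F} (hS : Function.Injective S) (h : ∀ v, S (T v) = c • T (S v)) {d : F}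
    (hcd : d * c = 1) : ev T μ ≤ ev T (d * μ) := by
  have hm : ∀ v ∈ T.eigenspace μ, S v ∈ T.eigenspace (d * μ) := by
    intro v hv
    rw [Module.End.mem_eigenspace_iff] at hv ⊢
    have h1 := h v
    rw [hv, map_smul] at h1
    rw [mul_smul, h1, smul_smul, hcd, one_smul]
  refine LinearMap.finrank_le_finrank_of_injective (f := S.restrict hm) ?_
  intro a b e
  have e1 : S a = S b := congrArg Subtype.val e
  exact Subtype.ext (hS e1)

omit [FiniteDimensional F M] [CharP F 2] in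
theorem rho_inj (ρ : Representation F P M) (g : P) : Function.Injective (ρ g) := by
  intro a b e
  have h : ∀ v, ρ g⁻¹ (ρ g v) = v := fun v => by
    rw [← Module.End.mul_apply, ← map_mul, inv_mul_cancel, map_one, Module.End.one_apply]
  rw [← h a, e, h]

theorem three_ev {ζ y : P} (ρ : Representation F P M) {c : F} (hc : Ch ρ ζ c) (hy : y ^ 3 = 1)
    (ht : ∃ b, b * y * b⁻¹ = ζ * y) : 3 * ev (ρ y) 1 = finrank F M := by
  obtain ⟨b, hb⟩ := ht
  have hT : ∀ v, ρ y (ρ y (ρ y v)) = v := fun v => by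
    rw [← Module.End.mul_apply, ← Module.End.mul_apply, ← map_mul, ← map_mul, ← pow_two, ← pow_succ, hy, map_one,
      Module.End.one_apply]
  have hb1 : b * y = ζ * (y * b) := by
    rw [← mul_assoc, ← hb]
    group
  have hb' : ∀ v, ρ b (ρ y v) = c • ρ y (ρ b v) := by
    intro v
    rw [← Module.End.mul_apply, ← map_mul, hb1, map_mul, Module.End.mul_apply, hc.act, map_mul, Module.End.mul_apply]
  have hcc : c ^ 2 * c = 1 := by rw [← pow_succ]; exact hc.cube
  have h1 := ev_shift (μ := 1) (rho_inj ρ b) hb' hcc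
  have h2 := ev_shift (μ := c ^ 2 * 1) (rho_inj ρ b) hb' hcc
  have h3 := ev_shift (μ := c ^ 2 * (c ^ 2 * 1)) (rho_inj ρ b) hb' hcc
  have e1 : c ^ 2 * (c ^ 2 * 1) = c := by linear_combination c * hc.cube
  have e2 : c ^ 2 * (c ^ 2 * (c ^ 2 * 1)) = 1 := by linear_combination (c ^ 3 + 1) * hc.cube
  rw [e2] at h3
  rw [e1] at h2 h3
  rw [mul_one] at h1 h2
  have h4 := split3 (ρ y) hc.ne hc.cube hT
  omega

omit [CharP F 2] [FiniteDimensional F M] in
theorem inv_bot {ζ : P} (ρ : Representation F P M) {c : F} (hc : Ch ρ ζ c) : ρ.invariants = ⊥ := by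
  rw [eq_bot_iff]
  intro v hv
  rw [Representation.mem_invariants] at hv
  have h1 := hv ζ
  rw [hc.act] at h1
  have h2 : (c - 1) • v = 0 := by rw [sub_smul, one_smul, h1, sub_self]
  rw [Submodule.mem_bot]
  exact (smul_eq_zero.1 h2).resolve_left (sub_ne_zero.2 hc.ne)

omit [CharP F 2] [FiniteDimensional F M] in
theorem dual_inv_bot {ζ : P} (ρ : Representation F P M) {c : F} (hc : Ch ρ ζ c) : ρ.dual.invariants = ⊥ := by
  rw [eq_bot_iff]
  intro f hf
  rw [Representation.mem_invariants] at hf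
  have h1 := hf ζ⁻¹
  rw [Submodule.mem_bot]
  ext v
  have h2 := LinearMap.congr_fun h1 v
  rw [Representation.dual_apply, Module.Dual.transpose_apply, inv_inv, LinearMap.comp_apply, hc.act, map_smul] at h2
  have h3 : (c - 1) • f v = 0 := by rw [sub_smul, one_smul, h2, sub_self]
  rw [LinearMap.zero_apply]
  exact (smul_eq_zero.1 h3).resolve_left (sub_ne_zero.2 hc.ne)

theorem ev_le {ζ z g₁ g₂ β t a : P} (hF : Full ζ z g₁ g₂ β t a) (ρ : Representation F P M) {c : F} (hc : Ch ρ ζ c) :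
    3 * ev (ρ z) 1 ≤ finrank F M := by
  have h1 := three_ev ρ hc hF.a3 hF.ta
  have h2 := three_ev ρ hc hF.a3' hF.ta'
  have h3 := Cfsg.Agent.H952.F4.Scott.scott ρ hF.gena
  rw [inv_bot ρ hc, dual_inv_bot ρ hc, finrank_bot, finrank_bot, mul_inv_cancel_left] at h3
  omega

/-- for an involution: the fixed space has at least half the dimension -/
theorem half_le (T : Module.End F M) (hT : ∀ v, T (T v) = v) : finrank F M ≤ 2 * ev T 1 := by
  have h1 := Cfsg.Agent.H952.F4.Scott.rank_add_ev T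
  have h2 : LinearMap.range (T - 1) ≤ T.eigenspace 1 := by
    rintro _ ⟨v, rfl⟩
    rw [Module.End.mem_eigenspace_iff, LinearMap.sub_apply, Module.End.one_apply, map_sub, hT, one_smul]
    have h3 : (2 : F) • (v - T v) = 0 := by
      rw [show (2 : F) = 0 from CharTwo.two_eq_zero, zero_smul]
    linear_combination (norm := module) h3
  have h4 := Submodule.finrank_mono h2
  have h5 : finrank F ↥(T.eigenspace 1) = ev T 1 := rfl
  omega

theorem even_sub {z t : P} (hz : z ^ 5 = 1) (ht : t * t = 1) (htz : t * z * t⁻¹ = z⁻¹) (ρ : Representation F P M) :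
    Even (finrank F M - ev (ρ z) 1) := by
  have h1 := Cfsg.Agent.H952.F4.Scott.rank_add_ev (ρ z)
  set N := LinearMap.range (ρ z - 1) with hN
  have hz5 : ∀ v, ρ z (ρ z (ρ z (ρ z (ρ z v)))) = v := by
    intro v
    have h' : z * z * z * z * z = 1 := by rw [← hz]; simp only [pow_succ, pow_zero, one_mul]
    rw [← Module.End.mul_apply, ← Module.End.mul_apply, ← Module.End.mul_apply, ← Module.End.mul_apply, ← map_mul,
      ← map_mul, ← map_mul, ← map_mul, h', map_one, Module.End.one_apply]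
  have htt : ∀ v, ρ t (ρ t v) = v := fun v => by
    rw [← Module.End.mul_apply, ← map_mul, ht, map_one, Module.End.one_apply]
  have hti : t⁻¹ = t := inv_eq_of_mul_eq_one_right ht
  have htz1 : t * z = z⁻¹ * t := by rw [← htz]; group
  have htz' : ∀ v, ρ z (ρ t (ρ z v)) = ρ t v := fun v => by
    rw [← Module.End.mul_apply (ρ t), ← map_mul, htz1, map_mul, Module.End.mul_apply, ← Module.End.mul_apply (ρ z),
      ← map_mul, mul_inv_cancel, map_one, Module.End.one_apply]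
  have hNt : ∀ v ∈ N, ρ t v ∈ N := by
    rintro _ ⟨v, rfl⟩
    refine ⟨-(ρ t (ρ z v)), ?_⟩
    rw [LinearMap.sub_apply, LinearMap.sub_apply, Module.End.one_apply, Module.End.one_apply, map_neg, htz', map_sub]
    abel
  have hNz : ∀ v ∈ N, ρ z v ∈ N := by
    rintro _ ⟨v, rfl⟩
    refine ⟨ρ z v, ?_⟩
    rw [LinearMap.sub_apply, LinearMap.sub_apply, Module.End.one_apply, Module.End.one_apply, map_sub]
  have hfix : ∀ b ∈ N, ρ z b = b → b = 0 := by
    rintro _ ⟨v, rfl⟩ hb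
    set b := (ρ z - 1) v with hbdef
    have e0 : b = ρ z v - v := by rw [hbdef, LinearMap.sub_apply, Module.End.one_apply]
    have e1 : ρ z v = v + b := by rw [e0]; abel
    have e2 := hz5 v
    simp only [e1, map_add, hb] at e2
    have h2 : ∀ v : M, (2 : F) • v = 0 := fun v => by
      rw [show (2 : F) = 0 from CharTwo.two_eq_zero, zero_smul]
    linear_combination (norm := module) e2 - (2 : F) • h2 b
  let S : Module.End F N := (ρ t).restrict hNt
  let R : Module.End F N := (ρ z).restrict hNz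
  have hS : ∀ v, S (S v) = v := fun v => Subtype.ext (htt v)
  have h2 := half_le S hS
  let f : (↥(S.eigenspace 1) × ↥(S.eigenspace 1)) →ₗ[F] N :=
    LinearMap.coprod (S.eigenspace 1).subtype (R.comp (S.eigenspace 1).subtype)
  have hinj : Function.Injective f := by
    rw [injective_iff_map_eq_zero]
    rintro ⟨⟨a, ha⟩, ⟨b, hb⟩⟩ h0
    change a + R b = 0 at h0
    rw [Module.End.mem_eigenspace_iff, one_smul] at ha hb
    have ha' : ρ t (a : M) = a := congrArg Subtype.val ha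
    have hb' : ρ t (b : M) = b := congrArg Subtype.val hb
    have h0' : (a : M) + ρ z b = 0 := congrArg Subtype.val h0
    have e1 : (a : M) = -ρ z b := eq_neg_of_add_eq_zero_left h0'
    -- `z² b = b`
    have e2 : ρ z (ρ z (b : M)) = b := by
      have e3 := htz' (b : M)
      rw [hb'] at e3
      have e4 : ρ t (ρ z (b : M)) = ρ z b := by
        have e5 : ρ t (-ρ z (b : M)) = -ρ z b := by rw [← e1, ha']
        rw [map_neg] at e5
        exact neg_injective e5
      rwa [e4] at e3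
    have e3 : ρ z (b : M) = b := by
      have e4 := hz5 (b : M)
      rwa [e2, e2] at e4
    have e4 : (b : M) = 0 := hfix _ b.2 e3
    have e5 : b = 0 := Subtype.ext e4
    subst e5
    have e6 : a = 0 := by simpa only [_root_.map_zero, _root_.add_zero] using h0
    subst e6
    rfl
  have h3 := LinearMap.finrank_le_finrank_of_injective hinj
  rw [Module.finrank_prod] at h3
  have h4 : finrank F ↥(S.eigenspace 1) = ev S 1 := rfl
  rw [h4] at h3
  exact ⟨ev S 1, by omega⟩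

theorem xx_sq {z g : P} (hg : g * g = 1) : xx z g * xx z g = 1 := by
  have h1 : g⁻¹ = g := inv_eq_of_mul_eq_one_right hg
  have h2 : xx z g = (g * z * z) * g * (g * z * z)⁻¹ := by
    rw [xx, mul_inv_rev, mul_inv_rev, h1]
    group
  rw [h2]
  have h3 : (g * z * z) * g * (g * z * z)⁻¹ * ((g * z * z) * g * (g * z * z)⁻¹) =
      (g * z * z) * (g * g) * (g * z * z)⁻¹ := by group
  rw [h3, hg]
  group

theorem fourfix {ζ z g β : P} (hh : Half ζ z g β) (ρ : Representation F P M) {c : F} (hc : Ch ρ ζ c)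
    (h : finrank F M < 6 * ev (ρ z) 1) :
    (∃ w, w ≠ 0 ∧ KF ρ z g w) ∨
      ∃ f : Module.Dual F M, f ≠ 0 ∧ (∀ v, f (ρ z v) = f v) ∧ ∀ v, f (ρ (xx z g) v) = f v := by
  set x := xx z g with hx
  have hxx : x * x = 1 := xx_sq hh.gg
  let K : Subgroup P := Subgroup.closure {x, x * z}
  have hxK : x ∈ K := Subgroup.subset_closure (Or.inl rfl)
  have hyK : x * z ∈ K := Subgroup.subset_closure (Or.inr rfl)
  have hgen : Subgroup.closure {(⟨x, hxK⟩ : K), ⟨x * z, hyK⟩} = ⊤ := by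
    have h1 := Subgroup.closure_closure_coe_preimage (k := ({x, x * z} : Set P))
    rw [← h1]
    congr 1
    ext ⟨k, hk⟩
    simp only [Set.mem_insert_iff, Set.mem_singleton_iff, Set.mem_preimage, Subtype.mk.injEq]
  have h1 := Cfsg.Agent.H952.F4.Scott.scott (ρ.comp K.subtype) hgen
  have e1 : (ρ.comp K.subtype) ⟨x, hxK⟩ = ρ x := rfl
  have e2 : (ρ.comp K.subtype) ⟨x * z, hyK⟩ = ρ (x * z) := rfl
  have e3 : (ρ.comp K.subtype) (⟨x, hxK⟩ * ⟨x * z, hyK⟩) = ρ z := by
    change ρ (x * (x * z)) = ρ z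
    rw [← mul_assoc, hxx, one_mul]
  rw [e1, e2, e3] at h1
  have h2 := three_ev ρ hc hh.c3 hh.t3
  have h3 := half_le (ρ x) fun v => by
    rw [← Module.End.mul_apply, ← map_mul, hxx, map_one, Module.End.one_apply]
  have h4 : 0 < finrank F ↥(Representation.invariants (ρ.comp K.subtype)) ∨
      0 < finrank F ↥(Representation.invariants ((Representation.dual (ρ.comp K.subtype) :))) := by
    rw [← hx] at h2
    omega
  rcases h4 with h4 | h4
  · left
    have : Nontrivial ↥(Representation.invariants (ρ.comp K.subtype)) := Module.finrank_pos_iff.1 h4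
    obtain ⟨⟨w, hw⟩, hne⟩ := exists_ne (0 : ↥(Representation.invariants (ρ.comp K.subtype)))
    rw [Representation.mem_invariants] at hw
    have hx1 : ρ x w = w := hw ⟨x, hxK⟩
    have hx2 : ρ (x * z) w = w := hw ⟨x * z, hyK⟩
    refine ⟨w, fun e => hne (Subtype.ext e), ?_, hx1⟩
    have h5 : ρ x (ρ (x * z) w) = ρ z w := by
      rw [← Module.End.mul_apply, ← map_mul, ← mul_assoc, hxx, one_mul]
    rw [← h5, hx2, hx1]
  · right
    have : Nontrivial ↥(Representation.invariants ((Representation.dual (ρ.comp K.subtype) :))) :=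
      Module.finrank_pos_iff.1 (by exact h4)
    obtain ⟨⟨f, hf⟩, hne⟩ := exists_ne (0 : ↥(Representation.invariants ((Representation.dual (ρ.comp K.subtype) :))))
    rw [Representation.mem_invariants] at hf
    have key : ∀ k : K, ∀ v, f (ρ (k : P) v) = f v := by
      intro k v
      have h5 := LinearMap.congr_fun (hf k⁻¹) v
      rw [Representation.dual_apply, Module.Dual.transpose_apply, inv_inv, LinearMap.comp_apply] at h5
      exact h5
    have hx1 : ∀ v, f (ρ x v) = f v := key ⟨x, hxK⟩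
    have hx2 : ∀ v, f (ρ (x * z) v) = f v := key ⟨x * z, hyK⟩
    refine ⟨f, fun e => hne (Subtype.ext e), fun v => ?_, hx1⟩
    rw [← hx2 v, map_mul, Module.End.mul_apply, hx1]

end Abs

end Cfsg.Agent.H958.SixC
end

-- part: H958/SixC/Conc2
section
/-!
# S5927, S5928: `sixc_two`, the two modules as representations of the preimage (helper958)
-/

set_option autoImplicit false

namespace Cfsg.Agent.H163.E6.SixC

open Cfsg Cfsg.Lie Module Equiv
open Cfsg.Agent.ChevalleyStructure.E6Min.Tables Cfsg.Agent.ChevalleyStructure.E6Min.Basic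
  Cfsg.Agent.ChevalleyStructure.E6Min.Adjoint
open Cfsg.Agent.H952.F4 (ev es matRep sh cr tf MaxAlt)
open Cfsg.Agent.H958.SixC

universe u

variable {F : Type u} [Field F] {φ : ↥(alternatingGroup (Fin 6)) →* ↥(chevE6.group F)}

/-- the representation of the preimage -/
noncomputable abbrev rP (φ : ↥(alternatingGroup (Fin 6)) →* ↥(chevE6.group F))
    (ρ : Representation F ↥(Zgrp F) (I27 → F)) : Representation F ↥(φ.range.comap (ad F)) (I27 → F) :=
  MonoidHom.comp ρ (φ.range.comap (ad F)).subtype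

/-- the pairs of modules -/
def Pr (ρ ρ' : Representation F ↥(Zgrp F) (I27 → F)) : Prop := (ρ = V F ∧ ρ' = V' F) ∨ (ρ = V' F ∧ ρ' = V F)

theorem Pr.symm {ρ ρ' : Representation F ↥(Zgrp F) (I27 → F)} (h : Pr ρ ρ') : Pr ρ' ρ := by
  rcases h with ⟨h1, h2⟩ | ⟨h1, h2⟩
  · exact Or.inr ⟨h2, h1⟩
  · exact Or.inl ⟨h2, h1⟩

theorem Pr.left {ρ ρ' : Representation F ↥(Zgrp F) (I27 → F)} (h : Pr ρ ρ') : ρ = V F ∨ ρ = V' F := by
  rcases h with ⟨h1, h2⟩ | ⟨h1, h2⟩
  · exact Or.inl h1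
  · exact Or.inr h1

theorem Pr.right {ρ ρ' : Representation F ↥(Zgrp F) (I27 → F)} (h : Pr ρ ρ') : ρ' = V F ∨ ρ' = V' F := h.symm.left

theorem Pr.sh {ρ ρ' : Representation F ↥(Zgrp F) (I27 → F)} (h : Pr ρ ρ') (g : ↥(Zgrp F)) (x : I27 → F) :
    ρ' g (sh x) = Cfsg.Agent.H952.F4.sh (ρ g x) := by
  rcases h with ⟨rfl, rfl⟩ | ⟨rfl, rfl⟩
  · exact (Act.sh_act g x).symm
  · exact (Act.sh_act' g x).symm

theorem Pr.cr {ρ ρ' : Representation F ↥(Zgrp F) (I27 → F)} (h : Pr ρ ρ') (g : ↥(Zgrp F)) (x y : I27 → F) :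
    ρ' g (cr x y) = Cfsg.Agent.H952.F4.cr (ρ g x) (ρ g y) := by
  rcases h with ⟨rfl, rfl⟩ | ⟨rfl, rfl⟩
  · exact (Act.cr_act g x y).symm
  · exact (Act.cr_act' g x y).symm

theorem st_iff {ρ : Representation F ↥(Zgrp F) (I27 → F)} {W : Submodule F (I27 → F)} :
    St (rP φ ρ) W ↔ Stab ρ φ.range W :=
  ⟨fun h g hg w hw => h ⟨g, hg⟩ w hw, fun h g w hw => h g g.2 w hw⟩

theorem hd [Finite F] (hφ : Function.Injective φ) {ω : Fˣ} (hc : Cover φ ω) {ρ : Representation F ↥(Zgrp F) (I27 → F)}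
    (hρ : ρ = V F ∨ ρ = V' F) (W : Submodule F (I27 → F)) (hW : St (rP φ ρ) W) : 3 ∣ finrank F ↥W :=
  H944.E6CovFit.three_dvd hφ hc hρ (st_iff.1 hW)

theorem div3 [Finite F] (hφ : Function.Injective φ) {ω : Fˣ} (hc : Cover φ ω) : Div3 φ := fun _ hρ _ hW =>
  H944.E6CovFit.three_dvd hφ hc hρ hW

theorem ne_one {ω : Fˣ} (h : ω ≠ 1) : (ω : F) ≠ 1 := fun h1 => h (Units.ext h1)

theorem cube_one {ω : Fˣ} (h : ω ^ 3 = 1) : (ω : F) ^ 3 = 1 := by
  have := congrArg (fun x : Fˣ => (x : F)) h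
  simpa using this

theorem coe_scalC (c : Fˣ) : ((scal c : GL I27 F) : Matrix I27 I27 F) = (c : F) • (1 : Matrix I27 I27 F) :=
  Algebra.algebraMap_eq_smul_one (c : F)

theorem V_scalC {g : ↥(Zgrp F)} {c : Fˣ} (h : (g : GL I27 F) = scal c) (w : I27 → F) : V F g w = (c : F) • w := by
  rw [Cfsg.Agent.H163.E6.V_apply, h, coe_scalC, Matrix.smul_mulVec, Matrix.one_mulVec]

theorem V'_scalC {g : ↥(Zgrp F)} {c : Fˣ} (h : (g : GL I27 F) = scal c) (w : I27 → F) :
    V' F g w = ((c⁻¹ : Fˣ) : F) • w := by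
  have h1 : (scal c : GL I27 F)⁻¹ = scal c⁻¹ := (map_inv (Units.map
    (algebraMap F (Matrix I27 I27 F)).toMonoidHom) c).symm
  have h2 : Cfsg.Agent.H184.GraphE6.dual (scal c : GL I27 F) = scal c⁻¹ := by
    refine Units.ext ?_
    rw [Cfsg.Agent.H184.GraphE6.coe_dual, h1, coe_scalC, Matrix.transpose_smul, Matrix.transpose_one]
  have h3 : ((Cfsg.Agent.H184.GraphE6.gU (scal c) : GL I27 F) : Matrix I27 I27 F) =
      ((c⁻¹ : Fˣ) : F) • (1 : Matrix I27 I27 F) := by
    rw [Cfsg.Agent.H184.GraphE6.gU, h2, Units.val_mul, Units.val_mul, Cfsg.Agent.H184.GraphE6.coe_PU, coe_scalC,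
      Matrix.mul_smul, Matrix.smul_mul, Matrix.mul_one, Cfsg.Agent.H184.GraphE6.PM_sq]
  rw [Cfsg.Agent.H163.E6.V'_apply, h, h3, Matrix.smul_mulVec, Matrix.one_mulVec]

theorem ch_V {ω : Fˣ} (h1 : ω ≠ 1) (h3 : ω ^ 3 = 1) {ζ : ↥(φ.range.comap (ad F))}
    (hζ : ((ζ : ↥(Zgrp F)) : GL I27 F) = scal ω) : Ch (rP φ (V F)) ζ (ω : F) :=
  ⟨fun v => V_scalC hζ v, ne_one h1, cube_one h3⟩

theorem ch_V' {ω : Fˣ} (h1 : ω ≠ 1) (h3 : ω ^ 3 = 1) {ζ : ↥(φ.range.comap (ad F))}
    (hζ : ((ζ : ↥(Zgrp F)) : GL I27 F) = scal ω) : Ch (rP φ (V' F)) ζ ((ω⁻¹ : Fˣ) : F) :=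
  ⟨fun v => V'_scalC hζ v, ne_one (inv_ne_one.2 h1), cube_one (by rw [inv_pow, h3, inv_one])⟩

theorem exists_ne : ∃ v : I27 → F, v ≠ 0 := ⟨fun _ => 1, fun h => one_ne_zero (congrFun h (0 : I27))⟩

theorem smul_eq {a b : F} {v : I27 → F} (hv : v ≠ 0) (h : a • v = b • v) : a = b := by
  have h1 : (a - b) • v = 0 := by rw [sub_smul, h, sub_self]
  exact sub_eq_zero.1 ((smul_eq_zero.1 h1).resolve_right hv)

theorem inv_eq_sq {ω : Fˣ} (h3 : ω ^ 3 = 1) : ((ω⁻¹ : Fˣ) : F) = (ω : F) * ω := by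
  have h : ω⁻¹ = ω * ω := by
    rw [inv_eq_iff_mul_eq_one, ← h3, pow_succ, pow_two, mul_assoc]
  rw [h, Units.val_mul]

attribute [-instance] instNoNatZeroDivisorsOfIsAddTorsionFree instIsCharPOfIsLeftCancelAddOfCharP in
/-- the scalar of `β` in the two modules -/
theorem sc_pr {ω : Fˣ} (h3 : ω ^ 3 = 1) {ζ β : ↥(φ.range.comap (ad F))}
    (hζ : ((ζ : ↥(Zgrp F)) : GL I27 F) = scal ω) (hβ : β = ζ ∨ β = ζ⁻¹)
    {ρ ρ' : Representation F ↥(Zgrp F) (I27 → F)} (hp : Pr ρ ρ') {b : F} (hs : Sc (rP φ ρ) β b) :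
    Sc (rP φ ρ') β (b * b) := by
  obtain ⟨v0, hv0⟩ := exists_ne (F := F)
  have hb := hs.b2
  have h2 := hs.two
  have hb3 : b * b * b = 1 := by (clear * - hb h2; grobner)
  have hω3 : (ω : F) * ω * ω = 1 := by
    have := cube_one h3
    rw [← this]; ring
  -- `ω` on `V` and `ω²` on `V'`
  have key : ∃ x y : F, (∀ v, ρ ζ v = x • v) ∧ (∀ v, ρ' ζ v = y • v) ∧ x * y = 1 ∧ x * x * x = 1 ∧ y * y * y = 1 := by
    rcases hp with ⟨rfl, rfl⟩ | ⟨rfl, rfl⟩
    · refine ⟨(ω : F), (ω : F) * ω, fun v => V_scalC hζ v, fun v => ?_, ?_, hω3, ?_⟩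
      · rw [V'_scalC hζ, inv_eq_sq h3]
      · rw [← mul_assoc]; exact hω3
      · (clear * - h2 hω3; grobner)
    · refine ⟨(ω : F) * ω, (ω : F), fun v => ?_, fun v => V_scalC hζ v, ?_, ?_, hω3⟩
      · rw [V'_scalC hζ, inv_eq_sq h3]
      · exact hω3
      · (clear * - h2 hω3; grobner)
  obtain ⟨x, y, hx, hy, hxy, hx3, hy3⟩ := key
  refine ⟨fun v => ?_, by (clear * - hb h2; grobner), h2⟩
  rcases hβ with rfl | rfl
  · have e1 : b = x := smul_eq hv0 ((hs.act v0).symm.trans (hx v0))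
    subst e1
    refine (hy v).trans ?_
    congr 1
    (clear * - hb h2 hxy; grobner)
  · have e0 : ρ ((ζ⁻¹ : ↥(φ.range.comap (ad F))) : ↥(Zgrp F)) v0 = (x * x) • v0 := by
      have h4 : ρ ((ζ : ↥(Zgrp F))⁻¹) ((x * x * x) • v0) = (x * x) • v0 := by
        rw [mul_smul, mul_smul, ← hx, map_smul, map_smul]
        rw [← rho_mul, inv_mul_cancel, map_one, mul_smul]
        rfl
      rw [hx3, one_smul] at h4
      exact h4
    have e1 : b = x * x := smul_eq hv0 ((hs.act v0).symm.trans e0)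
    have e2 : ρ' ((ζ : ↥(Zgrp F))⁻¹) v = (y * y) • v := by
      have h4 : ρ' ((ζ : ↥(Zgrp F))⁻¹) ((y * y * y) • v) = (y * y) • v := by
        rw [mul_smul, mul_smul, ← hy, map_smul, map_smul]
        rw [← rho_mul, inv_mul_cancel, map_one, mul_smul]
        rfl
      rw [hy3, one_smul] at h4
      exact h4
    show ρ' ((ζ : ↥(Zgrp F))⁻¹) v = _
    rw [e2, e1]
    congr 1
    (clear * - hb h2 hxy hx3 e1; grobner)

end Cfsg.Agent.H163.E6.SixC
end

-- part: H958/SixC/Types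
section
/-!
# S5927, S5928: `sixc_two`, types of 3-dimensional modules (helper958)
-/

set_option autoImplicit false
set_option linter.unusedSectionVars false

namespace Cfsg.Agent.H958.SixC

open Module
open Cfsg.Agent.H952.F4 (ev es)

variable {F P M : Type*} [Field F] [CharP F 2] [Group P] [AddCommGroup M] [Module F M] [FiniteDimensional F M]
variable {ρ : Representation F P M} {ζ z g g₁ g₂ β t a : P} {b c : F}

theorem two_zero : (2 : F) = 0 := CharTwo.two_eq_zero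

attribute [-instance] instNoNatZeroDivisorsOfIsAddTorsionFree instIsCharPOfIsLeftCancelAddOfCharP in
theorem Sc.of_Ch (hc : Ch ρ ζ c) : Sc ρ ζ c :=
  ⟨hc.act, by have := cube_sum hc.ne hc.cube; grobner, two_zero⟩

attribute [-instance] instNoNatZeroDivisorsOfIsAddTorsionFree instIsCharPOfIsLeftCancelAddOfCharP in
theorem Sc.inv (hs : Sc ρ β b) : Sc ρ β⁻¹ (b * b) := by
  have hb := hs.b2
  have h2 := hs.two
  have hb3 : b * b * b = 1 := by grobner
  refine ⟨fun v => ?_, by grobner, h2⟩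
  have h4 : ρ β⁻¹ ((b * b * b) • v) = (b * b) • v := by
    rw [mul_smul, mul_smul, ← hs.act, map_smul, map_smul, inv_ap, mul_smul]
  rw [hb3, one_smul] at h4
  exact h4

/-- the average over `⟨z⟩` -/
noncomputable def avg (T : M →ₗ[F] M) : M →ₗ[F] M := 1 + T + T * T + T * T * T + T * T * T * T

theorem avg_apply (T : M →ₗ[F] M) (v : M) : avg T v = v + T v + T (T v) + T (T (T v)) + T (T (T (T v))) := rfl

theorem avg_fix {T : M →ₗ[F] M} (hT : ∀ v, T (T (T (T (T v)))) = v) (v : M) : T (avg T v) = avg T v := by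
  rw [avg_apply]
  simp only [map_add]
  rw [hT]
  abel

attribute [-instance] instNoNatZeroDivisorsOfIsAddTorsionFree instIsCharPOfIsLeftCancelAddOfCharP in
theorem fun_avg {T : M →ₗ[F] M} {f : M →ₗ[F] F} (hf : ∀ v, f (T v) = f v) (v : M) : f (avg T v) = f v := by
  rw [avg_apply]
  simp only [map_add, hf]
  have h2 := two_zero (F := F)
  grobner

theorem z_five (hz : z ^ 5 = 1) (v : M) : ρ z (ρ z (ρ z (ρ z (ρ z v)))) = v := by
  rw [← mul_ap, ← mul_ap, ← mul_ap, ← mul_ap, five_mul z, hz, map_one]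
  rfl

/-- a vector fixed by both subgroups `A₅` is zero -/
theorem both_fix (hF : Full ζ z g₁ g₂ β t a) (hc : Ch ρ ζ c) {v : M} (h1 : KF ρ z g₁ v) (h2 : KF ρ z g₂ v) : v = 0 := by
  have key : ∀ x : P, ρ x v = v := by
    intro x
    have hx : x ∈ Subgroup.closure {z, xx z g₁, xx z g₂} := by rw [hF.gen12]; exact Subgroup.mem_top x
    induction hx using Subgroup.closure_induction with
    | mem y hy =>
      rcases hy with rfl | rfl | rfl
      · exact h1.1
      · exact h1.2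
      · exact h2.2
    | one => rw [map_one]; rfl
    | mul x y _ _ hx hy => rw [mul_ap, hy, hx]
    | inv x _ hx => exact inv_eq hx
  have h3 := hc.act v
  rw [key] at h3
  have h4 : (c - 1) • v = 0 := by rw [sub_smul, one_smul, ← h3, sub_self]
  exact (smul_eq_zero.1 h4).resolve_left (sub_ne_zero.2 hc.ne)

/-- a functional fixed by both subgroups `A₅` is zero -/
theorem both_fun (hF : Full ζ z g₁ g₂ β t a) (hc : Ch ρ ζ c) {f : M →ₗ[F] F} (h0 : ∀ v, f (ρ z v) = f v)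
    (h1 : ∀ v, f (ρ (xx z g₁) v) = f v) (h2 : ∀ v, f (ρ (xx z g₂) v) = f v) : f = 0 := by
  have key : ∀ x : P, ∀ v, f (ρ x v) = f v := by
    intro x
    have hx : x ∈ Subgroup.closure {z, xx z g₁, xx z g₂} := by rw [hF.gen12]; exact Subgroup.mem_top x
    induction hx using Subgroup.closure_induction with
    | mem y hy =>
      rcases hy with rfl | rfl | rfl
      · exact h0
      · exact h1
      · exact h2
    | one => intro v; rw [map_one]; rfl
    | mul x y _ _ hx hy => intro v; rw [mul_ap, hx, hy]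
    | inv x _ hx => intro v; rw [← hx (ρ x⁻¹ v), ap_inv]
  apply LinearMap.ext
  intro v
  have h3 := key ζ v
  rw [hc.act, map_smul, smul_eq_mul] at h3
  have h4 : (c - 1) * f v = 0 := by rw [sub_mul, h3, one_mul, sub_self]
  exact (mul_eq_zero.1 h4).resolve_left (sub_ne_zero.2 hc.ne)

/-- the fixed space of `z` on a 3-dimensional module is 1-dimensional -/
theorem ev_one (hF : Full ζ z g₁ g₂ β t a) (hc : Ch ρ ζ c) (h3 : finrank F M = 3) : ev (ρ z) 1 = 1 := by
  have h1 := ev_le hF ρ hc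
  have h2 := even_sub hF.h1.z5 hF.tt hF.tz ρ
  rw [h3] at h1 h2
  obtain ⟨k, hk⟩ := h2
  omega

/-- proportional fixed vectors -/
theorem fix_prop (h1 : ev (ρ z) 1 = 1) {v w : M} (hv : ρ z v = v) (hw : ρ z w = w) (h0 : w ≠ 0) : ∃ s : F, v = s • w := by
  have hv' : v ∈ Module.End.eigenspace (ρ z) 1 := by rw [Module.End.mem_eigenspace_iff, one_smul]; exact hv
  have hw' : w ∈ Module.End.eigenspace (ρ z) 1 := by rw [Module.End.mem_eigenspace_iff, one_smul]; exact hw
  obtain ⟨s, hs⟩ := (finrank_eq_one_iff_of_nonzero' (⟨w, hw'⟩ : ↥(Module.End.eigenspace (ρ z) 1))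
    (fun h => h0 (congrArg Subtype.val h))).1 h1 ⟨v, hv'⟩
  exact ⟨s, (congrArg Subtype.val hs).symm⟩

theorem KF.smul {w : M} (k : KF ρ z g w) (s : F) : KF ρ z g (s • w) := by
  refine ⟨?_, ?_⟩
  · rw [map_smul, k.1]
  · rw [map_smul, k.2]

theorem KF.add {v w : M} (k : KF ρ z g v) (k' : KF ρ z g w) : KF ρ z g (v + w) := by
  refine ⟨?_, ?_⟩
  · rw [map_add, k.1, k'.1]
  · rw [map_add, k.2, k'.2]

/-- **types** : a 3-dimensional module has exactly one type -/
theorem types (hF : Full ζ z g₁ g₂ β t a) (hc : Ch ρ ζ c) (h3 : finrank F M = 3) :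
    ((∃ w, w ≠ 0 ∧ KF ρ z g₁ w) ∧ (∀ w, KF ρ z g₂ w → w = 0) ∧
      ∃ f : M →ₗ[F] F, f ≠ 0 ∧ (∀ v, f (ρ z v) = f v) ∧ ∀ v, f (ρ (xx z g₂) v) = f v) ∨
    ((∃ w, w ≠ 0 ∧ KF ρ z g₂ w) ∧ (∀ w, KF ρ z g₁ w → w = 0) ∧
      ∃ f : M →ₗ[F] F, f ≠ 0 ∧ (∀ v, f (ρ z v) = f v) ∧ ∀ v, f (ρ (xx z g₁) v) = f v) := by
  have e1 := ev_one hF hc h3
  have hlt : finrank F M < 6 * ev (ρ z) 1 := by rw [h3, e1]; norm_num
  -- not both fixed vectors
  have hA : ∀ w w', w ≠ 0 → KF ρ z g₁ w → KF ρ z g₂ w' → w' = 0 := by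
    intro w w' h0 k k'
    obtain ⟨s, rfl⟩ := fix_prop e1 k'.1 k.1 h0
    exact both_fix hF hc (k.smul s) k'
  -- not both functionals
  have hB : ∀ f f' : M →ₗ[F] F, f ≠ 0 → (∀ v, f (ρ z v) = f v) → (∀ v, f (ρ (xx z g₁) v) = f v) →
      (∀ v, f' (ρ z v) = f' v) → (∀ v, f' (ρ (xx z g₂) v) = f' v) → f' = 0 := by
    intro f f' hf h1 h2 h1' h2'
    obtain ⟨u, hu0, hu⟩ : ∃ u : M, u ≠ 0 ∧ ρ z u = u := by
      have hpos : 0 < ev (ρ z) 1 := by rw [e1]; exact Nat.one_pos
      rw [ev, Module.finrank_pos_iff] at hpos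
      obtain ⟨⟨u, hu⟩, hne⟩ := exists_ne (0 : ↥(Module.End.eigenspace (ρ z) 1))
      rw [Module.End.mem_eigenspace_iff, one_smul] at hu
      exact ⟨u, fun h => hne (Subtype.ext h), hu⟩
    -- functionals are determined by the value at `u`
    have key : ∀ v, f u • f' v = f' u • f v := by
      intro v
      obtain ⟨s, hs⟩ := fix_prop e1 (avg_fix (T := ρ z) (fun v => z_five hF.h1.z5 v) v) hu hu0
      rw [← fun_avg h1 v, ← fun_avg h1' v, hs, map_smul, map_smul]
      simp only [smul_eq_mul]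
      ring
    have hfu : f u ≠ 0 := by
      intro h
      apply hf
      apply LinearMap.ext
      intro v
      obtain ⟨s, hs⟩ := fix_prop e1 (avg_fix (T := ρ z) (fun v => z_five hF.h1.z5 v) v) hu hu0
      rw [← fun_avg h1 v, hs, map_smul, h, smul_zero]
      rfl
    have hf' : f' = (f' u / f u) • f := by
      apply LinearMap.ext
      intro v
      have := key v
      simp only [smul_eq_mul] at this
      rw [LinearMap.smul_apply, smul_eq_mul]
      field_simp
      linear_combination this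
    apply both_fun hF hc h1' ?_ h2'
    intro v
    rw [hf', LinearMap.smul_apply, LinearMap.smul_apply, h2]
  rcases fourfix hF.h1 ρ hc hlt with ⟨w, h0, k⟩ | ⟨f, hf, f1, f2⟩
  · left
    refine ⟨⟨w, h0, k⟩, fun w' k' => hA w w' h0 k k', ?_⟩
    rcases fourfix hF.h2 ρ hc hlt with ⟨w', h0', k'⟩ | ⟨f, hf, f1, f2⟩
    · exact absurd (hA w w' h0 k k') h0'
    · exact ⟨f, hf, f1, f2⟩
  · right
    rcases fourfix hF.h2 ρ hc hlt with ⟨w', h0', k'⟩ | ⟨f', hf', f1', f2'⟩
    · refine ⟨⟨w', h0', k'⟩, fun w k => ?_, f, hf, f1, f2⟩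
      by_contra h0
      exact h0' (hA w w' h0 k k')
    · exact absurd (hB f f' hf f1 f2 f1' f2') hf'

end Cfsg.Agent.H958.SixC
end

-- part: H958/SixC/Ty
section
/-!
# S5927, S5928: `sixc_two`, typed 3-dimensional subspaces (helper958)
-/

set_option autoImplicit false

namespace Cfsg.Agent.H958.SixC

open Module

/-- exchange of the two classes of subgroups `A₅` -/
theorem Full.symm {P : Type*} [Group P] {ζ z g₁ g₂ β t a : P} (h : Full ζ z g₁ g₂ β t a) :
    Full ζ z g₂ g₁ β⁻¹ t a where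
  cen := h.cen
  cube := h.cube
  beta := by
    rcases h.beta with rfl | rfl
    · exact Or.inr rfl
    · exact Or.inl (inv_inv _)
  h1 := h.h2
  h2 := by rw [inv_inv]; exact h.h1
  tt := h.tt
  tz := h.tz
  gen12 := by
    rw [← h.gen12]
    congr 1
    ext x
    simp only [Set.mem_insert_iff, Set.mem_singleton_iff]
    itauto
  a3 := h.a3
  a3' := h.a3'
  ta := h.ta
  ta' := h.ta'
  gena := h.gena

end Cfsg.Agent.H958.SixC

namespace Cfsg.Agent.H163.E6.SixC

open Cfsg Cfsg.Lie Module Equiv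
open Cfsg.Agent.ChevalleyStructure.E6Min.Tables Cfsg.Agent.ChevalleyStructure.E6Min.Basic
  Cfsg.Agent.ChevalleyStructure.E6Min.Adjoint
open Cfsg.Agent.H952.F4 (ev es matRep sh cr tf MaxAlt)
open Cfsg.Agent.H958.SixC

universe u

variable {F : Type u} [Field F] {φ : ↥(alternatingGroup (Fin 6)) →* ↥(chevE6.group F)}

/-- 3-dimensional stable subspaces containing a vector fixed by `⟨z, xx z g⟩ ≅ A₅` -/
structure Ty (φ : ↥(alternatingGroup (Fin 6)) →* ↥(chevE6.group F)) (ρ : Representation F ↥(Zgrp F) (I27 → F))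
    (z g : ↥(φ.range.comap (ad F))) (W : Submodule F (I27 → F)) : Prop where
  st : Stab ρ φ.range W
  d : finrank F ↥W = 3
  k : ∃ w ∈ W, w ≠ 0 ∧ KF (rP φ ρ) z g w

/-- span of the products (the same as helper944's `crs`) -/
def crs (S T : Submodule F (I27 → F)) : Submodule F (I27 → F) :=
  Submodule.span F {y | ∃ s ∈ S, ∃ t ∈ T, y = cr s t}

theorem ch_pr {ω : Fˣ} (h1 : ω ≠ 1) (h3 : ω ^ 3 = 1) {ζ : ↥(φ.range.comap (ad F))}
    (hζ : ((ζ : ↥(Zgrp F)) : GL I27 F) = scal ω) {ρ : Representation F ↥(Zgrp F) (I27 → F)} (hρ : ρ = V F ∨ ρ = V' F) :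
    ∃ c : F, Ch (rP φ ρ) ζ c := by
  rcases hρ with rfl | rfl
  · exact ⟨_, ch_V h1 h3 hζ⟩
  · exact ⟨_, ch_V' h1 h3 hζ⟩

/-- the types of a 3-dimensional stable subspace -/
theorem ty_cases [CharP F 2] {ω : Fˣ} (h1 : ω ≠ 1) (h3 : ω ^ 3 = 1) {ζ z g₁ g₂ β t a : ↥(φ.range.comap (ad F))}
    (hF : Full ζ z g₁ g₂ β t a) (hζ : ((ζ : ↥(Zgrp F)) : GL I27 F) = scal ω)
    {ρ : Representation F ↥(Zgrp F) (I27 → F)} (hρ : ρ = V F ∨ ρ = V' F) {W : Submodule F (I27 → F)}
    (hW : Stab ρ φ.range W) (hd : finrank F ↥W = 3) :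
    (Ty φ ρ z g₁ W ∧ ¬ Ty φ ρ z g₂ W) ∨ (Ty φ ρ z g₂ W ∧ ¬ Ty φ ρ z g₁ W) := by
  obtain ⟨c, hc⟩ := ch_pr h1 h3 hζ hρ
  have hst : St (rP φ ρ) W := st_iff.2 hW
  have ht := types (ρ := (rP φ ρ).subrepresentation W (fun g w hw => hst g w hw)) hF (c := c)
    ⟨fun v => Subtype.ext ((hc.act v :)), hc.ne, hc.cube⟩ hd
  have lift : ∀ {g : ↥(φ.range.comap (ad F))} {w : ↥W},
      KF ((rP φ ρ).subrepresentation W (fun g w hw => hst g w hw)) z g w ↔ KF (rP φ ρ) z g (w : I27 → F) := by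
    intro g w
    constructor
    · exact fun h => ⟨congrArg Subtype.val h.1, congrArg Subtype.val h.2⟩
    · exact fun h => ⟨Subtype.ext h.1, Subtype.ext h.2⟩
  rcases ht with ⟨⟨w, h0, k⟩, hno, -⟩ | ⟨⟨w, h0, k⟩, hno, -⟩
  · left
    refine ⟨⟨hW, hd, w, w.2, fun h => h0 (Subtype.ext h), lift.1 k⟩, ?_⟩
    rintro ⟨-, -, w', hw', h0', k'⟩
    exact h0' (congrArg Subtype.val (hno ⟨w', hw'⟩ (lift.2 k')))
  · right
    refine ⟨⟨hW, hd, w, w.2, fun h => h0 (Subtype.ext h), lift.1 k⟩, ?_⟩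
    rintro ⟨-, -, w', hw', h0', k'⟩
    exact h0' (congrArg Subtype.val (hno ⟨w', hw'⟩ (lift.2 k')))

end Cfsg.Agent.H163.E6.SixC
end
end

-- part: H65/SixBoth
section
prune_inst 0x600400022202000000000402200010000000220040000000000008004080020000004020000010100000010001004000000030420000000a00040000010000088054063340010c06001e000000000000000000000000000000000000010000000000000
set_option linter.all false
open scoped Cfsg.Agent.FastGrp

-- part: H905/SixC/Eps
section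
/-!
# S5927, S5928, `sixc_two`, BOX M: the automorphism of `A₆` of type `M₁₀` (helper905)

`exists_eps` : an automorphism `ε` of `A₆` with `ε z0 = z0²` exchanging the two subgroups `A₅` containing `z0`, and
mapping `(a0, b0)` to a conjugate of `(a0 b0, a0 b0⁻¹)`.
-/

set_option autoImplicit false

namespace Cfsg.Agent.H905.SixC

open Equiv Equiv.Perm
open Cfsg.Agent.Lib.AltCarmichael
open Cfsg.Agent.LFourA.AltPsiAut (NE mem_NE mem_NE_iff u3)
open Cfsg.Agent.H163.E6.SixC (z0 g10 g20 t0 a0 b0)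
open Cfsg.Agent.H958.SixC (xx)

/-- the alternating group -/
abbrev A6 := ↥(alternatingGroup (Fin 6))

def xo : ℕ → A6
  | 0 => ⟨c[0, 5, 4] * c[1, 2, 3], Perm.mem_alternatingGroup.2 (by decide +kernel)⟩
  | 1 => ⟨c[0, 1, 3] * c[2, 4, 5], Perm.mem_alternatingGroup.2 (by decide +kernel)⟩
  | 2 => ⟨c[0, 3, 5] * c[1, 4, 2], Perm.mem_alternatingGroup.2 (by decide +kernel)⟩
  | _ => ⟨c[0, 4, 1] * c[2, 5, 3], Perm.mem_alternatingGroup.2 (by decide +kernel)⟩

theorem rel_xo : Rel 4 xo where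
  cube := by
    intro i hi
    interval_cases i <;> (apply Subtype.ext; decide +kernel)
  sq := by
    intro i hi j hj hij
    interval_cases i <;> interval_cases j <;> first | exact absurd rfl hij | (apply Subtype.ext; decide +kernel)

/-- the conjugating element -/
def gg : A6 := ⟨c[0, 2, 3] * c[1, 5, 4], Perm.mem_alternatingGroup.2 (by decide +kernel)⟩

/-- the two involutions -/
def x10 : A6 := xx z0 g10
def x20 : A6 := xx z0 g20

/-- the values of the automorphism -/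
structure Eps (ε : MulAut A6) : Prop where
  z : ε z0 = z0 ^ 2
  x1 : ε ((z0 * z0 * x10 * z0) * x10 * (z0 * z0 * x10 * z0)⁻¹) = x20
  x2 : ε ((x20 * z0) * x20 * (x20 * z0)⁻¹) = x10
  a : ε a0 = gg * (a0 * b0) * gg⁻¹
  b : ε b0 = gg * (a0 * b0⁻¹) * gg⁻¹
  ne : ε ∉ NE

theorem exists_eps : ∃ ε : MulAut A6, Eps ε := by
  obtain ⟨φ, hφ⟩ := exists_hom (m := 4) (by norm_num) rel_xo
  have hinj : Function.Injective φ := by
    have hs : IsSimpleGroup (alternatingGroup (Fin 6)) := alternatingGroup.isSimpleGroup (by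
      rw [Nat.card_eq_fintype_card, Fintype.card_fin]; norm_num)
    rw [← MonoidHom.ker_eq_bot_iff]
    rcases hs.eq_bot_or_eq_top_of_normal φ.ker inferInstance with h | h
    · exact h
    · exfalso
      have h1 : (⟨cyc 4 0, cyc_mem 4 0 (by norm_num)⟩ : alternatingGroup (Fin (4 + 2))) ∈ φ.ker := by
        rw [h]; trivial
      rw [MonoidHom.mem_ker, hφ 0 (by norm_num)] at h1
      have := congrArg Subtype.val h1
      revert this; decide +kernel
  let ε : MulAut A6 := MulEquiv.ofBijective φ ((Finite.injective_iff_bijective).1 hinj)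
  have hε : ∀ x, ε x = φ x := fun x => rfl
  let c0 : A6 := ⟨cyc 4 0, cyc_mem 4 0 (by norm_num)⟩
  let c1 : A6 := ⟨cyc 4 1, cyc_mem 4 1 (by norm_num)⟩
  let c2 : A6 := ⟨cyc 4 2, cyc_mem 4 2 (by norm_num)⟩
  let c3 : A6 := ⟨cyc 4 3, cyc_mem 4 3 (by norm_num)⟩
  have e0 : ε c0 = xo 0 := hφ 0 (by norm_num)
  have e1 : ε c1 = xo 1 := hφ 1 (by norm_num)
  have e2 : ε c2 = xo 2 := hφ 2 (by norm_num)
  have e3 : ε c3 = xo 3 := hφ 3 (by norm_num)
  have wz : z0 = c3 * c1 * c2 * c0 * c1 := by apply Subtype.ext; decide +kernel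
  have wx1 : x10 = c0 * c0 * c1 * c3 * c0 := by apply Subtype.ext; decide +kernel
  have wx2 : x20 = c1 * c0 := by apply Subtype.ext; decide +kernel
  have wa : a0 = c0 * c1 * c2 * c0 * c1 := by apply Subtype.ext; decide +kernel
  have wb : b0 = c3 := by apply Subtype.ext; decide +kernel
  have vz : ε z0 = xo 3 * xo 1 * xo 2 * xo 0 * xo 1 := by
    rw [wz, map_mul, map_mul, map_mul, map_mul, e0, e1, e2, e3]
  have vx1 : ε x10 = xo 0 * xo 0 * xo 1 * xo 3 * xo 0 := by
    rw [wx1, map_mul, map_mul, map_mul, map_mul, e0, e1, e3]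
  have vx2 : ε x20 = xo 1 * xo 0 := by rw [wx2, map_mul, e0, e1]
  have va : ε a0 = xo 0 * xo 1 * xo 2 * xo 0 * xo 1 := by
    rw [wa, map_mul, map_mul, map_mul, map_mul, e0, e1, e2]
  have vb : ε b0 = xo 3 := by rw [wb, e3]
  refine ⟨ε, ?_, ?_, ?_, ?_, ?_, ?_⟩
  · rw [vz]; apply Subtype.ext; decide +kernel
  · simp only [map_mul, map_inv, vz, vx1]; apply Subtype.ext; decide +kernel
  · simp only [map_mul, map_inv, vz, vx2]; apply Subtype.ext; decide +kernel
  · rw [va]; apply Subtype.ext; decide +kernel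
  · rw [vb]; apply Subtype.ext; decide +kernel
  · intro hne
    have h1 := mem_NE_iff.1 hne
    have hu : u3 = a0 := by apply Subtype.ext; decide +kernel
    rw [hu, va] at h1
    have h2 := h1.card_support
    revert h2
    decide +kernel

end Cfsg.Agent.H905.SixC
end

-- part: H905/SixC/M10
section
/-!
# S5927, S5928, `sixc_two`, BOX M (helper905)

`Cfsg.Agent.H163.E6.SixC.m10` : if the three-fold cover of `A₆` is involved and `H` is larger than the alternating group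
then an element of the preimage of `H` acts as the automorphism of type `M₁₀`.
-/

set_option autoImplicit false

namespace Cfsg.Agent.H905.SixC

open Cfsg Cfsg.Lie Module Equiv Equiv.Perm
open Cfsg.Agent.ChevalleyStructure.E6Min.Tables Cfsg.Agent.ChevalleyStructure.E6Min.Basic
  Cfsg.Agent.ChevalleyStructure.E6Min.Adjoint
open Cfsg.Agent.LFourA.AltPsiAut (NE mem_NE mem_NE_iff inv_mul_mem exists_perm)
open Cfsg.Agent.H163.E6
open Cfsg.Agent.H163.E6.SixC (z0 g10 g20 t0 a0 b0)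
open Cfsg.Agent.H958.SixC (xx KF)

universe u

variable {F : Type u} [Field F] {H : Subgroup ↥(chevE6.group F)}
  {φ : ↥(alternatingGroup (Fin 6)) →* ↥(chevE6.group F)}

/-- the automorphism induced by an element of `H` -/
theorem exists_aut (hS : Sit H 6 φ) {h : ↥(chevE6.group F)} (hh : h ∈ H) :
    ∃ α : MulAut A6, ∀ a, h * φ a * h⁻¹ = φ (α a) := by
  have hex : ∀ x, ∃ y, φ y = h * φ x * h⁻¹ := fun x => hS.norm h hh (φ x) ⟨x, rfl⟩
  choose f hf using hex
  have hinj : Function.Injective f := by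
    intro x y hxy
    have h1 := hf x
    rw [hxy, hf y] at h1
    exact hS.inj (mul_left_cancel (mul_right_cancel h1)).symm
  exact ⟨MulEquiv.ofBijective (MonoidHom.mk' f (fun x y => hS.inj (by simp only [hf, map_mul, map_mul, hf, hf]; group)))
    (Finite.injective_iff_bijective.mp hinj), fun a => (hf a).symm⟩

/-- an element of `H` inducing an inner automorphism belongs to the alternating group -/
theorem mem_of_inner (hS : Sit H 6 φ) {h : ↥(chevE6.group F)} (hh : h ∈ H) {s : A6}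
    (hs : ∀ a, h * φ a * h⁻¹ = φ (s * a * s⁻¹)) : h ∈ φ.range := by
  have hm : h * (φ s)⁻¹ = 1 := by
    refine hS.cent _ (mul_mem hh (inv_mem (hS.le ⟨s, rfl⟩))) fun x => ?_
    have h1 := hs (s⁻¹ * x * s)
    simp only [show s * (s⁻¹ * x * s) * s⁻¹ = x by group, map_mul, map_mul, map_inv] at h1
    calc φ x * (h * (φ s)⁻¹) = h * ((φ s)⁻¹ * φ x * φ s) * h⁻¹ * (h * (φ s)⁻¹) := by rw [h1]
      _ = h * (φ s)⁻¹ * φ x := by group
  exact ⟨s, (mul_inv_eq_one.mp hm).symm⟩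

/-- commutators of lifts of commuting elements are invariant -/
theorem comm_eq {h : ↥(chevE6.group F)} {a b a' b' : A6} (ha : h * φ a * h⁻¹ = φ a') (hb : h * φ b * h⁻¹ = φ b')
    (hab : a * b = b * a) {x y x' y' : ↥(Zgrp F)} (hx : ad F x = φ a) (hy : ad F y = φ b) (hx' : ad F x' = φ a')
    (hy' : ad F y' = φ b') : x' * y' * x'⁻¹ * y'⁻¹ = x * y * x⁻¹ * y⁻¹ := by
  obtain ⟨g, hg⟩ := ad_surjective h
  have k1 : ad F (x'⁻¹ * (g * x * g⁻¹)) = 1 := by
    simp only [map_mul, map_inv, map_mul, map_mul, map_inv, hg, hx, hx', ha, inv_mul_cancel]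
  have k2 : ad F (y'⁻¹ * (g * y * g⁻¹)) = 1 := by
    simp only [map_mul, map_inv, map_mul, map_mul, map_inv, hg, hy, hy', hb, inv_mul_cancel]
  have k3 : ad F (x * y * x⁻¹ * y⁻¹) = 1 := by
    (rewrite [map_mul]; simp +singlePass only [map_mul]; simp only [map_mul]; (conv => enter [@2, @5, @6]; rw [map_inv]); simp only [map_inv]; simp only [hx]; rewrite [hy]; (conv => enter [@2, @5, @6]; rw [← map_inv]); rewrite [← map_inv]; (conv => enter [@2, @5, @5]; rw [← map_mul]); rewrite [← map_mul, ← map_mul, hab, mul_inv_cancel_right, mul_inv_cancel, map_one]; with_reducible rfl)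
  set c := x'⁻¹ * (g * x * g⁻¹) with hc
  set d := y'⁻¹ * (g * y * g⁻¹) with hd
  have e1 : x' = g * x * g⁻¹ * c⁻¹ := by rw [hc]; group
  have e2 : y' = g * y * g⁻¹ * d⁻¹ := by rw [hd]; group
  have q1 : ∀ w : ↥(Zgrp F), w * c = c * w := fun w => Cov.ker_comm k1 w
  have q2 : ∀ w : ↥(Zgrp F), w * d = d * w := fun w => Cov.ker_comm k2 w
  have q1' : ∀ w : ↥(Zgrp F), w * c⁻¹ = c⁻¹ * w := fun w => ((Commute.inv_right (q1 w) : Commute w c⁻¹)).eq
  have q2' : ∀ w : ↥(Zgrp F), w * d⁻¹ = d⁻¹ * w := fun w => ((Commute.inv_right (q2 w) : Commute w d⁻¹)).eq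
  have q3 := Cov.ker_comm k3
  calc x' * y' * x'⁻¹ * y'⁻¹ = (g * x * g⁻¹ * c⁻¹) * (g * y * g⁻¹ * d⁻¹) * (g * x * g⁻¹ * c⁻¹)⁻¹ *
        (g * y * g⁻¹ * d⁻¹)⁻¹ := by simp only [← e1, ← e2]
    _ = g * x * g⁻¹ * (c⁻¹ * (g * y * g⁻¹ * d⁻¹)) * (c * (g * x * g⁻¹)⁻¹) * (d * (g * y * g⁻¹)⁻¹) := by group
    _ = g * x * g⁻¹ * (g * y * g⁻¹ * d⁻¹ * c⁻¹) * (c * (g * x * g⁻¹)⁻¹) * (d * (g * y * g⁻¹)⁻¹) := by
        simp only [← q1' (g * y * g⁻¹ * d⁻¹)]
    _ = g * x * g⁻¹ * (g * y * g⁻¹) * (d⁻¹ * (g * x * g⁻¹)⁻¹) * (d * (g * y * g⁻¹)⁻¹) := by group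
    _ = g * x * g⁻¹ * (g * y * g⁻¹) * ((g * x * g⁻¹)⁻¹ * d⁻¹) * (d * (g * y * g⁻¹)⁻¹) := by simp only [← q2']
    _ = g * (x * y * x⁻¹ * y⁻¹) * g⁻¹ := by group
    _ = x * y * x⁻¹ * y⁻¹ := by rw [q3 g]; group

/-- the commutator of lifts of `(0 1 2)` and `(3 4 5)` -/
theorem comm_ne [Finite F] (hφ : Function.Injective φ) {ω : Fˣ} (hc : Cover φ ω) {x y : ↥(Zgrp F)} (hx : ad F x = φ a0)
    (hy : ad F y = φ b0) : ad F (x * y * x⁻¹ * y⁻¹) = 1 ∧ x * y * x⁻¹ * y⁻¹ ≠ 1 := by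
  constructor
  · have hab : a0 * b0 = b0 * a0 := by apply Subtype.ext; decide +kernel
    (rewrite [map_mul]; simp +singlePass only [map_mul]; simp only [map_mul]; rewrite [map_inv]; simp only [map_inv]; simp only [hx]; rewrite [hy, ← map_inv, ← map_inv, ← map_mul, ← map_mul, ← map_mul, hab, mul_inv_cancel_right, mul_inv_cancel, map_one]; with_reducible rfl)
  · intro h1
    have ha : ((a0 : A6) : Perm (Fin 6)).cycleType = {3} := by
      have h3 : ((a0 : A6) : Perm (Fin 6)).IsThreeCycle := by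
        rw [← card_support_eq_three_iff]; decide +kernel
      exact h3
    have hb : ((b0 : A6) : Perm (Fin 6)).cycleType = {3} := by
      have h3 : ((b0 : A6) : Perm (Fin 6)).IsThreeCycle := by
        rw [← card_support_eq_three_iff]; decide +kernel
      exact h3
    have hab : ((a0 : A6) : Perm (Fin 6)).Disjoint ((b0 : A6) : Perm (Fin 6)) := by
      intro i
      revert i
      decide +kernel
    have h2 := Cov.not_comm (Or.inl rfl) hφ hc ha hb hab hx hy
    rw [h1] at h2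
    rcases h2 with ⟨-, h2⟩ | ⟨-, h2⟩
    · have h3 : (scal (1 : Fˣ) : GL I27 F) = scal ω := by rw [Cov.scal_one, ← h2]; rfl
      exact hc.1 (Cov.scal_injective h3).symm
    · have h3 : (scal (1 : Fˣ) : GL I27 F) = scal ω⁻¹ := by rw [Cov.scal_one, ← h2]; rfl
      exact hc.1 (by rw [← inv_inv ω, ← Cov.scal_injective h3, inv_one])

theorem eq_one_of_sq {c : ↥(Zgrp F)} (hc : ad F c = 1) (h2 : c * c = 1) : c = 1 := by
  have h3 := Cov.ker_pow hc
  rw [pow_succ, pow_two, h2, one_mul] at h3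
  exact h3

/-- the odd permutation `(3 4)` -/
def s34 : Perm (Fin 6) := swap 3 4

theorem s34_sign : sign s34 = -1 := by decide

/-- an odd permutation is not induced -/
theorem not_odd [Finite F] (hφ : Function.Injective φ) {ω : Fˣ} (hc : Cover φ ω) {h : ↥(chevE6.group F)}
    (ha : h * φ a0 * h⁻¹ = φ a0) (hb : h * φ b0 * h⁻¹ = φ b0⁻¹) : False := by
  obtain ⟨x, hx⟩ := ad_surjective (φ a0)
  obtain ⟨y, hy⟩ := ad_surjective (φ b0)
  have hab : a0 * b0 = b0 * a0 := by apply Subtype.ext; decide +kernel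
  obtain ⟨k1, k2⟩ := comm_ne hφ hc hx hy
  have k3 := comm_eq ha hb hab hx hy hx (y' := y⁻¹) (by rw [map_inv, hy, map_inv])
  apply k2
  apply eq_one_of_sq k1
  have q := Cov.ker_comm k1
  set c := x * y * x⁻¹ * y⁻¹ with hcd
  have q' : ∀ w : ↥(Zgrp F), w * c⁻¹ = c⁻¹ * w := fun w => ((Commute.inv_right (q w) : Commute w c⁻¹)).eq
  have e1 : c = c⁻¹ := by
    calc c = x * y⁻¹ * x⁻¹ * y⁻¹⁻¹ := k3.symm
      _ = y⁻¹ * c⁻¹ * y := by rw [hcd]; group
      _ = c⁻¹ := by rw [q' y⁻¹, inv_mul_cancel_right]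
  nth_rw 1 [e1]
  rw [inv_mul_cancel]

/-- the automorphism `ε ∘ (3 4)` is not induced -/
theorem not_eps_odd [Finite F] (hφ : Function.Injective φ) {ω : Fˣ} (hc : Cover φ ω) {h : ↥(chevE6.group F)}
    (ha : h * φ a0 * h⁻¹ = φ (gg * (a0 * b0) * gg⁻¹)) (hb : h * φ b0 * h⁻¹ = φ (gg * (a0 * b0⁻¹) * gg⁻¹)⁻¹) :
    False := by
  obtain ⟨x, hx⟩ := ad_surjective (φ a0)
  obtain ⟨y, hy⟩ := ad_surjective (φ b0)
  obtain ⟨g, hg⟩ := ad_surjective (φ gg)
  have hab : a0 * b0 = b0 * a0 := by apply Subtype.ext; decide +kernel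
  obtain ⟨k1, k2⟩ := comm_ne hφ hc hx hy
  have k3 := comm_eq ha hb hab hx hy (x' := g * (x * y) * g⁻¹) (y' := (g * (x * y⁻¹) * g⁻¹)⁻¹)
    (by simp only [map_mul, map_inv, hx, hy, hg]) (by simp only [map_mul, map_inv, hx, hy, hg])
  have q := Cov.ker_comm k1
  set c := x * y * x⁻¹ * y⁻¹ with hcd
  -- `c = g [x y, y x⁻¹] g⁻¹ = g c² g⁻¹`
  have e1 : c = c * c := by
    calc c = g * (x * y) * g⁻¹ * (g * (x * y⁻¹) * g⁻¹)⁻¹ * (g * (x * y) * g⁻¹)⁻¹ *
          (g * (x * y⁻¹) * g⁻¹)⁻¹⁻¹ := k3.symm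
      _ = g * (c * (y * c) * y⁻¹) * g⁻¹ := by rw [hcd]; group
      _ = g * (c * c) * g⁻¹ := by rw [q y]; group
      _ = c * c := by
        rw [← mul_assoc g c c, q g, mul_assoc c g c, q g]
        group
  apply k2
  have h5 : c * 1 = c * c := by rw [mul_one]; exact e1
  exact (mul_left_cancel h5).symm

/-- **An element of `H` outside the alternating group can be chosen to induce `ε`.** -/
theorem exists_h [Finite F] (hS : Sit H 6 φ) {ω : Fˣ} (hc : Cover φ ω) {h : ↥(chevE6.group F)} (hh : h ∈ H)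
    (hn : h ∉ φ.range) {ε : MulAut A6} (hε : Eps ε) : ∃ h' ∈ H, ∀ a, h' * φ a * h'⁻¹ = φ (ε a) := by
  obtain ⟨α, hα⟩ := exists_aut hS hh
  -- composition with inner automorphisms
  have hcomp : ∀ t : A6, ∀ a, (h * φ t) * φ a * (h * φ t)⁻¹ = φ (α (t * a * t⁻¹)) := by
    intro t a
    (rewrite [← hα]; simp +singlePass only [map_mul]; simp only [map_mul]; simp only [map_inv])
    group
  have hmem : ∀ t : A6, h * φ t ∈ H := fun t => mul_mem hh (hS.le ⟨t, rfl⟩)
  have hs0 : ∀ σ : Perm (Fin 6), sign σ = -1 → sign (σ⁻¹ * s34) = 1 := by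
    intro σ hσ
    rw [map_mul, map_inv, hσ, s34_sign]
    decide
  have sa : s34 * ((a0 : A6) : Perm (Fin 6)) * s34⁻¹ = ((a0 : A6) : Perm (Fin 6)) := by decide +kernel
  have sb : s34 * ((b0 : A6) : Perm (Fin 6)) * s34⁻¹ = ((b0⁻¹ : A6) : Perm (Fin 6)) := by decide +kernel
  have hα0 : α ∉ NE := by
    intro hne
    obtain ⟨σ, hσ⟩ := exists_perm hne
    rcases Int.units_eq_one_or (sign σ) with h1 | h1
    · apply hn
      refine mem_of_inner hS hh (s := ⟨σ, mem_alternatingGroup.2 h1⟩) fun a => ?_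
      rw [hα]
      congr 1
      exact Subtype.ext (hσ a)
    · let t : A6 := ⟨σ⁻¹ * s34, mem_alternatingGroup.2 (hs0 σ h1)⟩
      have ht : ∀ a : A6, (α (t * a * t⁻¹) : Perm (Fin 6)) = s34 * a * s34⁻¹ := by
        intro a
        rw [hσ]
        show σ * (σ⁻¹ * s34 * a * (σ⁻¹ * s34)⁻¹) * σ⁻¹ = _
        group
      refine not_odd hS.inj hc (h := h * φ t) ?_ ?_
      · rw [hcomp]
        congr 1
        exact Subtype.ext ((ht a0).trans sa)
      · rw [hcomp]
        congr 1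
        exact Subtype.ext ((ht b0).trans sb)
  obtain ⟨σ, hσ⟩ := exists_perm (inv_mul_mem hε.ne hα0)
  have hσ' : ∀ a b : A6, (b : Perm (Fin 6)) = σ * a * σ⁻¹ → α a = ε b := by
    intro a b hb
    have h1 : (ε⁻¹ * α) a = b := Subtype.ext ((hσ a).trans hb.symm)
    rw [← h1, MulAut.mul_apply, MulAut.apply_inv_self]
  rcases Int.units_eq_one_or (sign σ) with h1 | h1
  · let t : A6 := ⟨σ⁻¹, mem_alternatingGroup.2 (by rw [map_inv, h1, inv_one])⟩
    refine ⟨h * φ t, hmem t, fun a => ?_⟩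
    rw [hcomp]
    congr 1
    apply hσ'
    show (a : Perm (Fin 6)) = σ * (σ⁻¹ * a * σ⁻¹⁻¹) * σ⁻¹
    group
  · exfalso
    let t : A6 := ⟨σ⁻¹ * s34, mem_alternatingGroup.2 (hs0 σ h1)⟩
    have ht : ∀ a b : A6, (b : Perm (Fin 6)) = s34 * a * s34⁻¹ → α (t * a * t⁻¹) = ε b := by
      intro a b hb
      apply hσ'
      rw [hb]
      show _ = σ * (σ⁻¹ * s34 * a * (σ⁻¹ * s34)⁻¹) * σ⁻¹
      group
    refine not_eps_odd hS.inj hc (h := h * φ t) ?_ ?_
    · rw [hcomp, ht a0 a0 sa.symm, hε.a]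
    · rw [hcomp, ht b0 b0⁻¹ sb.symm, map_inv, hε.b]

/-! ### lifts -/

/-- lifts of order prime to 3 are unique -/
theorem lift_unique {x y : ↥(Zgrp F)} (h : ad F x = ad F y) {m k : ℕ} (hx : x ^ m = 1) (hy : y ^ m = 1)
    (hm : m * k = 3 * ((m * k - 1) / 3) + 1) : x = y := by
  have h1 : ad F (y⁻¹ * x) = 1 := by simp only [map_mul, map_inv, h, inv_mul_cancel]
  set c := y⁻¹ * x with hcd
  have h3 := Cov.ker_pow h1
  have q := Cov.ker_comm h1
  have e1 : x = y * c := by rw [hcd]; group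
  have hcm : Commute y c := q y
  have e2 : c ^ m = 1 := by
    have h5 := hcm.mul_pow m
    simp only [← e1, hx, hy, one_mul] at h5
    exact h5.symm
  have e3 : c = 1 := by
    have h6 : c ^ (m * k) = 1 := by rw [pow_mul, e2, one_pow]
    rw [hm, pow_succ, pow_mul, h3, one_pow, one_mul] at h6
    exact h6
  rw [e1, e3, mul_one]

theorem two_unique {x y : ↥(Zgrp F)} (h : ad F x = ad F y) (hx : x * x = 1) (hy : y * y = 1) : x = y :=
  lift_unique (m := 2) (k := 2) h (by rw [pow_two, hx]) (by rw [pow_two, hy]) (by norm_num)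

theorem five_unique {x y : ↥(Zgrp F)} (h : ad F x = ad F y) (hx : x ^ 5 = 1) (hy : y ^ 5 = 1) : x = y :=
  lift_unique (m := 5) (k := 2) h hx hy (by norm_num)

theorem xx_sq {P : Type*} [Group P] {z g : P} (hg : g * g = 1) : xx z g * xx z g = 1 := by
  show g * z * z * g * z⁻¹ * z⁻¹ * g * (g * z * z * g * z⁻¹ * z⁻¹ * g) = 1
  calc g * z * z * g * z⁻¹ * z⁻¹ * g * (g * z * z * g * z⁻¹ * z⁻¹ * g)
      = g * z * z * g * z⁻¹ * z⁻¹ * (g * g) * z * z * g * z⁻¹ * z⁻¹ * g := by group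
    _ = g * z * z * (g * (z⁻¹ * z⁻¹ * z * z) * g) * z⁻¹ * z⁻¹ * g := by rw [hg]; group
    _ = g * z * z * (g * g) * z⁻¹ * z⁻¹ * g := by rw [show z⁻¹ * z⁻¹ * z * z = 1 by group, mul_one]
    _ = g * (z * z * z⁻¹ * z⁻¹) * g := by rw [hg]; group
    _ = 1 := by rw [show z * z * z⁻¹ * z⁻¹ = 1 by group, mul_one, hg]

theorem map_xx {P Q : Type*} [Group P] [Group Q] (f : P →* Q) (z g : P) : f (xx z g) = xx (f z) (f g) := by
  simp only [xx, map_mul, map_inv]

end Cfsg.Agent.H905.SixC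

namespace Cfsg.Agent.H163.E6.SixC

open Cfsg Cfsg.Lie Module Equiv Equiv.Perm
open Cfsg.Agent.ChevalleyStructure.E6Min.Tables Cfsg.Agent.ChevalleyStructure.E6Min.Basic
  Cfsg.Agent.ChevalleyStructure.E6Min.Adjoint
open Cfsg.Agent.H958.SixC (xx KF)
open Cfsg.Agent.H905.SixC

universe u

variable {F : Type u} [Field F] [Finite F] {H : Subgroup ↥(chevE6.group F)}
  {φ : ↥(alternatingGroup (Fin 6)) →* ↥(chevE6.group F)}

/-- **BOX M**: an element of type `M₁₀`. -/
theorem m10 (hS : Sit H 6 φ) {ω : Fˣ} (hω : Cover φ ω) (hh : ∃ h ∈ H, h ∉ φ.range) {z g₁ g₂ : ↥(Zgrp F)}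
    (hz : ad F z = φ z0) (hz5 : z ^ 5 = 1) (h1 : ad F g₁ = φ g10) (h1' : g₁ * g₁ = 1) (h2 : ad F g₂ = φ g20)
    (h2' : g₂ * g₂ = 1) :
    ∃ u : ↥(Zgrp F), (∀ g, ad F g ∈ φ.range → ad F (u * g * u⁻¹) ∈ φ.range) ∧
      (∀ g, ad F g ∈ φ.range → ad F (u⁻¹ * g * u) ∈ φ.range) ∧ u * z * u⁻¹ = z ^ 2 ∧
      ∀ ρ : Representation F ↥(Zgrp F) (I27 → F), ∀ w, (KF ρ z g₁ w → KF ρ z g₂ (ρ u w)) ∧
        (KF ρ z g₂ w → KF ρ z g₁ (ρ u w)) := by
  obtain ⟨h, hH, hn⟩ := hh
  obtain ⟨ε, hε⟩ := exists_eps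
  obtain ⟨h', hH', hh'⟩ := exists_h hS hω hH hn hε
  obtain ⟨u, hu⟩ := ad_surjective h'
  have hx1 : ad F (xx z g₁) = φ x10 := by rw [map_xx, hz, h1, ← map_xx]; rfl
  have hx2 : ad F (xx z g₂) = φ x20 := by rw [map_xx, hz, h2, ← map_xx]; rfl
  have hs1 := xx_sq (z := z) h1'
  have hs2 := xx_sq (z := z) h2'
  have hzu : u * z * u⁻¹ = z ^ 2 := by
    apply five_unique
    · simp only [map_mul, map_mul, map_inv, hu, hz, hh', hε.z, map_pow, map_pow, hz]
    · rw [conj_pow, hz5, mul_one, mul_inv_cancel]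
    · rw [← pow_mul, mul_comm, pow_mul, hz5, one_pow]
  have hconj : ∀ {x v : ↥(Zgrp F)}, x * x = 1 → (u * (v * x * v⁻¹) * u⁻¹) * (u * (v * x * v⁻¹) * u⁻¹) = 1 := by
    intro x v hx
    calc (u * (v * x * v⁻¹) * u⁻¹) * (u * (v * x * v⁻¹) * u⁻¹) = u * (v * (x * x) * v⁻¹) * u⁻¹ := by group
      _ = 1 := by rw [hx]; group
  have c1 : u * ((z * z * xx z g₁ * z) * xx z g₁ * (z * z * xx z g₁ * z)⁻¹) * u⁻¹ = xx z g₂ := by
    refine two_unique ?_ (hconj hs1) hs2
    simp only [hx2, ← hε.x1, ← hh']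
    simp only [map_mul, map_inv, hu, hx1, hz]
  have c2 : u * ((xx z g₂ * z) * xx z g₂ * (xx z g₂ * z)⁻¹) * u⁻¹ = xx z g₁ := by
    refine two_unique ?_ (hconj hs2) hs1
    simp only [hx1, ← hε.x2, ← hh']
    simp only [map_mul, map_inv, hu, hx2, hz]
  have hz3 : u * z ^ 3 * u⁻¹ = z := by
    rw [← conj_pow, hzu, ← pow_mul]
    show z ^ 6 = z
    rw [pow_succ, hz5, one_mul]
  -- transport of fixed vectors
  have tr : ∀ (ρ : Representation F ↥(Zgrp F) (I27 → F)) (x y : ↥(Zgrp F)) (w : I27 → F), u * y * u⁻¹ = x →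
      ρ y w = w → ρ x (ρ u w) = ρ u w := by
    intro ρ x y w hxy hy
    rw [← rho_mul, ← hxy, inv_mul_cancel_right, rho_mul, hy]
  have fix : ∀ (ρ : Representation F ↥(Zgrp F) (I27 → F)) (x y : ↥(Zgrp F)) (w : I27 → F), ρ x w = w → ρ y w = w →
      ρ (x * y) w = w := by
    intro ρ x y w hx hy
    rw [rho_mul, hy, hx]
  have fixi : ∀ (ρ : Representation F ↥(Zgrp F) (I27 → F)) (x : ↥(Zgrp F)) (w : I27 → F), ρ x w = w →
      ρ x⁻¹ w = w := by
    intro ρ x w hx
    nth_rw 1 [← hx]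
    rw [← rho_mul, inv_mul_cancel, map_one]
    rfl
  refine ⟨u, ?_, ?_, hzu, ?_⟩
  · intro g hg
    simp only [map_mul, map_mul, map_inv, hu]
    exact hS.norm h' hH' _ hg
  · intro g hg
    simp only [map_mul, map_mul, map_inv, hu]
    have h3 := hS.norm h'⁻¹ (inv_mem hH') _ hg
    rwa [inv_inv] at h3
  · intro ρ w
    have hz3' : ρ z w = w → ρ (z ^ 3) w = w := by
      intro hw
      rw [pow_succ, pow_two]
      exact fix _ _ _ _ (fix _ _ _ _ hw hw) hw
    constructor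
    · rintro ⟨k1, k2⟩
      refine ⟨tr ρ z (z ^ 3) w hz3 (hz3' k1), tr ρ _ _ w c1 ?_⟩
      have k3 : ρ (z * z * xx z g₁ * z) w = w := fix _ _ _ _ (fix _ _ _ _ (fix _ _ _ _ k1 k1) k2) k1
      exact fix _ _ _ _ (fix _ _ _ _ k3 k2) (fixi _ _ _ k3)
    · rintro ⟨k1, k2⟩
      refine ⟨tr ρ z (z ^ 3) w hz3 (hz3' k1), tr ρ _ _ w c2 ?_⟩
      have k3 : ρ (xx z g₂ * z) w = w := fix _ _ _ _ k2 k1
      exact fix _ _ _ _ (fix _ _ _ _ k3 k2) (fixi _ _ _ k3)

end Cfsg.Agent.H163.E6.SixC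
end

-- part: H801/SixT
section
/-!
# S5928: `sixc_two`, BOX T (helper801)

`ev_ne_five` : in the twisted case the fixed space of an element of order 5 of `V` is not 5-dimensional.
-/

set_option autoImplicit false

namespace Cfsg.Agent.H958.SixC

open Module
open Cfsg.Agent.H952.F4 (ev es)

section Abs

variable {F M : Type*} [Field F] [AddCommGroup M] [Module F M]

/-- the kernel of `T² + s T + 1` -/
def Ns (T : Module.End F M) (s : F) : Submodule F M := LinearMap.ker (T * T + s • T + 1)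

theorem mem_Ns {T : Module.End F M} {s : F} {v : M} : v ∈ Ns T s ↔ T (T v) + s • T v + v = 0 := Iff.rfl

variable [FiniteDimensional F M] [CharP F 2]

omit [FiniteDimensional F M] in
theorem two_smul_zero (v : M) : (2 : F) • v = 0 := by
  rw [show (2 : F) = 0 from CharTwo.two_eq_zero, zero_smul]

/-- a subspace without fixed vectors of an element of order 5 inverted by an involution -/
theorem even_of {N : Submodule F M} {T R : Module.End F M} (hNT : ∀ v ∈ N, T v ∈ N) (hNR : ∀ v ∈ N, R v ∈ N)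
    (hT5 : ∀ v, T (T (T (T (T v)))) = v) (hRR : ∀ v, R (R v) = v) (hTR : ∀ v, T (R (T v)) = R v)
    (hfix : ∀ b ∈ N, T b = b → b = 0) : Even (finrank F N) := by
  let S : Module.End F N := R.restrict hNR
  let R' : Module.End F N := T.restrict hNT
  have hS : ∀ v, S (S v) = v := fun v => Subtype.ext (hRR v)
  have h2 := half_le S hS
  let f : (↥(S.eigenspace 1) × ↥(S.eigenspace 1)) →ₗ[F] N :=
    LinearMap.coprod (S.eigenspace 1).subtype (R'.comp (S.eigenspace 1).subtype)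
  have hinj : Function.Injective f := by
    rw [injective_iff_map_eq_zero]
    rintro ⟨⟨a, ha⟩, ⟨b, hb⟩⟩ h0
    change a + R' b = 0 at h0
    rw [Module.End.mem_eigenspace_iff, one_smul] at ha hb
    have ha' : R (a : M) = a := congrArg Subtype.val ha
    have hb' : R (b : M) = b := congrArg Subtype.val hb
    have h0' : (a : M) + T b = 0 := congrArg Subtype.val h0
    have e1 : (a : M) = -T b := eq_neg_of_add_eq_zero_left h0'
    have e2 : T (T (b : M)) = b := by
      have e3 := hTR (b : M)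
      rw [hb'] at e3
      have e4 : R (T (b : M)) = T b := by
        have e5 : R (-T (b : M)) = -T b := by rw [← e1, ha']
        rw [map_neg] at e5
        exact neg_injective e5
      rwa [e4] at e3
    have e3 : T (b : M) = b := by
      have e4 := hT5 (b : M)
      rwa [e2, e2] at e4
    have e4 : (b : M) = 0 := hfix _ b.2 e3
    have e5 : b = 0 := Subtype.ext e4
    subst e5
    have e6 : a = 0 := by simpa using h0
    subst e6
    rfl
  have h3 := LinearMap.finrank_le_finrank_of_injective hinj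
  rw [Module.finrank_prod] at h3
  have h4 : finrank F ↥(S.eigenspace 1) = ev S 1 := rfl
  rw [h4] at h3
  exact ⟨ev S 1, by omega⟩

theorem even_Ns {T R : Module.End F M} (hT5 : ∀ v, T (T (T (T (T v)))) = v) (hRR : ∀ v, R (R v) = v)
    (hTR : ∀ v, T (R (T v)) = R v) {s : F} (hs : s ^ 2 + s + 1 = 0) : Even (finrank F (Ns T s)) := by
  refine even_of (T := T) (R := R) ?_ ?_ hT5 hRR hTR ?_
  · intro v hv
    rw [mem_Ns] at hv ⊢
    have h := congrArg T hv
    simp only [map_add, map_add, map_smul, map_zero] at h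
    exact h
  · intro v hv
    rw [mem_Ns] at hv ⊢
    have h := congrArg (fun x => T (T (R x))) hv
    simp only [map_add, map_smul, map_zero] at h
    rw [hTR (T v), hTR v] at h
    linear_combination (norm := module) h
  · intro v hv hf
    rw [mem_Ns, hf, hf] at hv
    have h1 : s • v = 0 := by linear_combination (norm := module) hv - two_smul_zero (F := F) v
    rcases smul_eq_zero.1 h1 with h2 | h2
    · rw [h2] at hs
      norm_num at hs
    · exact h2

theorem split5 {T : Module.End F M} (hT5 : ∀ v, T (T (T (T (T v)))) = v) {s : F} (hs : s ^ 2 + s + 1 = 0) :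
    ev T 1 + finrank F (Ns T s) + finrank F (Ns T (s ^ 2)) = finrank F M := by
  have h2 : ∀ v : M, (2 : F) • v = 0 := two_smul_zero
  have hsm : ∀ v : M, (s ^ 2 + s + 1) • v = 0 := fun v => by rw [hs, zero_smul]
  have h3 : s ^ 3 = 1 := by linear_combination (s - 1) * hs
  have h3m : ∀ v : M, (s ^ 3 - 1) • v = 0 := fun v => by rw [h3, sub_self, zero_smul]
  let f : (↥(T.eigenspace 1) × ↥(Ns T s) × ↥(Ns T (s ^ 2))) →ₗ[F] M :=
    LinearMap.coprod (T.eigenspace 1).subtype (LinearMap.coprod (Ns T s).subtype (Ns T (s ^ 2)).subtype)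
  have hf : ∀ a b d, f (a, b, d) = (a : M) + ((b : M) + (d : M)) := fun a b d => rfl
  -- the sum of the powers kills `Ns`
  have hkill : ∀ (r : F), r ^ 2 + r + 1 = 0 → ∀ b ∈ Ns T r, b + T b + T (T b) + T (T (T b)) + T (T (T (T b))) = 0 := by
    intro r hr b hb
    rw [mem_Ns] at hb
    have hb1 := congrArg T hb
    have hb2 := congrArg T hb1
    simp only [map_add, map_smul, map_zero] at hb1 hb2
    have hrm : ∀ v : M, (r ^ 2 + r + 1) • v = 0 := fun v => by rw [hr, zero_smul]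
    linear_combination (norm := module) hb2 + (1 + r) • hb1 + hb - r • h2 (T (T (T b))) - hrm (T (T b)) - r • h2 (T b)
  have hs2 : (s ^ 2) ^ 2 + s ^ 2 + 1 = 0 := by linear_combination s * h3 + hs
  have hinj : Function.Injective f := by
    rw [injective_iff_map_eq_zero]
    rintro ⟨⟨a, ha⟩, ⟨b, hb⟩, ⟨d, hd⟩⟩ h0
    rw [hf] at h0
    change a + (b + d) = 0 at h0
    rw [Module.End.mem_eigenspace_iff, one_smul] at ha
    have k1 := hkill s hs b hb
    have k2 := hkill _ hs2 d hd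
    have e0 : a + (b + d) + T (a + (b + d)) + T (T (a + (b + d))) + T (T (T (a + (b + d)))) +
        T (T (T (T (a + (b + d))))) = 0 := by
      rw [h0]
      simp only [map_zero, add_zero]
    simp only [map_add, ha] at e0
    have ea : a = 0 := by
      linear_combination (norm := module) e0 - k1 - k2 - (2 : F) • h2 a
    rw [ea, zero_add] at h0
    have hbd : d = -b := eq_neg_of_add_eq_zero_right h0
    have hbd' : b ∈ Ns T (s ^ 2) := by
      have := (Ns T (s ^ 2)).neg_mem hd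
      rwa [hbd, neg_neg] at this
    rw [mem_Ns] at hb hbd'
    have e1 : (s - s ^ 2) • T b = 0 := by linear_combination (norm := module) hb - hbd'
    have e2 : s - s ^ 2 ≠ 0 := by
      intro h
      have h4 : s * (1 - s) = 0 := by linear_combination h
      rcases mul_eq_zero.1 h4 with h5 | h5
      · rw [h5] at hs; norm_num at hs
      · have h6 : s = 1 := (sub_eq_zero.1 h5).symm
        rw [h6] at hs
        have h7 : (1 : F) = 0 := by
          have h8 : (2 : F) = 0 := CharTwo.two_eq_zero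
          linear_combination hs - h8
        exact one_ne_zero h7
    have e3 : T b = 0 := (smul_eq_zero.1 e1).resolve_left e2
    have eb : b = 0 := by
      have := hT5 b
      rw [e3, map_zero, map_zero, map_zero, map_zero] at this
      exact this.symm
    have ed : d = 0 := by rw [hbd, eb, neg_zero]
    subst ea; subst eb; subst ed
    rfl
  have hsurj : Function.Surjective f := by
    intro v
    have e1 : v + T v + T (T v) + T (T (T v)) + T (T (T (T v))) ∈ T.eigenspace 1 := by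
      rw [Module.End.mem_eigenspace_iff]
      simp only [map_add, hT5, one_smul]
      abel
    have e2 : ∀ r : F, r ^ 2 + r + 1 = 0 →
        r • T v + (r ^ 2) • T (T v) + (r ^ 2) • T (T (T v)) + r • T (T (T (T v))) ∈ Ns T r := by
      intro r hr
      have hrm : ∀ v : M, (r ^ 2 + r + 1) • v = 0 := fun v => by rw [hr, zero_smul]
      have hr3 : r ^ 3 = 1 := by linear_combination (r - 1) * hr
      have hr3m : ∀ v : M, (r ^ 3 - 1) • v = 0 := fun v => by rw [hr3, sub_self, zero_smul]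
      rw [mem_Ns]
      simp only [map_add, map_smul, hT5]
      linear_combination (norm := module) (r ^ 2) • h2 v + r • h2 (T v) + (r ^ 2) • h2 (T (T v)) +
        hrm (T (T (T v))) + hr3m (T (T (T v))) + hrm (T (T (T (T v)))) + hr3m (T (T (T (T v))))
    refine ⟨(⟨_, e1⟩, ⟨_, e2 s hs⟩, ⟨_, e2 (s ^ 2) hs2⟩), ?_⟩
    rw [hf]
    change (v + T v + T (T v) + T (T (T v)) + T (T (T (T v)))) +
      ((s • T v + (s ^ 2) • T (T v) + (s ^ 2) • T (T (T v)) + s • T (T (T (T v)))) +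
      ((s ^ 2) • T v + ((s ^ 2) ^ 2) • T (T v) + ((s ^ 2) ^ 2) • T (T (T v)) + (s ^ 2) • T (T (T (T v))))) = v
    linear_combination (norm := module) hsm (T v) + hsm (T (T v)) + hsm (T (T (T v))) + hsm (T (T (T (T v)))) +
      s • h3m (T (T v)) + s • h3m (T (T (T v)))
  have h := (LinearEquiv.ofBijective f ⟨hinj, hsurj⟩).finrank_eq
  rw [Module.finrank_prod, Module.finrank_prod] at h
  rw [← h, ev]
  ring

omit [CharP F 2] in
/-- the adjoint of the inverse has the same kernels -/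
theorem Ns_le {M' : Type*} [AddCommGroup M'] [Module F M'] [FiniteDimensional F M'] (hd : finrank F M = finrank F M')
    (B : M' →ₗ[F] Module.Dual F M) (hB : Function.Injective B) {T : Module.End F M} {T' : Module.End F M'}
    (hT : ∀ x y, B (T' y) (T x) = B y x) (s : F) : finrank F (Ns T s) ≤ finrank F (Ns T' s) := by
  set A := T * T + s • T + 1 with hA
  set A' := T' * T' + s • T' + 1 with hA'
  have h1 : (LinearMap.range A').map B ≤ LinearMap.range (A.dualMap) := by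
    rintro _ ⟨_, ⟨y, rfl⟩, rfl⟩
    refine ⟨B (T' (T' y)), ?_⟩
    ext x
    have e1 : A x = T (T x) + s • T x + x := rfl
    have e2 : A' y = T' (T' y) + s • T' y + y := rfl
    simp only [LinearMap.dualMap_apply, e1, e2, map_add, map_add, map_smul, map_add, map_add, map_smul, hT, hT, hT]
    simp only [LinearMap.add_apply, LinearMap.smul_apply]
    ring
  have h2 := Submodule.finrank_mono h1
  rw [LinearMap.finrank_range_dualMap_eq_finrank_range,
    ← (Submodule.equivMapOfInjective B hB (LinearMap.range A')).finrank_eq] at h2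
  have h3 := LinearMap.finrank_range_add_finrank_ker A
  have h4 := LinearMap.finrank_range_add_finrank_ker A'
  have h5 : finrank F (Ns T s) = finrank F (LinearMap.ker A) := rfl
  have h6 : finrank F (Ns T' s) = finrank F (LinearMap.ker A') := rfl
  omega

end Abs

end Cfsg.Agent.H958.SixC

namespace Cfsg.Agent.H163.E6.SixC

open Cfsg Cfsg.Lie Module
open Cfsg.Agent.ChevalleyStructure.E6Min.Tables Cfsg.Agent.ChevalleyStructure.E6Min.Basic
  Cfsg.Agent.ChevalleyStructure.E6Min.Adjoint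
open Cfsg.Agent.H952.F4 (ev es matRep sh cr tf MaxAlt)
open Cfsg.Agent.H958.SixC

universe u

variable {F : Type u} [Field F] [Finite F] [CharP F 2]

omit [Finite F] [CharP F 2] in
theorem Ns_V_le (z : ↥(Zgrp F)) (s : F) : finrank F (Ns (V F z) s) ≤ finrank F (Ns (V' F z) s) := by
  let B : (I27 → F) →ₗ[F] Module.Dual F (I27 → F) :=
    LinearMap.mk₂ F (fun y x => tf x y) (fun y y' x => Cfsg.Agent.H952.F4.Jord.tf_add_right x y y')
      (fun c y x => Cfsg.Agent.H952.F4.Jord.tf_smul_right c x y)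
      (fun y x x' => Cfsg.Agent.H952.F4.Jord.tf_add_left x x' y) (fun c y x => Cfsg.Agent.H952.F4.Jord.tf_smul_left c x y)
  refine Ns_le rfl B ?_ (fun x y => Act.tf_act z x y) s
  rw [injective_iff_map_eq_zero]
  intro y hy
  refine Cfsg.Agent.H952.F4.Jord.tf_nondeg fun x => ?_
  rw [Cfsg.Agent.H952.F4.Jord.tf_comm]
  exact LinearMap.congr_fun hy x

omit [CharP F 2] in
theorem Ns_semi {q : ℕ} {A : Type*} [Group A] {φ : A →* ↥(chevE6.group F)} (hJ : Semi q φ) {z : ↥(Zgrp F)}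
    (hz : z ∈ Bgrp φ) (s : F) : finrank F (Ns (V' F z) s) ≤ finrank F (Ns (V F z) (s ^ q)) := by
  obtain ⟨J, hadd, hsmul, hJJ, -, -, -, -, hV⟩ := hJ
  have h0 : J 0 = 0 := by
    have := hadd 0 0
    rw [add_zero] at this
    exact left_eq_add.1 this
  have hm : ∀ x ∈ Ns (V' F z) s, J x ∈ Ns (V F z) (s ^ q) := by
    intro x hx
    rw [mem_Ns] at hx ⊢
    rw [(hV z hz x).1, (hV z hz _).1, ← hsmul, ← hadd, ← hadd, hx, h0]
  have h1 : Nat.card (Ns (V' F z) s) ≤ Nat.card (Ns (V F z) (s ^ q)) := by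
    refine Nat.card_le_card_of_injective (fun x : Ns (V' F z) s => (⟨J x, hm x x.2⟩ : Ns (V F z) (s ^ q))) ?_
    intro x y e
    have e1 : J x = J y := congrArg Subtype.val e
    apply Subtype.ext
    rw [← hJJ x, e1, hJJ]
  simp only [Module.natCard_eq_pow_finrank (K := F) (V := ↥(Ns (V' F z) s)),
    Module.natCard_eq_pow_finrank (K := F) (V := ↥(Ns (V F z) (s ^ q)))] at h1
  exact (Nat.pow_le_pow_iff_right Finite.one_lt_card).1 h1

/-- **BOX T.** -/
theorem ev_ne_five {φ : ↥(alternatingGroup (Fin 6)) →* ↥(chevE6.group F)} {q : ℕ} (hJ : Semi q φ) {ω : Fˣ}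
    (h1 : ω ≠ 1) (h3 : ω ^ 3 = 1) (hq : ω ^ (q + 1) = 1) {z t : ↥(Zgrp F)} (hz : z ∈ Bgrp φ) (hz5 : z ^ 5 = 1)
    (ht : t * t = 1) (htz : t * z * t⁻¹ = z⁻¹) : ev (V F z) 1 ≠ 5 := by
  set s : F := (ω : F) with hs
  have hs1 : s ≠ 1 := fun h => h1 (Units.ext h)
  have hs3 : s ^ 3 = 1 := by rw [hs, ← Units.val_pow_eq_pow_val, h3, Units.val_one]
  have hss := cube_sum hs1 hs3
  have hs2 : (s ^ 2) ^ 2 + s ^ 2 + 1 = 0 := by linear_combination s * hs3 + hss
  have hsq1 : s ^ q * s = 1 := by rw [← pow_succ, hs, ← Units.val_pow_eq_pow_val, hq, Units.val_one]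
  have hsq : s ^ q = s ^ 2 := by
    have : s ^ q = s ^ q * s * s ^ 2 := by
      rw [mul_assoc, ← pow_succ', hs3, mul_one]
    rw [this, hsq1, one_mul]
  have hsq2 : (s ^ 2) ^ q = s := by
    rw [← pow_mul, mul_comm, pow_mul, hsq, ← pow_mul]
    linear_combination s * hs3
  have hT5 : ∀ v, V F z (V F z (V F z (V F z (V F z v)))) = v := by
    intro v
    have h' : z * z * z * z * z = 1 := by simp only [← hz5]; simp only [pow_succ, pow_zero, one_mul]
    rw [← Module.End.mul_apply, ← Module.End.mul_apply, ← Module.End.mul_apply, ← Module.End.mul_apply, ← map_mul,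
      ← map_mul, ← map_mul, ← map_mul, h', map_one, Module.End.one_apply]
  have htt : ∀ v, V F t (V F t v) = v := fun v => by
    rw [← Module.End.mul_apply, ← map_mul, ht, map_one, Module.End.one_apply]
  have htz1 : t * z = z⁻¹ * t := by rw [← htz]; group
  have htz' : ∀ v, V F z (V F t (V F z v)) = V F t v := fun v => by
    simp_rw [← Module.End.mul_apply (V F t), ← map_mul, htz1, map_mul, Module.End.mul_apply,
      ← Module.End.mul_apply (V F z), ← map_mul, mul_inv_cancel, map_one, Module.End.one_apply]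
  have e1 := even_Ns hT5 htt htz' hss
  have e3 := split5 hT5 hss
  have a1 := (Ns_V_le z s).trans (Ns_semi hJ hz s)
  have a2 := (Ns_V_le z (s ^ 2)).trans (Ns_semi hJ hz (s ^ 2))
  rw [hsq] at a1
  rw [hsq2] at a2
  have hd : finrank F (I27 → F) = 27 := by
    rw [Module.finrank_pi]
    decide
  simp only [hd] at e3
  obtain ⟨k, hk⟩ := e1
  omega

end Cfsg.Agent.H163.E6.SixC
end

-- part: H65/SixBoth
section
/-!
# S5927, S5928: `sixc_two`, Q3: both types of 3-dimensional stable subspaces occur in both modules (helper65)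
-/

set_option autoImplicit false

namespace Cfsg.Agent.H65.SixBoth

open Cfsg Cfsg.Lie Module Equiv
open Cfsg.Agent.ChevalleyStructure.E6Min.Tables Cfsg.Agent.ChevalleyStructure.E6Min.Basic
  Cfsg.Agent.ChevalleyStructure.E6Min.Adjoint
open Cfsg.Agent.H952.F4 (ev es matRep sh cr tf MaxAlt)
open Cfsg.Agent.H958.SixC
open Cfsg.Agent.H163.E6 Cfsg.Agent.H163.E6.SixC

universe u

variable {F : Type u} [Field F] {φ : ↥(alternatingGroup (Fin 6)) →* ↥(chevE6.group F)}

/-- transport by an element normalizing the preimage -/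
theorem ty_map {ρ : Representation F ↥(Zgrp F) (I27 → F)} {z g g' : ↥(φ.range.comap (ad F))} {u : ↥(Zgrp F)}
    (hu : ∀ g, ad F g ∈ φ.range → ad F (u⁻¹ * g * u) ∈ φ.range)
    (hk : ∀ w, KF ρ (z : ↥(Zgrp F)) (g : ↥(Zgrp F)) w → KF ρ (z : ↥(Zgrp F)) (g' : ↥(Zgrp F)) (ρ u w))
    {W : Submodule F (I27 → F)} (h : Ty φ ρ z g W) : Ty φ ρ z g' (W.map (ρ u)) := by
  have hinj : Function.Injective (ρ u) := by
    intro x y hxy
    have h1 := congrArg (ρ u⁻¹) hxy
    rwa [inv_ap, inv_ap] at h1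
  obtain ⟨w, hw, hw0, hk0⟩ := h.k
  refine ⟨?_, ?_, ρ u w, ⟨w, hw, rfl⟩, fun h0 => hw0 (hinj (h0.trans (map_zero _).symm)), hk w hk0⟩
  · rintro x hx _ ⟨v, hv, rfl⟩
    refine ⟨ρ (u⁻¹ * x * u) v, h.st _ (hu x hx) v hv, ?_⟩
    simp only [← mul_ap, ← mul_ap]
    congr 2
    group
  · exact (Submodule.equivMapOfInjective (ρ u) hinj W).finrank_eq.symm.trans h.d

/-- the image under the semilinear map -/
def jmap {q : ℕ} {J : (I27 → F) → (I27 → F)} (hadd : ∀ x y, J (x + y) = J x + J y)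
    (hsmul : ∀ (c : F) x, J (c • x) = c ^ q • J x) (W : Submodule F (I27 → F)) :
    Submodule F (I27 → F) where
  carrier := {y | J y ∈ W}
  zero_mem' := by
    have h0 : J 0 = 0 := by
      have := hadd 0 0
      rw [add_zero] at this
      exact left_eq_add.1 this
    show J 0 ∈ W
    rw [h0]
    exact W.zero_mem
  add_mem' := fun {a b} ha hb => by
    show J (a + b) ∈ W
    rw [hadd]
    exact W.add_mem ha hb
  smul_mem' := fun c a ha => by
    show J (c • a) ∈ W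
    rw [hsmul]
    exact W.smul_mem _ ha

theorem finrank_jmap [Finite F] {q : ℕ} {J : (I27 → F) → (I27 → F)} (hadd : ∀ x y, J (x + y) = J x + J y)
    (hsmul : ∀ (c : F) x, J (c • x) = c ^ q • J x) (hJ : ∀ x, J (J x) = x) (W : Submodule F (I27 → F)) :
    finrank F ↥(jmap hadd hsmul W) = finrank F ↥W := by
  have e : ↥(jmap hadd hsmul W) ≃ ↥W :=
    { toFun := fun y => ⟨J y, y.2⟩
      invFun := fun w => ⟨J w, by show J (J _) ∈ W; rw [hJ]; exact w.2⟩
      left_inv := fun y => Subtype.ext (hJ y)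
      right_inv := fun w => Subtype.ext (hJ w) }
  have h1 := Nat.card_congr e
  rw [Module.natCard_eq_pow_finrank (K := F) (V := ↥(jmap hadd hsmul W)),
    Module.natCard_eq_pow_finrank (K := F) (V := ↥W)] at h1
  exact Nat.pow_right_injective Finite.one_lt_card h1

/-- transport by the semilinear map -/
theorem ty_semi [Finite F] {q : ℕ} (hJ : Semi q φ) (hB : Bgrp φ = φ.range.comap (ad F))
    {ρ ρ' : Representation F ↥(Zgrp F) (I27 → F)} (hp : Pr ρ ρ') {z g : ↥(φ.range.comap (ad F))}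
    {W : Submodule F (I27 → F)} (h : Ty φ ρ z g W) : ∃ W', Ty φ ρ' z g W' := by
  obtain ⟨J, hadd, hsmul, hJJ, -, -, -, -, hV⟩ := hJ
  have h0 : J 0 = 0 := by
    have := hadd 0 0
    rw [add_zero] at this
    exact left_eq_add.1 this
  have hne : ∀ x, x ≠ 0 → J x ≠ 0 := fun x hx h => hx (by rw [← hJJ x, h, h0])
  have hact : ∀ g ∈ φ.range.comap (ad F), ∀ x, ρ' g (J x) = J (ρ g x) := by
    intro g hg x
    rw [← hB] at hg
    rcases hp with ⟨rfl, rfl⟩ | ⟨rfl, rfl⟩
    · exact (hV g hg x).2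
    · exact (hV g hg x).1
  have hact' : ∀ g ∈ φ.range.comap (ad F), ∀ x, J (ρ' g x) = ρ g (J x) := by
    intro g hg x
    have h1 := hact g hg (J x)
    rw [hJJ] at h1
    rw [h1, hJJ]
  obtain ⟨w, hw, hw0, hk0, hk1⟩ := h.k
  refine ⟨jmap hadd hsmul W, ?_, ?_, J w, ?_, hne w hw0, ?_, ?_⟩
  · intro x hx v hv
    show J (ρ' x v) ∈ W
    rw [hact' x hx]
    exact h.st x hx _ hv
  · rw [finrank_jmap hadd hsmul hJJ, h.d]
  · show J (J w) ∈ W
    rwa [hJJ]
  · show ρ' (z : ↥(Zgrp F)) (J w) = J w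
    rw [hact _ z.2]
    exact congrArg J hk0
  · show ρ' ((xx z g : ↥(φ.range.comap (ad F))) : ↥(Zgrp F)) (J w) = J w
    rw [hact _ (xx z g).2]
    exact congrArg J hk1

/-- both types in both modules, from one and the two exchanges -/
theorem all_of {T : Bool → Bool → Prop} (h1 : ∀ a b, T a b → T (!a) (!b)) (h2 : (∀ a b, T a b → T a (!b)) ∨ ∀ a b, T a b → T (!a) b)
    (h : ∃ a b, T a b) : ∀ a b, T a b := by
  obtain ⟨a, b, h0⟩ := h
  have e1 := h1 _ _ h0
  rcases h2 with h2 | h2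
  · have e2 := h2 _ _ h0
    have e3 := h2 _ _ e1
    intro a' b'
    cases a <;> cases b <;> cases a' <;> cases b' <;> simp_all only [_root_.Bool.forall_bool, _root_.Bool.not_false, _root_.Bool.not_true, _root_.forall_const, _root_.implies_true, _root_.and_true, _root_.true_and]
  · have e2 := h2 _ _ h0
    have e3 := h2 _ _ e1
    intro a' b'
    cases a <;> cases b <;> cases a' <;> cases b' <;> simp_all only [_root_.Bool.forall_bool, _root_.Bool.not_false, _root_.Bool.not_true, _root_.forall_const, _root_.implies_true, _root_.and_true, _root_.true_and]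

end Cfsg.Agent.H65.SixBoth

namespace Cfsg.Agent.H163.E6.SixC

open Cfsg Cfsg.Lie Module Equiv
open Cfsg.Agent.ChevalleyStructure.E6Min.Tables Cfsg.Agent.ChevalleyStructure.E6Min.Basic
  Cfsg.Agent.ChevalleyStructure.E6Min.Adjoint
open Cfsg.Agent.H952.F4 (ev es matRep sh cr tf MaxAlt)
open Cfsg.Agent.H958.SixC
open Cfsg.Agent.H65.SixBoth

universe u

variable {F : Type u} [Field F] [Finite F] [CharP F 2] {H : Subgroup ↥(chevE6.group F)}
  {φ : ↥(alternatingGroup (Fin 6)) →* ↥(chevE6.group F)}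

/-- both types of 3-dimensional stable subspaces occur in both modules; the exchange of types by `cr` is a hypothesis -/
theorem both_of (hS : Sit H 6 φ) {ω : Fˣ} (hω : Cover φ ω) {ζ z g₁ g₂ β t a : ↥(φ.range.comap (ad F))}
    (hF : Full ζ z g₁ g₂ β t a) (hζ : ((ζ : ↥(Zgrp F)) : GL I27 F) = scal ω)
    (hcr₁ : ∀ {ρ ρ' : Representation F ↥(Zgrp F) (I27 → F)}, Pr ρ ρ' → ∀ {W : Submodule F (I27 → F)},
      Ty φ ρ z g₁ W → Ty φ ρ' z g₂ (crs W W))
    (hcr₂ : ∀ {ρ ρ' : Representation F ↥(Zgrp F) (I27 → F)}, Pr ρ ρ' → ∀ {W : Submodule F (I27 → F)},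
      Ty φ ρ z g₂ W → Ty φ ρ' z g₁ (crs W W))
    (hs : (∃ h ∈ H, h ∉ φ.range) ∨ ∃ q, Twist q φ ∧ Semi q φ) (hz : ad F z = φ z0) (h1 : ad F g₁ = φ g10)
    (h2 : ad F g₂ = φ g20) :
    (∃ W, Ty φ (V F) z g₁ W) ∧ (∃ W, Ty φ (V F) z g₂ W) ∧ (∃ W, Ty φ (V' F) z g₁ W) ∧ (∃ W, Ty φ (V' F) z g₂ W) ∧
      7 ≤ ev (V F z) 1 ∧ 7 ≤ ev (V' F z) 1 := by
  have : Fact (Nat.Prime 2) := ⟨Nat.prime_two⟩
  have hB : Bgrp φ = φ.range.comap (ad F) := Cov.perfect (n := 6) (by norm_num) hS.inj hω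
  have hz5 : (z : ↥(Zgrp F)) ^ 5 = 1 := by
    have := hF.h1.z5
    exact congrArg Subtype.val this
  have hg1 : (g₁ : ↥(Zgrp F)) * g₁ = 1 := congrArg Subtype.val hF.h1.gg
  have hg2 : (g₂ : ↥(Zgrp F)) * g₂ = 1 := congrArg Subtype.val hF.h2.gg
  have hz1 : (z : ↥(Zgrp F)) ≠ 1 := by
    intro h0
    rw [h0, map_one] at hz
    have h3 : z0 = 1 := hS.inj (hz.symm.trans (map_one φ).symm)
    exact absurd h3 (by decide +kernel)
  -- the modules and the types
  let M : Bool → Representation F ↥(Zgrp F) (I27 → F) := fun a => if a then V F else V' F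
  let g : Bool → ↥(φ.range.comap (ad F)) := fun b => if b then g₁ else g₂
  have hM : ∀ a, Pr (M a) (M !a) := by
    intro a
    cases a
    · exact Or.inr ⟨rfl, rfl⟩
    · exact Or.inl ⟨rfl, rfl⟩
  have hT1 : ∀ a b, (∃ W, Ty φ (M a) z (g b) W) → ∃ W, Ty φ (M !a) z (g !b) W := by
    rintro a b ⟨W, hW⟩
    cases b
    · exact ⟨_, hcr₂ (hM a) hW⟩
    · exact ⟨_, hcr₁ (hM a) hW⟩
  have hT0 : ∃ a b, ∃ W, Ty φ (M a) z (g b) W := by
    obtain ⟨ρ, hρ, W, hW, hd⟩ := H906.E6.SixC.exists_three (φ := φ) hS.inj hω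
    obtain ⟨a, rfl⟩ : ∃ a, ρ = M a := by
      rcases hρ with rfl | rfl
      · exact ⟨true, rfl⟩
      · exact ⟨false, rfl⟩
    rcases ty_cases hω.1 hω.2.1 hF hζ hρ hW hd with h | h
    · exact ⟨a, true, W, h.1⟩
    · exact ⟨a, false, W, h.1⟩
  have key : ((∀ a b, (∃ W, Ty φ (M a) z (g b) W) → ∃ W, Ty φ (M a) z (g !b) W) ∨
      ∀ a b, (∃ W, Ty φ (M a) z (g b) W) → ∃ W, Ty φ (M !a) z (g b) W) ∧ 7 ≤ ev (V F z) 1 := by
    rcases hs with hh | ⟨q, hTw, hSe⟩
    · obtain ⟨u, -, hu2, hu3, hu4⟩ := m10 hS hω hh hz hz5 h1 hg1 h2 hg2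
      refine ⟨Or.inl ?_, ?_⟩
      · rintro a b ⟨W, hW⟩
        cases b
        · exact ⟨_, ty_map hu2 (fun w => (hu4 (M a) w).2) hW⟩
        · exact ⟨_, ty_map hu2 (fun w => (hu4 (M a) w).1) hW⟩
      · have := (H163.E6.Tor.tab 2 (F := F)).five_rat (by norm_num) z hz1 hz5 ⟨u, hu3⟩
        omega
    · refine ⟨Or.inr ?_, ?_⟩
      · rintro a b ⟨W, hW⟩
        exact ty_semi hSe hB (hM a) hW
      · have hq := hTw.cov ω hω
        have htz : (t : ↥(Zgrp F)) * z * (t : ↥(Zgrp F))⁻¹ = (z : ↥(Zgrp F))⁻¹ := congrArg Subtype.val hF.tz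
        have htt : (t : ↥(Zgrp F)) * t = 1 := congrArg Subtype.val hF.tt
        have h5 := ev_ne_five hSe hω.1 hω.2.1 hq (by rw [hB]; exact z.2) hz5 htt htz
        have h6 := (H163.E6.Tor.tab 2 (F := F)).five (by norm_num) z hz1 hz5 ⟨t, htz⟩
        omega
  obtain ⟨h3, h7⟩ := key
  have h4 := all_of (T := fun a b => ∃ W, Ty φ (M a) z (g b) W) hT1 h3 hT0
  refine ⟨h4 true true, h4 true false, h4 false true, h4 false false, h7, ?_⟩
  rw [Act.ev_dual _ one_ne_zero, inv_one]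
  exact h7

end Cfsg.Agent.H163.E6.SixC
end
end

-- part: H401/SixUniq
section
prune_inst 0x411604100766202000018050412200030200000220043000028e0020a0b098042a04206412a30001010989cc1000100400000003000400000040000000001012088075606b348a10c260019800000000000000000000000000000000000000000000000000
set_option linter.all false
open scoped Cfsg.Agent.FastGrp

/-!
# S5927, S5928: `sixc_two`, piece Q2: uniqueness of the stable subspaces of dimension three of each type (helper401)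
-/

set_option autoImplicit false
set_option linter.unusedSectionVars false

namespace Cfsg.Agent.H401.SixUniq

open Cfsg Cfsg.Lie Module Equiv
open Cfsg.Agent.ChevalleyStructure.E6Min.Tables Cfsg.Agent.ChevalleyStructure.E6Min.Basic
  Cfsg.Agent.ChevalleyStructure.E6Min.Adjoint
open Cfsg.Agent.H952.F4 (ev es matRep sh cr tf MaxAlt)
open Cfsg.Agent.H952.F4.Jord
open Cfsg.Agent.H905.E6T (sh_zero cr_zero_left cr_zero_right)
open Cfsg.Agent.H163.E6 Cfsg.Agent.H163.E6.SixC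
open Cfsg.Agent.H958.SixC

universe u

section abs

variable {F : Type u} [Field F] {P : Type*} [Group P]

theorem St.inf {M : Type*} [AddCommGroup M] [Module F M] {r : Representation F P M} {A B : Submodule F M} (hA : St r A)
    (hB : St r B) : St r (A ⊓ B) := fun g w hw => ⟨hA g w hw.1, hB g w hw.2⟩

theorem St.sup {M : Type*} [AddCommGroup M] [Module F M] {r : Representation F P M} {A B : Submodule F M} (hA : St r A)
    (hB : St r B) : St r (A ⊔ B) := by
  intro g w hw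
  obtain ⟨x, hx, y, hy, rfl⟩ := Submodule.mem_sup.1 hw
  rw [map_add]
  exact Submodule.add_mem_sup (hA g x hx) (hB g y hy)

/-- the fixed space on a quotient -/
theorem ev_quo {M : Type*} [AddCommGroup M] [Module F M] [FiniteDimensional F M] (T : Module.End F M) {S : Submodule F M}
    (T' : Module.End F (M ⧸ S)) (hT' : ∀ v, T' (S.mkQ v) = S.mkQ (T v)) :
    ev T 1 ≤ finrank F ↥(S ⊓ Module.End.eigenspace T 1) + ev T' 1 := by
  let f : ↥(Module.End.eigenspace T 1) →ₗ[F] (M ⧸ S) := S.mkQ.comp (Module.End.eigenspace T 1).subtype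
  have h1 := LinearMap.finrank_range_add_finrank_ker f
  have h2 : finrank F ↥(LinearMap.range f) ≤ ev T' 1 := by
    refine Submodule.finrank_mono ?_
    rintro _ ⟨v, rfl⟩
    rw [Module.End.mem_eigenspace_iff, one_smul]
    show T' (S.mkQ (v : M)) = S.mkQ (v : M)
    rw [hT']
    have := Module.End.mem_eigenspace_iff.1 v.2
    rw [this, one_smul]
  have h3 : finrank F ↥(LinearMap.ker f) ≤ finrank F ↥(S ⊓ Module.End.eigenspace T 1) := by
    let k : ↥(LinearMap.ker f) →ₗ[F] ↥(S ⊓ Module.End.eigenspace T 1) :=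
      ((Module.End.eigenspace T 1).subtype.comp (LinearMap.ker f).subtype).codRestrict _ (fun v => by
        refine ⟨?_, v.1.2⟩
        have h4 : S.mkQ ((v : ↥(Module.End.eigenspace T 1)) : M) = 0 := LinearMap.mem_ker.1 v.2
        rwa [Submodule.mkQ_apply, Submodule.Quotient.mk_eq_zero] at h4)
    refine LinearMap.finrank_le_finrank_of_injective (f := k) ?_
    intro v w h
    have h4 := congrArg (fun x : ↥(S ⊓ Module.End.eigenspace T 1) => (x : M)) h
    exact Subtype.ext (Subtype.ext h4)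
  have h4 : ev T 1 = finrank F ↥(Module.End.eigenspace T 1) := rfl
  omega

theorem rr_sub {M : Type*} [AddCommGroup M] [Module F M] {r : Representation F P M} {z g : P} {b : F} (u v : M) (s : F) :
    rr r z g b (u - s • v) = rr r z g b u - s • rr r z g b v := by
  unfold rr
  simp only [map_sub, map_smul]
  module

theorem KF.sub {M : Type*} [AddCommGroup M] [Module F M] {r : Representation F P M} {z g : P} {u v : M}
    (hu : KF r z g u) (hv : KF r z g v) (s : F) : KF r z g (u - s • v) := by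
  constructor
  · rw [map_sub, map_smul, hu.1, hv.1]
  · rw [map_sub, map_smul, hu.2, hv.2]

theorem crs_st {r r' : Representation F P (I27 → F)} (hcr : ∀ g x y, r' g (cr x y) = cr (r g x) (r g y))
    {A B : Submodule F (I27 → F)} (hA : St r A) (hB : St r B) : St r' (crs A B) := by
  intro g w hw
  rw [crs] at hw
  induction hw using Submodule.span_induction with
  | mem w hw =>
    obtain ⟨x, hx, y, hy, rfl⟩ := hw
    rw [hcr]
    exact Submodule.subset_span ⟨_, hA g x hx, _, hB g y hy, rfl⟩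
  | zero => rw [map_zero]; exact Submodule.zero_mem _
  | add a c _ _ ha hc => rw [map_add]; exact Submodule.add_mem _ ha hc
  | smul s a _ ha => rw [map_smul]; exact Submodule.smul_mem _ _ ha

/-- output of BOX R for `cr` -/
def BR (r r' : Representation F P (I27 → F)) (z g₁ g₂ : P) : Prop :=
  ∀ W₁ W₂ : Submodule F (I27 → F), St r W₁ → St r W₂ → finrank F ↥W₁ = 3 → finrank F ↥W₂ = 3 → ∀ u₁ ∈ W₁, ∀ u₂ ∈ W₂,
    KF r z g₁ u₁ → KF r z g₂ u₂ → u₁ ≠ 0 → u₂ ≠ 0 →
    finrank F ↥(crs W₁ W₂) = 9 ∧ cr u₁ u₂ ≠ 0 ∧ (∀ y ∈ crs W₁ W₂, r' z y = y → ∃ s : F, y = s • cr u₁ u₂) ∧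
      ∀ X ≤ crs W₁ W₂, St r' X → X = ⊥ ∨ X = crs W₁ W₂

variable [CharP F 2] {r r' : Representation F P (I27 → F)} {ζ z g₁ g₂ β t a : P} {b c : F}

theorem uniq_aux (hd : ∀ W : Submodule F (I27 → F), St r W → 3 ∣ finrank F ↥W) (hF : Full ζ z g₁ g₂ β t a)
    (hc : Ch r' ζ c) (hs : Sc r β b) (hcr : ∀ g x y, r' g (cr x y) = cr (r g x) (r g y)) (hBR : BR r r' z g₁ g₂)
    (h6 : 6 ≤ ev (r' z) 1) {W W' W₂ : Submodule F (I27 → F)} (hW : St r W) (hW' : St r W') (hW₂ : St r W₂)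
    (d : finrank F ↥W = 3) (d' : finrank F ↥W' = 3) (d₂ : finrank F ↥W₂ = 3) {u u' u₂ : I27 → F} (hu : u ∈ W) (hu' : u' ∈ W')
    (hu₂ : u₂ ∈ W₂) (k : KF r z g₁ u) (k' : KF r z g₁ u') (k₂ : KF r z g₂ u₂) (n : u ≠ 0) (n' : u' ≠ 0) (n₂ : u₂ ≠ 0) :
    W = W' := by
  by_contra hne
  -- `W ∩ W' = 0`
  have hWW : W ⊓ W' = ⊥ := by
    obtain ⟨m, hm⟩ := hd _ (St.inf hW hW')
    have h1 : finrank F ↥(W ⊓ W') ≤ 3 := by
      have := Submodule.finrank_mono (inf_le_left : W ⊓ W' ≤ W)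
      omega
    have h2 : m = 0 ∨ m = 1 := by omega
    rcases h2 with rfl | rfl
    · exact Submodule.finrank_eq_zero.1 hm
    · exfalso
      have h3 : W ⊓ W' = W := Submodule.eq_of_le_of_finrank_eq inf_le_left (by omega)
      have h4 : W ⊓ W' = W' := Submodule.eq_of_le_of_finrank_eq inf_le_right (by omega)
      exact hne (h3.symm.trans h4)
  obtain ⟨dR, nR, fR, iR⟩ := hBR W W₂ hW hW₂ d d₂ u hu u₂ hu₂ k k₂ n n₂
  obtain ⟨dR', nR', fR', iR'⟩ := hBR W' W₂ hW' hW₂ d' d₂ u' hu' u₂ hu₂ k' k₂ n' n₂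
  have sR := crs_st hcr hW hW₂
  have sR' := crs_st hcr hW' hW₂
  have hinf : crs W W₂ ⊓ crs W' W₂ = ⊥ := by
    rcases iR _ inf_le_left (St.inf sR sR') with h | h
    · exact h
    exfalso
    have hle : crs W W₂ ≤ crs W' W₂ := by rw [← h]; exact inf_le_right
    have hz : r' z (cr u u₂) = cr u u₂ := by rw [hcr, k.1, k₂.1]
    obtain ⟨s, hs'⟩ := fR' _ (hle (Submodule.subset_span ⟨u, hu, u₂, hu₂, rfl⟩)) hz
    have hw0 : cr (u - s • u') u₂ = 0 := by
      have e : u - s • u' = u + (-s) • u' := by module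
      rw [e, cr_add_left, cr_smul_left, hs', neg_smul, add_neg_cancel]
    have kw : KF r z g₁ (u - s • u') := KF.sub k k' s
    by_cases hw : u - s • u' = 0
    · have h3 : u ∈ W ⊓ W' := by
        refine ⟨hu, ?_⟩
        rw [sub_eq_zero.1 hw]
        exact W'.smul_mem _ hu'
      rw [hWW, Submodule.mem_bot] at h3
      exact n h3
    · have r1 := rr_zero hd hF.h1 hs hW d hu k n
      have r2 := rr_zero hd hF.h1 hs hW' d' hu' k' n'
      have r3 : rr r z g₁ b (u - s • u') = 0 := by rw [rr_sub, r1, r2, smul_zero, sub_zero]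
      obtain ⟨s1, s2⟩ := S3_stable hF.h1 hs kw r3
      exact (hBR _ W₂ s1 hW₂ (S3_three hd hF.h1 hs kw r3 hw) d₂ _ s2 u₂ hu₂ kw k₂ hw n₂).2.1 hw0
  have sS := St.sup sR sR'
  have dS : finrank F ↥(crs W W₂ ⊔ crs W' W₂) = 18 := by
    have h1 := Submodule.finrank_sup_add_finrank_inf_eq (crs W W₂) (crs W' W₂)
    rw [hinf, finrank_bot] at h1
    omega
  -- fixed vectors in the sum
  have hfix : finrank F ↥((crs W W₂ ⊔ crs W' W₂) ⊓ Module.End.eigenspace (r' z) 1) ≤ 2 := by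
    have h1 : (crs W W₂ ⊔ crs W' W₂) ⊓ Module.End.eigenspace (r' z) 1 ≤ Submodule.span F {cr u u₂, cr u' u₂} := by
      rintro y ⟨hy, hy1⟩
      rw [SetLike.mem_coe, Module.End.mem_eigenspace_iff, one_smul] at hy1
      obtain ⟨p, hp, q, hq, rfl⟩ := Submodule.mem_sup.1 hy
      rw [map_add] at hy1
      have e1 : r' z p - p = q - r' z q := by
        rw [sub_eq_sub_iff_add_eq_add, hy1]
        abel
      have e2 : r' z p - p ∈ crs W W₂ ⊓ crs W' W₂ := by
        refine ⟨Submodule.sub_mem _ (sR z p hp) hp, ?_⟩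
        rw [e1]
        exact Submodule.sub_mem _ hq (sR' z q hq)
      rw [hinf, Submodule.mem_bot] at e2
      have e3 : q - r' z q = 0 := by rw [← e1, e2]
      obtain ⟨s, hs1⟩ := fR p hp (sub_eq_zero.1 e2)
      obtain ⟨s', hs2⟩ := fR' q hq (sub_eq_zero.1 e3).symm
      rw [hs1, hs2]
      exact Submodule.mem_span_pair.2 ⟨s, s', rfl⟩
    refine (Submodule.finrank_mono h1).trans ?_
    have h2 := finrank_range_le_card (R := F) ![cr u u₂, cr u' u₂]
    rw [Matrix.range_cons, Matrix.range_cons, Matrix.range_empty, Set.union_empty, Set.singleton_union] at h2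
    exact h2
  -- the quotient
  let S := crs W W₂ ⊔ crs W' W₂
  let q : Representation F P ((I27 → F) ⧸ S) := r'.quotient S (fun g w hw => sS g w hw)
  have hq : ∀ g v, q g (S.mkQ v) = S.mkQ (r' g v) := fun g v => rfl
  have hcq : Ch q ζ c := by
    refine ⟨fun v => ?_, hc.ne, hc.cube⟩
    obtain ⟨v, rfl⟩ := S.mkQ_surjective v
    rw [hq, hc.act, map_smul]
  have e1 := ev_le hF q hcq
  have e2 := ev_quo (r' z) (S := S) (q z) (hq z)
  have e3 := Submodule.finrank_quotient_add_finrank S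
  rw [H905.E6T.finrank27] at e3
  have e4 : finrank F ↥S = 18 := dS
  have e5 : finrank F ↥(S ⊓ Module.End.eigenspace (r' z) 1) ≤ 2 := hfix
  omega

end abs

/-! ### the concrete situation -/

/-- the statement of BOX R -/
def BoxR (F : Type u) [Field F] (P : Type u) [Group P] : Prop :=
  ∀ {ζ z g₁ g₂ β t a : P}, Full ζ z g₁ g₂ β t a → ∀ {c : F} {X₁ X₂ Y : Type u} [AddCommGroup X₁] [Module F X₁]
    [FiniteDimensional F X₁] [AddCommGroup X₂] [Module F X₂] [FiniteDimensional F X₂] [AddCommGroup Y] [Module F Y]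
    [FiniteDimensional F Y] (ρ₁ : Representation F P X₁) (ρ₂ : Representation F P X₂) (σ : Representation F P Y),
    Ch ρ₁ ζ c → Ch ρ₂ ζ c → finrank F X₁ = 3 → finrank F X₂ = 3 → ∀ {u₁ : X₁} {u₂ : X₂}, KF ρ₁ z g₁ u₁ → u₁ ≠ 0 →
    KF ρ₂ z g₂ u₂ → u₂ ≠ 0 → ∀ B : X₁ →ₗ[F] X₂ →ₗ[F] Y, (∀ g x y, σ g (B x y) = B (ρ₁ g x) (ρ₂ g y)) → B ≠ 0 →
    ∀ R : Submodule F Y, R = Submodule.span F {y | ∃ x₁ x₂, y = B x₁ x₂} →
    finrank F ↥R = 9 ∧ B u₁ u₂ ≠ 0 ∧ (∀ y ∈ R, σ z y = y → ∃ s : F, y = s • B u₁ u₂) ∧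
      ∀ X : Submodule F Y, X ≤ R → St σ X → X = ⊥ ∨ X = R

variable {F : Type u} [Field F] [Finite F] [CharP F 2] {H : Subgroup ↥(chevE6.group F)}
  {φ : ↥(alternatingGroup (Fin 6)) →* ↥(chevE6.group F)}

theorem br_of (hR : BoxR F ↥(φ.range.comap (ad F))) (hS : Sit H 6 φ) {ω : Fˣ} (hω : Cover φ ω)
    {ζ z g₁ g₂ β t a : ↥(φ.range.comap (ad F))} (hF : Full ζ z g₁ g₂ β t a)
    (hζ : ((ζ : ↥(Zgrp F)) : GL I27 F) = scal ω) {ρ ρ' : Representation F ↥(Zgrp F) (I27 → F)} (hp : Pr ρ ρ') :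
    BR (rP φ ρ) (rP φ ρ') z g₁ g₂ := by
  intro W₁ W₂ h₁ h₂ d₁ d₂ u₁ m₁ u₂ m₂ k₁ k₂ n₁ n₂
  obtain ⟨c, hc⟩ := ch_pr hω.1 hω.2.1 hζ hp.left
  let B : ↥W₁ →ₗ[F] ↥W₂ →ₗ[F] (I27 → F) := (H905.E6T.crB F).domRestrict₁₂ W₁ W₂
  have hBa : ∀ x y, B x y = cr (x : I27 → F) (y : I27 → F) := fun x y => rfl
  have key := hR hF (c := c) ((rP φ ρ).subrepresentation W₁ (fun g w hw => h₁ g w hw))
    ((rP φ ρ).subrepresentation W₂ (fun g w hw => h₂ g w hw)) (rP φ ρ')
    ⟨fun v => Subtype.ext (hc.act v), hc.ne, hc.cube⟩ ⟨fun v => Subtype.ext (hc.act v), hc.ne, hc.cube⟩ d₁ d₂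
    (u₁ := ⟨u₁, m₁⟩) (u₂ := ⟨u₂, m₂⟩) ⟨Subtype.ext k₁.1, Subtype.ext k₁.2⟩ (fun h => n₁ (congrArg Subtype.val h))
    ⟨Subtype.ext k₂.1, Subtype.ext k₂.2⟩ (fun h => n₂ (congrArg Subtype.val h)) B (fun g x y => hp.cr g x y)
    (by
      intro h0
      refine n₂ (ann hS (div3 hS.inj hω) hp.left (st_iff.1 h₁) d₁ fun u hu => ?_)
      have h1 := LinearMap.congr_fun (LinearMap.congr_fun h0 ⟨u, hu⟩) ⟨u₂, m₂⟩
      exact h1)
    (crs W₁ W₂) (by
      rw [crs]
      congr 1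
      ext y
      constructor
      · rintro ⟨x, hx, v, hv, rfl⟩
        exact ⟨⟨x, hx⟩, ⟨v, hv⟩, rfl⟩
      · rintro ⟨x, v, rfl⟩
        exact ⟨x, x.2, v, v.2, rfl⟩)
  exact key

theorem exists_sc {ω : Fˣ} (hω : Cover φ ω)
    {ζ z g₁ g₂ β t a : ↥(φ.range.comap (ad F))} (hF : Full ζ z g₁ g₂ β t a)
    (hζ : ((ζ : ↥(Zgrp F)) : GL I27 F) = scal ω) {ρ : Representation F ↥(Zgrp F) (I27 → F)} (hρ : ρ = V F ∨ ρ = V' F) :
    ∃ b : F, Sc (rP φ ρ) β b := by
  obtain ⟨c, hc⟩ := ch_pr hω.1 hω.2.1 hζ hρ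
  rcases hF.beta with h | h
  · exact ⟨c, by rw [h]; exact Sc.of_Ch hc⟩
  · exact ⟨c * c, by rw [h]; exact (Sc.of_Ch hc).inv⟩

/-- **Q2** -/
theorem uniq_of (hR : BoxR F ↥(φ.range.comap (ad F))) (hS : Sit H 6 φ) {ω : Fˣ} (hω : Cover φ ω)
    {ζ z g₁ g₂ β t a : ↥(φ.range.comap (ad F))} (hF : Full ζ z g₁ g₂ β t a)
    (hζ : ((ζ : ↥(Zgrp F)) : GL I27 F) = scal ω) {ρ ρ' : Representation F ↥(Zgrp F) (I27 → F)} (hp : Pr ρ ρ')
    (h6 : 6 ≤ ev (ρ' z) 1) {W W' W₂ : Submodule F (I27 → F)} (h : Ty φ ρ z g₁ W) (h' : Ty φ ρ z g₁ W')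
    (h2 : Ty φ ρ z g₂ W₂) : W = W' := by
  obtain ⟨u, hu, n, k⟩ := h.k
  obtain ⟨u', hu', n', k'⟩ := h'.k
  obtain ⟨u₂, hu₂, n₂, k₂⟩ := h2.k
  obtain ⟨b, hs⟩ := exists_sc hω hF hζ hp.left
  obtain ⟨c, hc⟩ := ch_pr hω.1 hω.2.1 hζ hp.right
  exact uniq_aux (hd hS.inj hω hp.left) hF hc hs (fun g x y => hp.cr g x y) (br_of hR hS hω hF hζ hp) h6
    (st_iff.2 h.st) (st_iff.2 h'.st) (st_iff.2 h2.st) h.d h'.d h2.d hu hu' hu₂ k k' k₂ n n' n₂

end Cfsg.Agent.H401.SixUniq

private theorem dce_94cbf8ae545a : _root_.True := by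
  try have : _root_.True := by simp only [_root_.Cfsg.Agent.H163.E6.SixC.crs.eq_1]
  exact _root_.True.intro
end

-- part: H952/E6SevencTwo
section
prune_inst 0x410400100440002000018000000200004200000220000000040000a080b0880022000004028300010000888c10001000000000020000000000000000000000000080006042140a008020018000000000000000000000000000000000000010000000000000
set_option linter.all false
open scoped Cfsg.Agent.FastGrp

-- part: H16/S7/Lift
section
/-!
# S5927, S5928: the threefold cover of `A₇` on the pairs of points (helper16)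

Pieces A0, A1 of `tools/plans/S5927_sevenc_two.md` (helper952):
* `exists_lifts` : the lifts `S`, `T`, `a`;
* `exists_fam` : the cocycle on the 21 pairs.
-/

set_option autoImplicit false
set_option linter.unusedSectionVars false

namespace Cfsg.Agent.H16.S7

open Cfsg Cfsg.Lie Module Equiv
open Cfsg.Agent.H952.S7

/-! ### words -/

/-- the value of a word: `0 = S`, `1 = T`, `2 = a` -/
def wv {G : Type*} [Group G] (S T a : G) (l : List (Fin 3)) : G :=
  l.foldr (fun i x => (![S, T, a] : Fin 3 → G) i * x) 1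

section wv
variable {G : Type*} [Group G] (S T a : G)

theorem wv_nil : wv S T a [] = 1 := rfl

theorem wv_cons (i : Fin 3) (l : List (Fin 3)) : wv S T a (i :: l) = (![S, T, a] : Fin 3 → G) i * wv S T a l := rfl

theorem wv_append (l m : List (Fin 3)) : wv S T a (l ++ m) = wv S T a l * wv S T a m := by
  induction l with
  | nil => rw [List.nil_append, wv_nil, one_mul]
  | cons i l ih => rw [List.cons_append, wv_cons, wv_cons, ih, mul_assoc]

theorem map_wv {K : Type*} [Group K] (f : G →* K) (l : List (Fin 3)) : f (wv S T a l) = wv (f S) (f T) (f a) l := by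
  induction l with
  | nil => rw [wv_nil, wv_nil, map_one]
  | cons i l ih =>
    rw [wv_cons, wv_cons, map_mul, ih]
    congr 1
    fin_cases i <;> rfl

end wv

/-- coset representatives for the pairs -/
def bw : Fin 21 → List (Fin 3) :=
  ![[], [1, 1], [0, 1, 1], [0, 0, 1, 1], [0, 0, 0, 1, 1], [0, 0, 0, 0, 1, 1], [1], [0, 1], [0, 0, 1], [0, 0, 0, 1], [0, 0, 0, 0, 1], [1, 0, 1], [0, 1, 0, 1], [0, 0, 1, 0, 1], [0, 0, 0, 1, 0, 1], [0, 0, 0, 0, 1, 0, 1], [1, 0, 0, 1], [0, 1, 0, 0, 1], [0, 0, 1, 0, 0, 1], [0, 0, 0, 1, 0, 0, 1], [0, 0, 0, 0, 1, 0, 0, 1]]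

/-- the words in `S`, `a` -/
def ww : Fin 21 → List (Fin 3) :=
  ![[], [], [0, 0, 0, 0, 2, 0], [2, 0, 2, 0, 0, 2, 0], [2, 0, 0, 2, 0, 2, 0], [2], [], [], [], [0, 0, 0, 2, 0, 0, 2, 0, 2, 0], [0, 0, 0, 0, 2], [0, 0, 0, 0, 2, 0], [0, 0, 0, 2, 0, 2, 0], [0, 0, 0, 2, 0, 0, 0, 2], [0, 0, 0, 0, 2, 0, 2], [0], [2, 0, 2, 0, 0, 2, 0], [0, 0, 0, 0, 2, 0, 0, 2], [0, 0, 2, 0, 0, 2, 0, 0], [0, 0], [2, 0, 2, 0, 0, 0]]

/-- the relation `(T S⁻¹ T S)²` -/
def r1 : List (Fin 3) := [1, 0, 0, 0, 0, 1, 0, 1, 0, 0, 0, 0, 1, 0]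

/-- the relation `(T S⁻² T S²)²` -/
def r2 : List (Fin 3) := [1, 0, 0, 0, 1, 0, 0, 1, 0, 0, 0, 1, 0, 0]

/-- a word for `(3 4 5)` -/
def y345 : List (Fin 3) := [1, 1, 0, 1, 0, 0, 0, 1, 1, 0, 1, 0]

/-- the points where `T` is applied, and the end point -/
def exl : List (Fin 3) → Fin 21 → List (Fin 21) × Fin 21
  | [], p => ([], p)
  | i :: l, p => if i = 0 then ((exl l p).1, sp (exl l p).2) else ((exl l p).2 :: (exl l p).1, tp (exl l p).2)

/-! ### the permutations -/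

/-- `(2 3 4 5 6)` -/
def ps : Perm (Fin 7) := swap (2 : Fin 7) 3 * swap (3 : Fin 7) 4 * swap (4 : Fin 7) 5 * swap (5 : Fin 7) 6

/-- `(0 1 2)` -/
def pt : Perm (Fin 7) := swap (0 : Fin 7) 1 * swap (1 : Fin 7) 2

/-- `(0 1)(2 3)` -/
def pa : Perm (Fin 7) := swap (0 : Fin 7) 1 * swap (2 : Fin 7) 3

theorem perm_key : ∀ p, wv ps pt pa (1 :: bw p) = wv ps pt pa (bw (tp p) ++ ww p) := by decide +kernel

theorem perm_r1 : wv ps pt pa r1 = wv ps pt pa [] := by decide +kernel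

theorem perm_r2 : wv ps pt pa r2 = wv ps pt pa [] := by decide +kernel

theorem perm_y : wv ps pt pa y345 = swap (3 : Fin 7) 4 * swap (4 : Fin 7) 5 := by decide +kernel

/-- `s`, `t`, `a` in the alternating group -/
def s7 : ↥(alternatingGroup (Fin 7)) := ⟨ps, Perm.mem_alternatingGroup.2 (by decide)⟩
def t7 : ↥(alternatingGroup (Fin 7)) := ⟨pt, Perm.mem_alternatingGroup.2 (by decide)⟩
def a7 : ↥(alternatingGroup (Fin 7)) := ⟨pa, Perm.mem_alternatingGroup.2 (by decide)⟩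

theorem alt_eq {l m : List (Fin 3)} (h : wv ps pt pa l = wv ps pt pa m) : wv s7 t7 a7 l = wv s7 t7 a7 m := by
  apply Subtype.ext
  have h1 := map_wv s7 t7 a7 (alternatingGroup (Fin 7)).subtype
  exact (h1 l).trans (h.trans (h1 m).symm)

/-! ### the linear equations -/

section core

variable {G : Type*} [Group G] {F : Type*} [Field F] {M : Type*} [AddCommGroup M] [Module F M]
  (σ : Representation F G M) {S T a z : G} {ζ : F}

theorem fix_word {v : M} (hS : σ S v = v) (ha : σ a v = v) : ∀ l : List (Fin 3), (∀ x ∈ l, x ≠ 1) →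
    σ (wv S T a l) v = v := by
  intro l
  induction l with
  | nil => intro _; rw [wv_nil, map_one]; rfl
  | cons i l ih =>
    intro h
    rw [wv_cons, map_mul, Module.End.mul_apply, ih fun x hx => h x (List.mem_cons_of_mem _ hx)]
    have h1 := h i (List.mem_cons_self ..)
    match i, h1 with
    | 0, _ => exact hS
    | 1, h => exact absurd rfl h
    | 2, _ => exact ha

theorem ww_ne : ∀ p, ∀ x ∈ ww p, x ≠ 1 := by decide +kernel

theorem z_pow (hz : ∀ v, σ z v = ζ • v) (n : ℕ) (v : M) : σ (z ^ n) v = ζ ^ n • v := by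
  induction n with
  | zero => rw [pow_zero, pow_zero, map_one, one_smul]; rfl
  | succ n ih => rw [pow_succ, map_mul, Module.End.mul_apply, hz, map_smul, ih, smul_smul, pow_succ, mul_comm]

theorem s_word (h5 : S ^ 5 = 1) (p : Fin 21) :
    wv S T a (0 :: bw p) = wv S T a (bw (sp p)) * (if p = 0 then S else 1) := by
  have h : ∀ x, S * (S * (S * (S * (S * x)))) = x := by
    intro x
    calc S * (S * (S * (S * (S * x)))) = S ^ 5 * x := by simp only [pow_succ, pow_zero, one_mul, mul_assoc]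
      _ = x := by rw [h5, one_mul]
  fin_cases p
  all_goals first
    | exact (mul_one _).symm
    | exact (h _).trans (mul_one _).symm
    | (change S * 1 = 1 * S; rw [mul_one, one_mul])

variable (hz : ∀ v, σ z v = ζ • v) (h5 : S ^ 5 = 1) (n : Fin 21 → ℕ)
  (hn : ∀ p, wv S T a (1 :: bw p) = wv S T a (bw (tp p) ++ ww p) * z ^ n p) {v : M}
  (hvS : σ S v = v) (hva : σ a v = v)

include h5 hvS in
theorem fam_s (p : Fin 21) : σ S (σ (wv S T a (bw p)) v) = σ (wv S T a (bw (sp p))) v := by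
  have h1 := s_word (T := T) (a := a) h5 p
  rw [← Module.End.mul_apply, ← map_mul]
  change σ (wv S T a (0 :: bw p)) v = _
  rw [h1, map_mul, Module.End.mul_apply]
  congr 1
  split_ifs
  · exact hvS
  · rw [map_one]; rfl

include hz hn hvS hva in
theorem fam_t (p : Fin 21) : σ T (σ (wv S T a (bw p)) v) = ζ ^ n p • σ (wv S T a (bw (tp p))) v := by
  rw [← Module.End.mul_apply, ← map_mul]
  change σ (wv S T a (1 :: bw p)) v = _
  rw [hn p, map_mul, Module.End.mul_apply, z_pow σ hz, map_smul, wv_append, map_mul, Module.End.mul_apply,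
    fix_word σ hvS hva _ (ww_ne p)]

include hz h5 hn hvS hva in
theorem word_act (l : List (Fin 3)) (hl : ∀ x ∈ l, x ≠ 2) (p : Fin 21) :
    σ (wv S T a l) (σ (wv S T a (bw p)) v) = ζ ^ ((exl l p).1.map n).sum • σ (wv S T a (bw (exl l p).2)) v := by
  induction l with
  | nil => rw [wv_nil, map_one, exl, List.map_nil, List.sum_nil, pow_zero, one_smul]; rfl
  | cons i l ih =>
    rw [wv_cons, map_mul, Module.End.mul_apply, ih fun x hx => hl x (List.mem_cons_of_mem _ hx), map_smul]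
    have h1 := hl i (List.mem_cons_self ..)
    match i, h1 with
    | 0, _ =>
      rw [exl, if_pos rfl]
      change _ • σ S _ = _
      rw [fam_s σ h5 hvS]
    | 1, _ =>
      rw [exl, if_neg (by decide)]
      change _ • σ T _ = _
      rw [fam_t σ hz n hn hvS hva, smul_smul, List.map_cons, List.sum_cons, pow_add, mul_comm]
    | 2, h => exact absurd rfl h

theorem smul_cancel {x : M} (hx : x ≠ 0) {i j : ℕ} (h1 : ζ ≠ 1) (h3 : ζ ^ 3 = 1) (h : ζ ^ i • x = ζ ^ j • x) :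
    (i : ZMod 3) = j := by
  have h4 : ζ ^ i = ζ ^ j := by
    have h5 : (ζ ^ i - ζ ^ j) • x = 0 := by rw [sub_smul, h, sub_self]
    rcases smul_eq_zero.1 h5 with h6 | h6
    · exact sub_eq_zero.1 h6
    · exact absurd h6 hx
  have ho : orderOf ζ = 3 := orderOf_eq_prime h3 h1
  have hz0 : ζ ≠ 0 := by
    rintro rfl
    norm_num at h3
  have h5 : Units.mk0 ζ hz0 ^ i = Units.mk0 ζ hz0 ^ j := by
    apply Units.ext
    push_cast
    exact h4
  have ho' : orderOf (Units.mk0 ζ hz0) = 3 := by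
    rw [← orderOf_units, Units.val_mk0, ho]
  rw [pow_eq_pow_iff_modEq, ho'] at h5
  exact (ZMod.natCast_eq_natCast_iff _ _ _).2 h5

theorem apply_ne {v : M} (hv : v ≠ 0) (g : G) : σ g v ≠ 0 := by
  intro h
  apply hv
  have h1 : σ (g⁻¹ * g) v = 0 := by rw [map_mul, Module.End.mul_apply, h, map_zero]
  rw [inv_mul_cancel, map_one] at h1
  exact h1

include hz h5 hn hvS hva in
/-- a relation gives a linear equation -/
theorem req (h1 : ζ ≠ 1) (h3 : ζ ^ 3 = 1) (hv : v ≠ 0) {l : List (Fin 3)} {c : ℕ} (hl : ∀ x ∈ l, x ≠ 2)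
    (hlc : wv S T a l = z ^ c) (p : Fin 21) (L : List (Fin 21)) (he : exl l p = (L, p)) :
    (((L.map n).sum : ℕ) : ZMod 3) = c := by
  have h := word_act σ hz h5 n hn hvS hva l hl p
  rw [hlc, he, z_pow σ hz] at h
  exact (smul_cancel (apply_ne σ hv _) h1 h3 h).symm

include hz hn hvS hva in
/-- the gauge -/
theorem geq (h1 : ζ ≠ 1) (h3 : ζ ^ 3 = 1) (hv : v ≠ 0) (p : Fin 21) (he : 1 :: bw p = bw (tp p)) :
    ((n p : ℕ) : ZMod 3) = 0 := by
  have h := fam_t σ hz n hn hvS hva p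
  rw [← Module.End.mul_apply, ← map_mul] at h
  change σ (wv S T a (1 :: bw p)) v = _ at h
  rw [he] at h
  have h2 := smul_cancel (i := 0) (j := n p) (apply_ne σ hv (wv S T a (bw (tp p)))) h1 h3 (by rw [pow_zero, one_smul]; exact h)
  rw [← h2, Nat.cast_zero]

include hz h5 hn hvS hva in
/-- **the cocycle** -/
theorem core (h1 : ζ ≠ 1) (h3 : ζ ^ 3 = 1) (hv : v ≠ 0) (hT3 : T ^ 3 = 1) (hST : (S * T) ^ 7 = 1) {c1 c2 : ℕ}
    (hc1 : wv S T a r1 = z ^ c1) (hc2 : wv S T a r2 = z ^ c2) :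
    ∀ p, ((n p : ℕ) : ZMod 3) = (nt p : ZMod 3) * (c1 : ZMod 3) := by
  have h33 : (3 : ZMod 3) = 0 := by decide
  have hw3 : wv S T a [1, 1, 1] = z ^ 0 := by
    change T * (T * (T * 1)) = z ^ 0
    rw [mul_one, pow_zero, ← hT3]
    simp only [pow_succ, pow_zero, one_mul, mul_assoc]
  have hw7 : wv S T a [0, 1, 0, 1, 0, 1, 0, 1, 0, 1, 0, 1, 0, 1] = z ^ 0 := by
    rw [pow_zero, ← hST]
    change S * (T * (S * (T * (S * (T * (S * (T * (S * (T * (S * (T * (S * (T * 1))))))))))))) = _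
    simp only [pow_succ, pow_zero, one_mul, mul_assoc, mul_one]
  have eT3_0 := req σ hz h5 n hn hvS hva h1 h3 hv (by decide) hw3 0 [1, 6, 0] (by decide +kernel)
  have eT3_2 := req σ hz h5 n hn hvS hva h1 h3 hv (by decide) hw3 2 [11, 7, 2] (by decide +kernel)
  have eT3_3 := req σ hz h5 n hn hvS hva h1 h3 hv (by decide) hw3 3 [16, 8, 3] (by decide +kernel)
  have eT3_4 := req σ hz h5 n hn hvS hva h1 h3 hv (by decide) hw3 4 [19, 9, 4] (by decide +kernel)
  have eT3_5 := req σ hz h5 n hn hvS hva h1 h3 hv (by decide) hw3 5 [15, 10, 5] (by decide +kernel)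
  have eST7_0 := req σ hz h5 n hn hvS hva h1 h3 hv (by decide) hw7 0 [1, 15, 14, 13, 12, 7, 0] (by decide +kernel)
  have eST7_2 := req σ hz h5 n hn hvS hva h1 h3 hv (by decide) hw7 2 [6, 5, 19, 18, 17, 8, 2] (by decide +kernel)
  have eST7_3 := req σ hz h5 n hn hvS hva h1 h3 hv (by decide) hw7 3 [11, 10, 4, 16, 20, 9, 3] (by decide +kernel)
  have g0 := geq σ hz n hn hvS hva h1 h3 hv 0 rfl
  have g6 := geq σ hz n hn hvS hva h1 h3 hv 6 rfl
  have g7 := geq σ hz n hn hvS hva h1 h3 hv 7 rfl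
  have g8 := geq σ hz n hn hvS hva h1 h3 hv 8 rfl
  have eR1_17 := req σ hz h5 n hn hvS hva h1 h3 hv (by decide) hc1 17 [17, 18, 17, 18] (by decide +kernel)
  have eR2_1 := req σ hz h5 n hn hvS hva h1 h3 hv (by decide) hc2 1 [6, 3, 6, 3] (by decide +kernel)
  have eR2_4 := req σ hz h5 n hn hvS hva h1 h3 hv (by decide) hc2 4 [19, 8, 0, 1] (by decide +kernel)
  have eR2_7 := req σ hz h5 n hn hvS hva h1 h3 hv (by decide) hc2 7 [2, 19, 17, 9] (by decide +kernel)
  have eR2_8 := req σ hz h5 n hn hvS hva h1 h3 hv (by decide) hc2 8 [3, 15, 13, 10] (by decide +kernel)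
  have eR2_9 := req σ hz h5 n hn hvS hva h1 h3 hv (by decide) hc2 9 [4, 6, 4, 6] (by decide +kernel)
  have eR2_10 := req σ hz h5 n hn hvS hva h1 h3 hv (by decide) hc2 10 [5, 11, 14, 7] (by decide +kernel)
  have eR2_12 := req σ hz h5 n hn hvS hva h1 h3 hv (by decide) hc2 12 [12, 14, 12, 14] (by decide +kernel)
  have eR2_18 := req σ hz h5 n hn hvS hva h1 h3 hv (by decide) hc2 18 [18, 20, 18, 20] (by decide +kernel)
  have eR2_20 := req σ hz h5 n hn hvS hva h1 h3 hv (by decide) hc2 20 [20, 17, 20, 17] (by decide +kernel)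
  simp only [List.map_cons, List.map_nil, List.sum_cons, List.sum_nil, Nat.cast_add, Nat.cast_zero, add_zero] at eT3_0 eT3_2 eT3_3 eT3_4 eT3_5 eST7_0 eST7_2 eST7_3 eR1_17 eR2_1 eR2_4 eR2_7 eR2_8 eR2_9 eR2_10 eR2_12 eR2_18 eR2_20
  intro p
  fin_cases p
  · change ((n 0 : ℕ) : ZMod 3) = ((0 : ℕ) : ZMod 3) * (c1 : ZMod 3)
    push_cast
    linear_combination g0
  · change ((n 1 : ℕ) : ZMod 3) = ((0 : ℕ) : ZMod 3) * (c1 : ZMod 3)
    push_cast
    linear_combination eT3_0 - g0 - g6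
  · change ((n 2 : ℕ) : ZMod 3) = ((2 : ℕ) : ZMod 3) * (c1 : ZMod 3)
    push_cast
    linear_combination - eT3_4 - g6 - eR1_17 + eR2_7 - eR2_9 + eR2_18 - eR2_20 + (1 * ((n 4 : ℕ) : ZMod 3) + 1 * ((n 6 : ℕ) : ZMod 3) + 1 * ((n 17 : ℕ) : ZMod 3) - 1 * (c1 : ZMod 3)) * h33
  · change ((n 3 : ℕ) : ZMod 3) = ((0 : ℕ) : ZMod 3) * (c1 : ZMod 3)
    push_cast
    linear_combination eT3_0 - eT3_2 - eT3_3 + eT3_4 + eST7_0 + eST7_3 - g6 + eR2_1 + eR2_4 + eR2_7 - eR2_8 - eR2_9 + eR2_12 + eR2_20 + (- 1 * ((n 0 : ℕ) : ZMod 3) - 1 * ((n 1 : ℕ) : ZMod 3) - 1 * ((n 9 : ℕ) : ZMod 3) - 1 * ((n 12 : ℕ) : ZMod 3) - 1 * ((n 14 : ℕ) : ZMod 3) - 1 * ((n 17 : ℕ) : ZMod 3) - 1 * ((n 19 : ℕ) : ZMod 3) - 1 * ((n 20 : ℕ) : ZMod 3) + 1 * (c2 : ZMod 3)) * h33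
  · change ((n 4 : ℕ) : ZMod 3) = ((0 : ℕ) : ZMod 3) * (c1 : ZMod 3)
    push_cast
    linear_combination eT3_0 - eT3_2 - eT3_3 + eT3_4 + eST7_0 + eST7_3 - g6 - eR2_1 + eR2_4 + eR2_7 - eR2_8 + eR2_9 + eR2_12 + eR2_20 + (- 1 * ((n 0 : ℕ) : ZMod 3) - 1 * ((n 1 : ℕ) : ZMod 3) + 1 * ((n 3 : ℕ) : ZMod 3) - 1 * ((n 4 : ℕ) : ZMod 3) - 1 * ((n 9 : ℕ) : ZMod 3) - 1 * ((n 12 : ℕ) : ZMod 3) - 1 * ((n 14 : ℕ) : ZMod 3) - 1 * ((n 17 : ℕ) : ZMod 3) - 1 * ((n 19 : ℕ) : ZMod 3) - 1 * ((n 20 : ℕ) : ZMod 3) + 1 * (c2 : ZMod 3)) * h33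
  · change ((n 5 : ℕ) : ZMod 3) = ((2 : ℕ) : ZMod 3) * (c1 : ZMod 3)
    push_cast
    linear_combination - eT3_0 - eT3_2 - eT3_3 - eT3_4 + eST7_0 + eST7_2 + eST7_3 - g6 - eR1_17 - eR2_1 - eR2_8 + eR2_12 - eR2_18 - eR2_20 + (1 * ((n 3 : ℕ) : ZMod 3) + 1 * ((n 6 : ℕ) : ZMod 3) - 1 * ((n 12 : ℕ) : ZMod 3) - 1 * ((n 14 : ℕ) : ZMod 3) + 1 * ((n 17 : ℕ) : ZMod 3) + 1 * ((n 18 : ℕ) : ZMod 3) + 1 * ((n 20 : ℕ) : ZMod 3) - 1 * (c1 : ZMod 3) - 1 * (c2 : ZMod 3)) * h33
  · change ((n 6 : ℕ) : ZMod 3) = ((0 : ℕ) : ZMod 3) * (c1 : ZMod 3)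
    push_cast
    linear_combination g6
  · change ((n 7 : ℕ) : ZMod 3) = ((0 : ℕ) : ZMod 3) * (c1 : ZMod 3)
    push_cast
    linear_combination g7
  · change ((n 8 : ℕ) : ZMod 3) = ((0 : ℕ) : ZMod 3) * (c1 : ZMod 3)
    push_cast
    linear_combination g8
  · change ((n 9 : ℕ) : ZMod 3) = ((0 : ℕ) : ZMod 3) * (c1 : ZMod 3)
    push_cast
    linear_combination eT3_0 + eT3_4 + g8 - eR2_4 + eR2_9 + (- 1 * ((n 4 : ℕ) : ZMod 3) - 1 * ((n 6 : ℕ) : ZMod 3)) * h33
  · change ((n 10 : ℕ) : ZMod 3) = ((0 : ℕ) : ZMod 3) * (c1 : ZMod 3)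
    push_cast
    linear_combination eT3_2 + eT3_3 - eT3_4 + eST7_0 - eST7_3 + g7 - eR2_1 - eR2_4 - eR2_7 - eR2_8 + eR2_9 + eR2_12 - eR2_20 + (1 * ((n 3 : ℕ) : ZMod 3) - 1 * ((n 7 : ℕ) : ZMod 3) + 1 * ((n 9 : ℕ) : ZMod 3) + 1 * ((n 10 : ℕ) : ZMod 3) - 1 * ((n 12 : ℕ) : ZMod 3) - 1 * ((n 14 : ℕ) : ZMod 3) + 1 * ((n 17 : ℕ) : ZMod 3) + 1 * ((n 19 : ℕ) : ZMod 3) + 1 * ((n 20 : ℕ) : ZMod 3) - 1 * (c2 : ZMod 3)) * h33
  · change ((n 11 : ℕ) : ZMod 3) = ((1 : ℕ) : ZMod 3) * (c1 : ZMod 3)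
    push_cast
    linear_combination eT3_2 + eT3_4 + g6 - g7 + eR1_17 - eR2_7 + eR2_9 - eR2_18 + eR2_20 + (- 1 * ((n 4 : ℕ) : ZMod 3) - 1 * ((n 6 : ℕ) : ZMod 3) - 1 * ((n 17 : ℕ) : ZMod 3)) * h33
  · change ((n 12 : ℕ) : ZMod 3) = ((0 : ℕ) : ZMod 3) * (c1 : ZMod 3)
    push_cast
    linear_combination eT3_0 + eT3_2 - eT3_4 + eST7_2 - eR2_4 + eR2_7 - eR2_9 - eR2_10 - eR2_12 + eR2_18 - eR2_20 + (- 1 * ((n 2 : ℕ) : ZMod 3) + 1 * ((n 4 : ℕ) : ZMod 3) + 1 * ((n 12 : ℕ) : ZMod 3) + 1 * ((n 14 : ℕ) : ZMod 3) - 1 * ((n 18 : ℕ) : ZMod 3) - 1 * (c2 : ZMod 3)) * h33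
  · change ((n 13 : ℕ) : ZMod 3) = ((2 : ℕ) : ZMod 3) * (c1 : ZMod 3)
    push_cast
    linear_combination eT3_2 + eT3_3 - eT3_5 - eST7_0 + eST7_2 - eST7_3 - eR1_17 - eR2_1 + eR2_4 + eR2_7 - eR2_8 - eR2_9 - eR2_12 - eR2_18 + (- 1 * ((n 2 : ℕ) : ZMod 3) + 1 * ((n 3 : ℕ) : ZMod 3) + 1 * ((n 4 : ℕ) : ZMod 3) + 1 * ((n 6 : ℕ) : ZMod 3) - 1 * ((n 8 : ℕ) : ZMod 3) + 1 * ((n 10 : ℕ) : ZMod 3) + 1 * ((n 12 : ℕ) : ZMod 3) + 1 * ((n 13 : ℕ) : ZMod 3) + 1 * ((n 14 : ℕ) : ZMod 3) + 1 * ((n 15 : ℕ) : ZMod 3) + 1 * ((n 18 : ℕ) : ZMod 3) - 1 * ((n 19 : ℕ) : ZMod 3) + 1 * ((n 20 : ℕ) : ZMod 3) - 1 * (c1 : ZMod 3) - 1 * (c2 : ZMod 3)) * h33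
  · change ((n 14 : ℕ) : ZMod 3) = ((0 : ℕ) : ZMod 3) * (c1 : ZMod 3)
    push_cast
    linear_combination eT3_2 - eT3_3 - eT3_4 + eST7_0 - eST7_2 + eST7_3 - eR2_1 - eR2_4 - eR2_8 + eR2_10 + eR2_12 - eR2_18 - eR2_20 + (1 * ((n 3 : ℕ) : ZMod 3) + 1 * ((n 6 : ℕ) : ZMod 3) - 1 * ((n 7 : ℕ) : ZMod 3) + 1 * ((n 8 : ℕ) : ZMod 3) - 1 * ((n 11 : ℕ) : ZMod 3) - 1 * ((n 12 : ℕ) : ZMod 3) - 1 * ((n 14 : ℕ) : ZMod 3) + 1 * ((n 17 : ℕ) : ZMod 3) + 1 * ((n 18 : ℕ) : ZMod 3) + 1 * ((n 19 : ℕ) : ZMod 3) + 1 * ((n 20 : ℕ) : ZMod 3) - 1 * (c2 : ZMod 3)) * h33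
  · change ((n 15 : ℕ) : ZMod 3) = ((1 : ℕ) : ZMod 3) * (c1 : ZMod 3)
    push_cast
    linear_combination eT3_0 - eT3_4 + eT3_5 + eST7_0 - eST7_2 + g6 - g7 + eR1_17 - eR2_1 + eR2_4 + eR2_7 - eR2_8 - eR2_9 + eR2_12 + eR2_18 - eR2_20 + (- 1 * ((n 0 : ℕ) : ZMod 3) - 1 * ((n 1 : ℕ) : ZMod 3) + 1 * ((n 3 : ℕ) : ZMod 3) + 1 * ((n 4 : ℕ) : ZMod 3) + 1 * ((n 6 : ℕ) : ZMod 3) - 1 * ((n 12 : ℕ) : ZMod 3) - 1 * ((n 14 : ℕ) : ZMod 3) - 1 * ((n 18 : ℕ) : ZMod 3)) * h33
  · change ((n 16 : ℕ) : ZMod 3) = ((0 : ℕ) : ZMod 3) * (c1 : ZMod 3)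
    push_cast
    linear_combination - eT3_0 + eT3_2 - eT3_3 - eT3_4 - eST7_0 - eST7_3 + g6 - g8 - eR2_1 - eR2_4 - eR2_7 + eR2_8 + eR2_9 - eR2_12 - eR2_20 + (1 * ((n 0 : ℕ) : ZMod 3) + 1 * ((n 1 : ℕ) : ZMod 3) + 1 * ((n 3 : ℕ) : ZMod 3) + 1 * ((n 8 : ℕ) : ZMod 3) + 1 * ((n 9 : ℕ) : ZMod 3) + 1 * ((n 12 : ℕ) : ZMod 3) + 1 * ((n 14 : ℕ) : ZMod 3) + 1 * ((n 16 : ℕ) : ZMod 3) + 1 * ((n 17 : ℕ) : ZMod 3) + 1 * ((n 19 : ℕ) : ZMod 3) + 1 * ((n 20 : ℕ) : ZMod 3) - 1 * (c2 : ZMod 3)) * h33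
  · change ((n 17 : ℕ) : ZMod 3) = ((1 : ℕ) : ZMod 3) * (c1 : ZMod 3)
    push_cast
    linear_combination eR1_17 - eR2_18 + eR2_20 + (- 1 * ((n 17 : ℕ) : ZMod 3)) * h33
  · change ((n 18 : ℕ) : ZMod 3) = ((1 : ℕ) : ZMod 3) * (c1 : ZMod 3)
    push_cast
    linear_combination eR1_17 + eR2_18 - eR2_20 + (- 1 * ((n 18 : ℕ) : ZMod 3)) * h33
  · change ((n 19 : ℕ) : ZMod 3) = ((0 : ℕ) : ZMod 3) * (c1 : ZMod 3)
    push_cast
    linear_combination eT3_0 + eT3_2 + eT3_3 - eT3_4 - eST7_0 - eST7_3 + g6 - g8 + eR2_1 - eR2_7 + eR2_8 + eR2_9 - eR2_12 - eR2_20 + (- 1 * ((n 3 : ℕ) : ZMod 3) - 2 * ((n 6 : ℕ) : ZMod 3) + 1 * ((n 9 : ℕ) : ZMod 3) + 1 * ((n 12 : ℕ) : ZMod 3) + 1 * ((n 14 : ℕ) : ZMod 3) + 1 * ((n 17 : ℕ) : ZMod 3) + 1 * ((n 19 : ℕ) : ZMod 3) + 1 * ((n 20 : ℕ) : ZMod 3)) * h33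
  · change ((n 20 : ℕ) : ZMod 3) = ((2 : ℕ) : ZMod 3) * (c1 : ZMod 3)
    push_cast
    linear_combination eT3_0 - eT3_2 - eT3_3 + eT3_4 + eST7_0 + eST7_3 - eR1_17 - eR2_1 + eR2_4 + eR2_7 - eR2_8 - eR2_9 + eR2_12 + eR2_18 - eR2_20 + (- 1 * ((n 0 : ℕ) : ZMod 3) - 1 * ((n 1 : ℕ) : ZMod 3) + 1 * ((n 3 : ℕ) : ZMod 3) + 1 * ((n 6 : ℕ) : ZMod 3) - 1 * ((n 9 : ℕ) : ZMod 3) - 1 * ((n 12 : ℕ) : ZMod 3) - 1 * ((n 14 : ℕ) : ZMod 3) + 1 * ((n 17 : ℕ) : ZMod 3) - 1 * ((n 19 : ℕ) : ZMod 3) - 1 * (c1 : ZMod 3)) * h33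

end core

open Cfsg.Agent.ChevalleyStructure.E6Min.Tables Cfsg.Agent.ChevalleyStructure.E6Min.Basic
  Cfsg.Agent.ChevalleyStructure.E6Min.Adjoint
open Cfsg.Agent.H163.E6

universe u

/-! ### the lifts -/

theorem s7_pow : s7 ^ 5 = 1 := Subtype.ext (by decide +kernel)
theorem t7_pow : t7 ^ 3 = 1 := Subtype.ext (by decide +kernel)
theorem a7_sq : a7 * a7 = 1 := Subtype.ext (by decide +kernel)
theorem st7_pow : (s7 * t7) ^ 7 = 1 := Subtype.ext (by decide +kernel)
theorem as7_pow : (a7 * s7) ^ 4 = 1 := Subtype.ext (by decide +kernel)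
theorem y7_pow : yw s7 t7 ^ 3 = 1 := Subtype.ext (by decide +kernel)
theorem y7_ne : yw s7 t7 ≠ 1 := fun h => absurd (congrArg Subtype.val h) (by decide +kernel)
theorem t7_ne : t7 ≠ 1 := fun h => absurd (congrArg Subtype.val h) (by decide +kernel)
theorem yz7 : yw s7 t7 * (s7 * t7) = (s7 * t7) ^ 2 * yw s7 t7 := Subtype.ext (by decide +kernel)

/-- `(2 3)(4 6)` -/
def r7 : ↥(alternatingGroup (Fin 7)) := ⟨swap (2 : Fin 7) 3 * swap (4 : Fin 7) 6, Perm.mem_alternatingGroup.2 (by decide)⟩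

theorem r7_a : r7 * a7 * r7⁻¹ = a7 := Subtype.ext (by decide +kernel)
theorem r7_s : r7 * s7 * r7⁻¹ = s7⁻¹ := Subtype.ext (by decide +kernel)

theorem map_yw {G K : Type*} [Group G] [Group K] (f : G →* K) (S T : G) : f (yw S T) = yw (f S) (f T) := by
  simp only [yw, map_mul, map_inv]

section lifts

variable {F : Type u} [Field F]

/-- an element of the kernel of order prime to 3 is trivial -/
theorem one_of_pow {w : ↥(Zgrp F)} (h : ad F w = 1) {m : ℕ} (hm : Nat.Coprime m 3) (hw : w ^ m = 1) : w = 1 := by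
  have h4 : w ^ Nat.gcd m 3 = 1 := by
    rw [pow_gcd_eq_one]
    exact ⟨hw, Cov.ker_pow h⟩
  rwa [hm, pow_one] at h4

/-- equality up to the kernel -/
theorem eq_mul_of_ad {x y : ↥(Zgrp F)} (h : ad F x = ad F y) : ∃ w : ↥(Zgrp F), ad F w = 1 ∧ x = y * w ∧ Commute y w :=
  ⟨y⁻¹ * x, by rw [map_mul, map_inv, h, inv_mul_cancel], by rw [mul_inv_cancel_left],
    Cov.ker_comm (by rw [map_mul, map_inv, h, inv_mul_cancel]) y⟩

/-- elements of the same order prime to 3 with the same image are equal -/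
theorem eq_of_ad {x y : ↥(Zgrp F)} (h : ad F x = ad F y) {m : ℕ} (hm : Nat.Coprime m 3) (hx : x ^ m = 1) (hy : y ^ m = 1) :
    x = y := by
  obtain ⟨w, hw, hxw, hc⟩ := eq_mul_of_ad h
  have h1 : w ^ m = 1 := by
    rw [hxw, hc.mul_pow, hy, one_mul] at hx
    exact hx
  rw [hxw, one_of_pow hw hm h1, mul_one]

variable [Finite F] {H : Subgroup ↥(chevE6.group F)} {φ : ↥(alternatingGroup (Fin 7)) →* ↥(chevE6.group F)}

/-- the lifts -/
structure Lifts (φ : ↥(alternatingGroup (Fin 7)) →* ↥(chevE6.group F)) (S T a : ↥(Zgrp F)) : Prop where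
  adS : ad F S = φ s7
  adT : ad F T = φ t7
  ada : ad F a = φ a7
  S5 : S ^ 5 = 1
  T3 : T ^ 3 = 1
  ST7 : (S * T) ^ 7 = 1
  a2 : a * a = 1
  b4 : (a * S) ^ 4 = 1
  y3 : yw S T ^ 3 = 1
  yz : yw S T * (S * T) = (S * T) ^ 2 * yw S T

theorem exists_lifts (hi : Function.Injective φ) {ω : Fˣ} (hc : Cover φ ω) : ∃ S T a : ↥(Zgrp F), Lifts φ S T a := by
  obtain ⟨x0, hx0⟩ := ad_surjective (φ s7)
  obtain ⟨x1, hx1⟩ := ad_surjective (φ a7)
  obtain ⟨T0, hT0⟩ := ad_surjective (φ t7)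
  have adS : ad F (x0 ^ 6) = φ s7 := by
    rw [map_pow, hx0, pow_succ, ← map_pow, s7_pow, map_one, one_mul]
  have S5 : (x0 ^ 6) ^ 5 = 1 := by
    have h1 := Cov.ker_pow (z := x0 ^ 5) (by rw [map_pow, hx0, ← map_pow, s7_pow, map_one])
    rw [← pow_mul, show 6 * 5 = 5 * 3 * 2 by norm_num, pow_mul, pow_mul, h1, one_pow]
  have ada : ad F (x1 ^ 3) = φ a7 := by
    rw [map_pow, hx1, pow_succ, pow_two, ← map_mul, a7_sq, map_one, one_mul]
  have a2 : x1 ^ 3 * x1 ^ 3 = 1 := by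
    have h1 := Cov.ker_pow (z := x1 ^ 2) (by rw [map_pow, hx1, pow_two, ← map_mul, a7_sq, map_one])
    rw [← pow_add, show 3 + 3 = 2 * 3 by norm_num, pow_mul, h1]
  set! S := x0 ^ 6 with hset8; rewrite [← hset8] at S5 adS; clear hset8
  set! a := x1 ^ 3 with hset8; rewrite [← hset8] at a2 ada; clear hset8
  set! k := (S * T0) ^ 7 with hk
  have hk1 : ad F k = 1 := by rw [hk, map_pow, map_mul, adS, hT0, ← map_mul, ← map_pow, st7_pow, map_one]
  have hk3 := Cov.ker_pow hk1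
  set! T := T0 * k⁻¹ with hT
  have adT : ad F T = φ t7 := by rw [hT, map_mul, map_inv, hk1, inv_one, mul_one, hT0]
  have ST7 : (S * T) ^ 7 = 1 := by
    have hcm : Commute (S * T0) k⁻¹ := Commute.inv_right (Cov.ker_comm hk1 (S * T0))
    simp only [hT, ← mul_assoc, hcm.mul_pow, ← hk, inv_pow, show 7 = 1 + 3 * 2 by norm_num, pow_add, pow_mul, hk3, one_pow,
      mul_one, pow_one, mul_inv_cancel]
  have T3 : T ^ 3 = 1 := (Cov.type_thirty (Or.inr rfl) hi hc (orderOf_eq_prime t7_pow t7_ne) adT).1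
  have ady : ad F (yw S T) = φ (yw s7 t7) := by rw [map_yw, adS, adT, map_yw]
  have y3 : yw S T ^ 3 = 1 := (Cov.type_thirty (Or.inr rfl) hi hc (orderOf_eq_prime y7_pow y7_ne) ady).1
  refine ⟨S, T, a, adS, adT, ada, S5, T3, ST7, a2, ?_, y3, ?_⟩
  · obtain ⟨g, hg⟩ := ad_surjective (φ r7)
    have ga : g * a * g⁻¹ = a := by
      refine eq_of_ad (m := 2) ?_ (by norm_num) ?_ ?_
      · simp only [map_mul (ad F) (g * a) (g⁻¹), map_mul (ad F) g a, map_inv (ad F) g, hg, ada, ← map_inv φ r7, ← map_mul, ← map_mul, r7_a]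
      · rw [conj_pow, pow_two, a2, mul_one, mul_inv_cancel]
      · rw [pow_two, a2]
    have gS : g * S * g⁻¹ = S⁻¹ := by
      refine eq_of_ad (m := 5) ?_ (by norm_num) ?_ ?_
      · (simp +singlePass only [map_mul]; simp only [map_mul]; (conv => enter [@2, @6]; rw [map_inv]); simp only [map_inv]; simp only [hg]; rewrite [adS]; (conv => enter [@2, @6]; rw [← map_inv]); rewrite [← map_mul, ← map_mul, r7_s, map_inv]; with_reducible rfl)
      · rw [conj_pow, S5, mul_one, mul_inv_cancel]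
      · rw [inv_pow, S5, inv_one]
    have hw : ad F ((a * S) ^ 4) = 1 := by rw [map_pow, map_mul, ada, adS, ← map_mul, ← map_pow, as7_pow, map_one]
    have e1 : (a * S⁻¹) ^ 4 = (a * S) ^ 4 := by
      have h1 : g * (a * S) * g⁻¹ = a * S⁻¹ := by
        calc g * (a * S) * g⁻¹ = (g * a * g⁻¹) * (g * S * g⁻¹) := by group
          _ = a * S⁻¹ := by rw [ga, gS]
      rw [← h1, conj_pow, Cov.ker_comm hw g, mul_inv_cancel_right]
    have ha : a⁻¹ = a := (inv_eq_of_mul_eq_one_left a2 :)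
    have e2 : (a * S⁻¹) ^ 4 = ((a * S) ^ 4)⁻¹ := by
      have h1 : a * S⁻¹ = a⁻¹ * (a * S)⁻¹ * a⁻¹⁻¹ := by
        rw [inv_inv, mul_inv_rev]
        calc a * S⁻¹ = a⁻¹ * S⁻¹ := by rw [ha]
          _ = _ := by group
      rw [h1, conj_pow, inv_pow]
      have h2 := Cov.ker_comm (z := ((a * S) ^ 4)⁻¹) (by rw [map_inv, hw, inv_one]) a⁻¹
      rw [h2, mul_inv_cancel_right]
    refine one_of_pow hw (m := 2) (by norm_num) ?_
    rw [pow_two]
    nth_rw 1 [← e1]
    rw [e2, inv_mul_cancel]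
  · have h1 : yw S T * (S * T) * (yw S T)⁻¹ = (S * T) ^ 2 := by
      refine eq_of_ad (m := 7) ?_ (by norm_num) ?_ ?_
      · (simp +singlePass only [map_mul]; simp +singlePass only [map_mul]; simp only [map_inv]; simp only [ady]; simp only [map_pow]; simp only [map_mul]; simp only [adS]; rewrite [adT, ← map_mul]; simp only [← map_inv]; (conv => enter [@2, @5]; rw [← map_mul]); rewrite [← map_mul, yz7, mul_inv_cancel_right, map_pow]; with_reducible rfl)
      · rw [conj_pow, ST7, mul_one, mul_inv_cancel]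
      · rw [← pow_mul, mul_comm, pow_mul, ST7, one_pow]
    rw [← h1, inv_mul_cancel_right]

end lifts

/-! ### the families -/

section fam

variable {F : Type u} [Field F] {G : Type*} [Group G]

theorem pow_congr {ζ : F} (h3 : ζ ^ 3 = 1) {i j : ℕ} (h : (i : ZMod 3) = j) : ζ ^ i = ζ ^ j := by
  rw [pow_eq_pow_mod i h3, pow_eq_pow_mod j h3, (ZMod.natCast_eq_natCast_iff _ _ _).1 h]

theorem fam_of (σ : Representation F G (I27 → F)) {S T a z : G} {ζ : F} (h3 : ζ ^ 3 = 1) (hz : ∀ v, σ z v = ζ • v)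
    (h5 : S ^ 5 = 1) (n : Fin 21 → ℕ) (hn : ∀ p, wv S T a (1 :: bw p) = wv S T a (bw (tp p) ++ ww p) * z ^ n p)
    {c : ℕ} (hc : ∀ p, ((n p : ℕ) : ZMod 3) = (nt p : ZMod 3) * (c : ZMod 3)) {w : F} (hw : ζ ^ c = w)
    (v : I27 → F) (hvS : σ S v = v) (hva : σ a v = v) : ∃ f : Fin 21 → I27 → F, f 0 = v ∧ Fam w σ S T f := by
  refine ⟨fun p => σ (wv S T a (bw p)) v, ?_, ?_, ?_⟩
  · change σ (wv S T a []) v = v
    rw [wv_nil, map_one]; rfl
  · exact fun p => fam_s σ h5 hvS p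
  · intro p
    have h1 := fam_t σ hz n hn hvS hva p
    have h2 : ζ ^ n p = w ^ nt p := by
      rw [← hw, ← pow_mul]
      apply pow_congr h3
      rw [hc p]
      push_cast
      ring
    rw [← h2]
    exact h1

end fam

section main

variable {F : Type u} [Field F] [Finite F] {φ : ↥(alternatingGroup (Fin 7)) →* ↥(chevE6.group F)}

theorem ad_wv {S T a : ↥(Zgrp F)} (h : Lifts φ S T a) (l : List (Fin 3)) : ad F (wv S T a l) = φ (wv s7 t7 a7 l) := by
  rw [map_wv, map_wv, h.adS, h.adT, h.ada]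

/-- relations up to the centre -/
theorem rel {S T a : ↥(Zgrp F)} (h : Lifts φ S T a) {ω : Fˣ} (h1 : ω ≠ 1) (h3 : ω ^ 3 = 1) {z : ↥(Zgrp F)}
    (hz : (z : GL I27 F) = scal ω) {l m : List (Fin 3)} (hlm : wv ps pt pa l = wv ps pt pa m) :
    ∃ n : ℕ, wv S T a l = wv S T a m * z ^ n := by
  obtain ⟨w, hw, hlw, -⟩ := eq_mul_of_ad (x := wv S T a l) (y := wv S T a m) (by rw [ad_wv h, ad_wv h, alt_eq hlm])
  have hz3 := Cov.ker_pow (Cov.ad_scal h3 hz)
  rcases Cov.ker_cases h1 h3 hz hw with rfl | rfl | rfl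
  · exact ⟨0, by rw [hlw, pow_zero]⟩
  · exact ⟨1, by rw [hlw, pow_one]⟩
  · refine ⟨2, ?_⟩
    rw [hlw]
    congr 1
    rw [inv_eq_iff_mul_eq_one, ← pow_succ', hz3]

theorem z_V {ω : Fˣ} {z : ↥(Zgrp F)} (hz : (z : GL I27 F) = scal ω) (x : I27 → F) : V F z x = (ω : F) • x := by
  rw [V_apply, hz, Act.coe_scal, Matrix.smul_mulVec, Matrix.one_mulVec]

theorem z_V' {ω : Fˣ} {z : ↥(Zgrp F)} (hz : (z : GL I27 F) = scal ω) (x : I27 → F) :
    V' F z x = (ω : F)⁻¹ • x := by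
  have h2 : ∀ y, Cfsg.Agent.H952.F4.tf (V' F z x - (ω : F)⁻¹ • x) y = 0 := by
    intro y
    have h3 := Act.tf_act z ((ω : F)⁻¹ • y) x
    rw [map_smul, z_V hz, smul_smul, inv_mul_cancel₀ ω.ne_zero, one_smul] at h3
    rw [sub_eq_add_neg, H952.F4.Jord.tf_add_left, ← neg_one_smul F ((ω : F)⁻¹ • x), H952.F4.Jord.tf_smul_left,
      H952.F4.Jord.tf_smul_left, H952.F4.Jord.tf_comm (V' F z x), h3, H952.F4.Jord.tf_smul_left,
      H952.F4.Jord.tf_comm x]
    ring
  exact sub_eq_zero.1 (H952.F4.Jord.tf_nondeg h2)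

/-- the word of the commutator of `T` and the lift of `(3 4 5)` -/
def cw : List (Fin 3) := [1] ++ y345 ++ [1, 1] ++ y345 ++ y345

/-- the word `T S T⁻¹ S⁻¹ T` -/
def aw : List (Fin 3) := [1, 0, 1, 1, 0, 0, 0, 0, 1]

theorem perm_aw : wv ps pt pa aw = wv ps pt pa [2] := by decide +kernel

/-- `(3 4 5)` -/
def b7 : ↥(alternatingGroup (Fin 7)) := ⟨swap (3 : Fin 7) 4 * swap (4 : Fin 7) 5, Perm.mem_alternatingGroup.2 (by decide)⟩

theorem b7_eq : wv s7 t7 a7 y345 = b7 := by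
  apply Subtype.ext
  exact (map_wv s7 t7 a7 (alternatingGroup (Fin 7)).subtype y345).trans perm_y

theorem b7_pow : b7 ^ 3 = 1 := Subtype.ext (by decide +kernel)
theorem b7_ne : b7 ≠ 1 := fun h => absurd (congrArg Subtype.val h) (by decide +kernel)

/-- the commutator is not trivial -/
theorem comm_eq (hi : Function.Injective φ) {ω : Fˣ} (hc : Cover φ ω) {z : ↥(Zgrp F)}
    (hz : (z : GL I27 F) = scal ω) {S T a : ↥(Zgrp F)} (h : Lifts φ S T a) :
    ∃ c : ℕ, (c : ZMod 3) ≠ 0 ∧ wv S T a cw = z ^ c := by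
  have hT : (t7 : Perm (Fin 7)).cycleType = {3} := by
    have h1 : Perm.IsThreeCycle (swap (1 : Fin 7) 0 * swap (1 : Fin 7) 2) :=
      Perm.isThreeCycle_swap_mul_swap_same (by decide) (by decide) (by decide)
    have h2 : (t7 : Perm (Fin 7)) = swap (1 : Fin 7) 0 * swap (1 : Fin 7) 2 := by decide +kernel
    rw [h2]; exact h1
  have hb : (b7 : Perm (Fin 7)).cycleType = {3} := by
    have h1 : Perm.IsThreeCycle (swap (4 : Fin 7) 3 * swap (4 : Fin 7) 5) :=
      Perm.isThreeCycle_swap_mul_swap_same (by decide) (by decide) (by decide)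
    have h2 : (b7 : Perm (Fin 7)) = swap (4 : Fin 7) 3 * swap (4 : Fin 7) 5 := by decide +kernel
    rw [h2]; exact h1
  have hd : (t7 : Perm (Fin 7)).Disjoint b7 := by
    intro i
    revert i
    decide +kernel
  have hy : ad F (wv S T a y345) = φ b7 := by rw [ad_wv h, b7_eq]
  have hy3 : wv S T a y345 ^ 3 = 1 := (Cov.type_thirty (Or.inr rfl) hi hc (orderOf_eq_prime b7_pow b7_ne) hy).1
  have hz3 := Cov.ker_pow (Cov.ad_scal hc.2.1 hz)
  have e1 : wv S T a cw = T * wv S T a y345 * T⁻¹ * (wv S T a y345)⁻¹ := by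
    have h1 : wv S T a [1] = T := mul_one T
    have h2 : wv S T a [1, 1] = T⁻¹ := by
      change T * (T * 1) = T⁻¹
      rw [mul_one, eq_inv_iff_mul_eq_one, ← h.T3, pow_succ, pow_two]
    have h3 : wv S T a y345 * wv S T a y345 = (wv S T a y345)⁻¹ := by
      rw [eq_inv_iff_mul_eq_one, ← hy3, pow_succ, pow_two]
    simp only [cw, wv_append, wv_append, wv_append, wv_append, h1, h2, ← h3]
    simp only [mul_assoc]
  rcases Cov.not_comm (Or.inr rfl) hi hc hT hb hd h.adT hy with hh | hh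
  · refine ⟨1, by decide, ?_⟩
    rw [e1, pow_one]
    exact Subtype.ext (by rw [hh.2, hz])
  · refine ⟨2, by decide, ?_⟩
    rw [e1]
    have h4 : z ^ 2 = z⁻¹ := by rw [eq_inv_iff_mul_eq_one, ← pow_succ, hz3]
    rw [h4]
    exact Subtype.ext (by rw [hh.2, Subgroup.coe_inv, hz, Cov.scal_inv])

/-- **A1**: the families -/
theorem exists_fam (hi : Function.Injective φ) {ω : Fˣ} (hc : Cover φ ω) {S T a : ↥(Zgrp F)} (h : Lifts φ S T a)
    (hX : X (V F) S a ≠ ⊥ ∨ X (V' F) S a ≠ ⊥) :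
    ∃ w : F, (w = (ω : F) ∨ w = (ω : F)⁻¹) ∧
      (∀ v, V F (T * S * T⁻¹ * S⁻¹ * T) v = w • V F a v) ∧
      (∀ v, V' F (T * S * T⁻¹ * S⁻¹ * T) v = w ^ 2 • V' F a v) ∧
      (∀ v, V F S v = v → V F a v = v → ∃ f : Fin 21 → I27 → F, f 0 = v ∧ Fam w (V F) S T f) ∧
      (∀ v, V' F S v = v → V' F a v = v → ∃ f : Fin 21 → I27 → F, f 0 = v ∧ Fam (w ^ 2) (V' F) S T f) := by
  obtain ⟨h1, h3, z, hz, -⟩ := id hc
  have hω1 : (ω : F) ≠ 1 := fun h0 => h1 (Units.ext h0)
  have hω3 : (ω : F) ^ 3 = 1 := by rw [← Units.val_pow_eq_pow_val, h3, Units.val_one]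
  have hω0 : (ω : F) ≠ 0 := ω.ne_zero
  have hi1 : (ω : F)⁻¹ ≠ 1 := fun h0 => hω1 (inv_eq_one.1 h0)
  have hi3 : (ω : F)⁻¹ ^ 3 = 1 := by rw [inv_pow, hω3, inv_one]
  choose n hn using fun p => rel h h1 h3 hz (perm_key p)
  obtain ⟨c1, hc1⟩ := rel h h1 h3 hz perm_r1
  obtain ⟨c2, hc2⟩ := rel h h1 h3 hz perm_r2
  rw [wv_nil, one_mul] at hc1 hc2
  obtain ⟨c, hc0, hcw⟩ := comm_eq hi hc hz h
  obtain ⟨m, hm⟩ := rel h h1 h3 hz perm_aw
  -- everything is determined on one vector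
  have key : ∀ (σ : Representation F ↥(Zgrp F) (I27 → F)) (ζ : F), ζ ≠ 1 → ζ ^ 3 = 1 → (∀ v, σ z v = ζ • v) →
      X σ S a ≠ ⊥ → (∀ p, ((n p : ℕ) : ZMod 3) = (nt p : ZMod 3) * (c1 : ZMod 3)) ∧ (c1 : ZMod 3) ≠ 0 ∧
        (m : ZMod 3) = c1 := by
    intro σ ζ hζ1 hζ3 hσz hXσ
    obtain ⟨v, hv, hv0⟩ := (Submodule.ne_bot_iff _).1 hXσ
    have hvS : σ S v = v := by
      have := (Submodule.mem_inf.1 hv).1
      simpa only [Cfsg.Agent.H952.F4.es, sub_eq_zero, _root_.Module.End.mem_genEigenspace_one, _root_.one_smul] using this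
    have hva : σ a v = v := by
      have := (Submodule.mem_inf.1 hv).2
      simpa only [Cfsg.Agent.H952.F4.es, sub_eq_zero, _root_.Module.End.mem_genEigenspace_one, _root_.one_smul] using this
    have hcore := core σ hσz h.S5 n hn hvS hva hζ1 hζ3 hv0 h.T3 h.ST7 hc1 hc2
    have q1 := req σ hσz h.S5 n hn hvS hva hζ1 hζ3 hv0 (l := cw) (by decide +kernel) hcw 0
      [1, 6, 0, 1, 16, 8, 2, 6, 0, 1, 6, 5, 11, 7, 0, 1, 6, 5, 11, 7, 0] (by decide +kernel)
    have q2 := word_act σ hσz h.S5 n hn hvS hva aw (by decide +kernel) 0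
    rw [hm, show exl aw 0 = ([1, 15, 10, 0], 0) by decide +kernel] at q2
    have e0 : σ (wv S T a (bw 0)) v = v := by
      change σ (wv S T a []) v = v
      rw [wv_nil, map_one]; rfl
    have e2 : wv S T a [2] = a := mul_one a
    rw [e0, e2, map_mul, Module.End.mul_apply, z_pow σ hσz, map_smul, hva] at q2
    have q3 := smul_cancel hv0 hζ1 hζ3 q2
    simp only [List.map_cons, List.map_nil, List.sum_cons, List.sum_nil, Nat.cast_add, add_zero,
      hcore] at q1 q3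
    refine ⟨hcore, ?_, ?_⟩
    · intro h0
      apply hc0
      rw [← q1, h0]
      simp
    · rw [q3]
      have e3 : ((nt 1 : ℕ) : ZMod 3) = 0 := by decide
      have e4 : ((nt 15 : ℕ) : ZMod 3) = 1 := by decide
      have e5 : ((nt 10 : ℕ) : ZMod 3) = 0 := by decide
      have e6 : ((nt 0 : ℕ) : ZMod 3) = 0 := by decide
      rw [e3, e4, e5, e6]
      ring
  obtain ⟨k1, k2, k3⟩ : (∀ p, ((n p : ℕ) : ZMod 3) = (nt p : ZMod 3) * (c1 : ZMod 3)) ∧ (c1 : ZMod 3) ≠ 0 ∧
      (m : ZMod 3) = c1 := by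
    rcases hX with hX | hX
    · exact key (V F) ω hω1 hω3 (z_V hz) hX
    · exact key (V' F) (ω : F)⁻¹ hi1 hi3 (z_V' hz) hX
  have haw : wv S T a aw = T * S * T⁻¹ * S⁻¹ * T := by
    have hT2 : T * T = T⁻¹ := by rw [eq_inv_iff_mul_eq_one, ← h.T3, pow_succ, pow_two]
    have hS4 : S * S * S * S = S⁻¹ := by
      rw [eq_inv_iff_mul_eq_one, ← h.S5]; simp only [pow_succ, pow_zero, one_mul]
    rw [← hT2, ← hS4]
    change T * (S * (T * (T * (S * (S * (S * (S * (T * 1)))))))) = _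
    simp only [mul_assoc, mul_one]
  have hm' : T * S * T⁻¹ * S⁻¹ * T = a * z ^ m := by
    rw [← haw, hm]
    (with_reducible congr 1)
    exact mul_one a
  have hinv : (ω : F)⁻¹ ^ c1 = ((ω : F) ^ c1) ^ 2 := by
    rw [inv_pow]
    refine inv_eq_of_mul_eq_one_right ?_
    rw [← pow_succ', ← pow_mul, mul_comm c1, pow_mul, hω3, one_pow]
  refine ⟨(ω : F) ^ c1, ?_, ?_, ?_, ?_, ?_⟩
  · have hc : (c1 : ZMod 3) = 1 ∨ (c1 : ZMod 3) = 2 := by
      generalize (c1 : ZMod 3) = x at k2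
      revert x
      decide
    rcases hc with hc | hc
    · left
      exact (pow_congr hω3 (j := 1) (by rw [hc]; rfl)).trans (pow_one _)
    · right
      refine eq_inv_of_mul_eq_one_left ?_
      rw [pow_congr hω3 (i := c1) (j := 2) (by rw [hc]; rfl), ← pow_succ, hω3]
  · intro v
    rw [hm', map_mul, Module.End.mul_apply, z_pow (V F) (z_V hz), map_smul, pow_congr hω3 k3]
  · intro v
    rw [hm', map_mul, Module.End.mul_apply, z_pow (V' F) (z_V' hz), map_smul, pow_congr hi3 k3, hinv]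
  · intro v hvS hva
    exact fam_of (V F) hω3 (z_V hz) h.S5 n hn k1 rfl v hvS hva
  · intro v hvS hva
    exact fam_of (V' F) hi3 (z_V' hz) h.S5 n hn k1 hinv v hvS hva

end main

end Cfsg.Agent.H16.S7
end

-- part: H251/S7Num
section
/-!
# S5927, the threefold cover of `A₇`, characteristic 2: the numerical part (helper251; plan of helper952)
-/

set_option autoImplicit false

namespace Cfsg.Agent.H251.S7

open Cfsg Cfsg.Lie Module Equiv
open Cfsg.Agent.ChevalleyStructure.E6Min.Tables Cfsg.Agent.ChevalleyStructure.E6Min.Basic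
  Cfsg.Agent.ChevalleyStructure.E6Min.Adjoint
open Cfsg.Agent.H952.F4 (ev es sh cr tf)
open Cfsg.Agent.H163.E6
open Cfsg.Agent.H905.E6T (PD)
open Cfsg.Agent.H952.S7 (X VD yw)

universe u

/-! ### linear algebra -/

section Lin

variable {F M : Type*} [Field F] [AddCommGroup M] [Module F M] [FiniteDimensional F M]

omit [FiniteDimensional F M] in
theorem add2 (h2 : (2 : F) = 0) (v : M) : v + v = 0 := by
  rw [← two_smul F v, h2, zero_smul]

/-- an involution fixes at least half of a stable subspace, characteristic 2 -/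
theorem half_fix (h2 : (2 : F) = 0) {τ : Module.End F M} (hτ : ∀ v, τ (τ v) = v) {W : Submodule F M}
    (hW : ∀ w ∈ W, τ w ∈ W) : finrank F W ≤ 2 * finrank F ↥(W ⊓ es τ 1) := by
  let f : W →ₗ[F] M := (τ + 1).domRestrict W
  have hf : ∀ w : W, f w = τ w + w := fun w => rfl
  have hr : LinearMap.range f ≤ W ⊓ es τ 1 := by
    rintro _ ⟨w, rfl⟩
    rw [hf]
    refine ⟨W.add_mem (hW _ w.2) w.2, ?_⟩
    show _ ∈ Module.End.eigenspace τ 1
    rw [Module.End.mem_eigenspace_iff, map_add, hτ, one_smul, add_comm]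
  have hk : finrank F ↥(LinearMap.ker f) ≤ finrank F ↥(W ⊓ es τ 1) := by
    let g : LinearMap.ker f →ₗ[F] ↥(W ⊓ es τ 1) :=
      { toFun := fun w => ⟨((w : W) : M), (w : W).2, by
          show _ ∈ Module.End.eigenspace τ 1
          have h := LinearMap.mem_ker.1 w.2
          rw [hf] at h
          rw [Module.End.mem_eigenspace_iff, one_smul]
          have h3 : τ ((w : W) : M) = (τ ((w : W) : M) + ((w : W) : M)) + ((w : W) : M) := by
            rw [add_assoc, add2 h2, add_zero]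
          rw [h3, h, zero_add]⟩
        map_add' := fun a b => rfl
        map_smul' := fun c a => rfl }
    refine LinearMap.finrank_le_finrank_of_injective (f := g) fun a b hab => ?_
    exact Subtype.ext (Subtype.ext (congrArg (fun q : ↥(W ⊓ es τ 1) => (q : M)) hab))
  have h1 := LinearMap.finrank_range_add_finrank_ker f
  have h3 := Submodule.finrank_mono hr
  omega

/-- the dimension of a subspace stable under two automorphisms which commute up to a scalar of order 3 -/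
theorem three_dvd {G : Type*} [Group G] {ρ : Representation F G M} {x y : G} {ω : F} (h1 : ω ≠ 1) (h3 : ω ^ 3 = 1)
    (hc : ∀ v, ρ x (ρ y v) = ω • ρ y (ρ x v)) {W : Submodule F M}
    (hx : ∀ w ∈ W, ρ x w ∈ W) (hx' : ∀ w ∈ W, ρ x⁻¹ w ∈ W) (hy : ∀ w ∈ W, ρ y w ∈ W) (hy' : ∀ w ∈ W, ρ y⁻¹ w ∈ W) :
    3 ∣ finrank F W := by
  have hd : ∀ (g : G) (hg : ∀ w ∈ W, ρ g w ∈ W) (_ : ∀ w ∈ W, ρ g⁻¹ w ∈ W),
      LinearMap.det ((ρ g).restrict hg) ≠ 0 := by
    intro g hg hg'
    have e : (ρ g).restrict hg * (ρ g⁻¹).restrict hg' = 1 := by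
      refine LinearMap.ext fun w => Subtype.ext ?_
      show ρ g (ρ g⁻¹ w) = w
      rw [← Module.End.mul_apply, ← map_mul, mul_inv_cancel, map_one, Module.End.one_apply]
    have e2 := congrArg LinearMap.det e
    rw [map_mul, map_one] at e2
    exact left_ne_zero_of_mul_eq_one e2
  have hA := hd x hx hx'
  have hB := hd y hy hy'
  have e1 : (ρ x).restrict hx * (ρ y).restrict hy = ω • ((ρ y).restrict hy * (ρ x).restrict hx) := by
    refine LinearMap.ext fun w => Subtype.ext ?_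
    show ρ x (ρ y w) = ω • ρ y (ρ x w)
    exact hc w
  have e2 := congrArg LinearMap.det e1
  rw [map_mul, LinearMap.det_smul, map_mul] at e2
  have e3 : ω ^ finrank F W = 1 := by
    have e4 : (LinearMap.det ((ρ x).restrict hx) * LinearMap.det ((ρ y).restrict hy)) * (ω ^ finrank F W - 1) = 0 := by
      linear_combination -e2
    exact sub_eq_zero.1 ((mul_eq_zero.1 e4).resolve_left (mul_ne_zero hA hB))
  have e5 : orderOf ω = 3 := orderOf_eq_prime h3 h1
  rw [← e5]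
  exact orderOf_dvd_of_pow_eq_one e3

/-- the vectors fixed by a group of order 21 -/
theorem fix21 {G : Type*} [Group G] (ρ : Representation F G M) (h2 : (2 : F) = 0) {c y : G} (hc : c ^ 7 = 1)
    (hy : y ^ 3 = 1) (hyc : y * c = c ^ 2 * y) :
    3 * finrank F ↥(es (ρ c) 1 ⊓ es (ρ y) 1) + finrank F M ≤ 3 * ev (ρ y) 1 + ev (ρ c) 1 := by
  have hm : ∀ g h v, ρ g (ρ h v) = ρ (g * h) v := fun g h v => by rw [map_mul, Module.End.mul_apply]
  have e8 : c ^ 8 = c := by rw [pow_succ, hc, one_mul]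
  have hyp : ∀ k : ℕ, y * c ^ k = c ^ (2 * k) * y := by
    intro k
    induction k with
    | zero => simp
    | succ k ih =>
      rw [pow_succ, ← mul_assoc, ih, mul_assoc, hyc, ← mul_assoc, ← pow_add]
      congr 2
  have hcm : ∀ n : ℕ, c ^ n = c ^ (n % 7) := by
    intro n
    conv_lhs => rw [← Nat.div_add_mod n 7, pow_add, pow_mul, hc, one_pow, one_mul]
  let N : Module.End F M := ρ 1 + ρ (c ^ 1) + ρ (c ^ 2) + ρ (c ^ 3) + ρ (c ^ 4) + ρ (c ^ 5) + ρ (c ^ 6)
  have hN : ∀ v, N v = ρ 1 v + ρ (c ^ 1) v + ρ (c ^ 2) v + ρ (c ^ 3) v + ρ (c ^ 4) v + ρ (c ^ 5) v + ρ (c ^ 6) v :=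
    fun v => rfl
  have hone : ∀ v, ρ 1 v = v := fun v => by rw [map_one, Module.End.one_apply]
  have hcN : ∀ v, ρ c (N v) = N v := by
    intro v
    simp only [hN, map_add, hm]
    have e0 : c * 1 = c ^ 1 := by rw [mul_one, pow_one]
    have ek : ∀ k : ℕ, c * c ^ k = c ^ (k + 1) := fun k => (pow_succ' c k).symm
    rw [e0, ek, ek, ek, ek, ek, ek]
    norm_num only
    rw [hc]
    abel
  have hNc : ∀ v, N (ρ c v) = N v := by
    intro v
    simp only [hN, hm]
    have e0 : 1 * c = c ^ 1 := by rw [one_mul, pow_one]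
    have ek : ∀ k : ℕ, c ^ k * c = c ^ (k + 1) := fun k => (pow_succ c k).symm
    rw [e0, ek, ek, ek, ek, ek, ek]
    norm_num only
    rw [hc]
    abel
  have hyN : ∀ v, ρ y (N v) = N (ρ y v) := by
    intro v
    simp only [hN, map_add, hm]
    rw [mul_one, one_mul, hyp, hyp, hyp, hyp, hyp, hyp, hcm (2 * 4), hcm (2 * 5), hcm (2 * 6)]
    norm_num only
    abel
  have hfix : ∀ v, ρ c v = v → N v = v := by
    intro v hv
    have hk : ∀ k : ℕ, ρ (c ^ k) v = v := by
      intro k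
      induction k with
      | zero => rw [pow_zero, hone]
      | succ k ih => rw [pow_succ, ← hm, hv, ih]
    rw [hN, hone, hk, hk, hk, hk, hk, hk, add2 h2, zero_add, add2 h2, zero_add, add2 h2, zero_add]
  set! U := LinearMap.ker N with hU
  set! W := U ⊓ es (ρ y) 1 with hW
  have hUc : ∀ u ∈ U, ρ c u ∈ U := fun u hu => by
    rw [hU, LinearMap.mem_ker] at hu ⊢
    rw [hNc, hu]
  have hUy : ∀ u ∈ U, ρ y u ∈ U := fun u hu => by
    rw [hU, LinearMap.mem_ker] at hu ⊢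
    rw [← hyN, hu, map_zero]
  -- the first inequality
  have q1 : finrank F ↥(es (ρ c) 1 ⊓ es (ρ y) 1) + finrank F W ≤ ev (ρ y) 1 := by
    have hd : (es (ρ c) 1 ⊓ es (ρ y) 1) ⊓ W = ⊥ := by
      rw [eq_bot_iff]
      rintro v ⟨⟨hv1, -⟩, hv2, -⟩
      have h1 := Module.End.mem_eigenspace_iff.1 hv1
      rw [one_smul] at h1
      have h3 := hfix v h1
      rw [LinearMap.mem_ker.1 hv2] at h3
      rw [Submodule.mem_bot, ← h3]
    have h3 := Submodule.finrank_sup_add_finrank_inf_eq (es (ρ c) 1 ⊓ es (ρ y) 1) W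
    rw [hd, finrank_bot, add_zero] at h3
    rw [← h3]
    exact Submodule.finrank_mono (sup_le inf_le_right inf_le_right)
  -- the second inequality
  have q2 : finrank F M ≤ finrank F U + ev (ρ c) 1 := by
    have h1 := LinearMap.finrank_range_add_finrank_ker N
    have h3 : LinearMap.range N ≤ Module.End.eigenspace (ρ c) 1 := by
      rintro _ ⟨v, rfl⟩
      rw [Module.End.mem_eigenspace_iff, one_smul, hcN]
    have h4 := Submodule.finrank_mono h3
    have h5 : ev (ρ c) 1 = finrank F ↥(Module.End.eigenspace (ρ c) 1) := rfl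
    rw [← hU] at h1
    omega
  -- the third inequality
  have q3 : finrank F U ≤ 3 * finrank F W := by
    have hTr : ∀ u ∈ U, u + ρ y u + ρ y (ρ y u) ∈ W := by
      intro u hu
      refine ⟨U.add_mem (U.add_mem hu (hUy u hu)) (hUy _ (hUy u hu)), ?_⟩
      show _ ∈ Module.End.eigenspace (ρ y) 1
      rw [Module.End.mem_eigenspace_iff, one_smul, map_add, map_add]
      have h1 : ρ y (ρ y (ρ y u)) = u := by
        rw [hm, hm, show y * y * y = y ^ 3 by simp only [pow_succ, pow_zero, one_mul], hy, hone]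
      rw [h1]
      abel
    let Tr : U →ₗ[F] W :=
      { toFun := fun u => ⟨(u : M) + ρ y u + ρ y (ρ y u), hTr u u.2⟩
        map_add' := fun a b => Subtype.ext (by
          show ((a + b : U) : M) + ρ y ((a + b : U) : M) + ρ y (ρ y ((a + b : U) : M)) =
            ((a : M) + ρ y a + ρ y (ρ y a)) + ((b : M) + ρ y b + ρ y (ρ y b))
          rw [Submodule.coe_add, map_add, map_add]
          abel)
        map_smul' := fun r a => Subtype.ext (by
          show ((r • a : U) : M) + ρ y ((r • a : U) : M) + ρ y (ρ y ((r • a : U) : M)) =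
            r • ((a : M) + ρ y a + ρ y (ρ y a))
          rw [Submodule.coe_smul, map_smul, map_smul, smul_add, smul_add]) }
    let C : U →ₗ[F] U := (ρ c).restrict hUc
    let Θ : U →ₗ[F] (W × W) × W := (Tr.prod (Tr.comp C)).prod (Tr.comp (C.comp C))
    have hinj : Function.Injective Θ := by
      rw [← LinearMap.ker_eq_bot, eq_bot_iff]
      rintro ⟨a, ha⟩ h
      rw [Submodule.mem_bot]
      apply Subtype.ext
      show a = 0
      have h0 : Θ ⟨a, ha⟩ = 0 := h
      have t1 : a + ρ y a + ρ y (ρ y a) = 0 := congrArg (fun q : (W × W) × W => ((q.1.1 : W) : M)) h0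
      have t2 : ρ c a + ρ y (ρ c a) + ρ y (ρ y (ρ c a)) = 0 := congrArg (fun q : (W × W) × W => ((q.1.2 : W) : M)) h0
      have t3 : ρ c (ρ c a) + ρ y (ρ c (ρ c a)) + ρ y (ρ y (ρ c (ρ c a))) = 0 :=
        congrArg (fun q : (W × W) × W => ((q.2 : W) : M)) h0
      have hNa : N a = 0 := ha
      rw [hN] at hNa
      -- normal form
      have r1 : ∀ v, ρ y (ρ c v) = ρ (c ^ 2) (ρ y v) := fun v => by rw [hm, hyc, hm]
      have r2 : ∀ v (k : ℕ), ρ y (ρ (c ^ k) v) = ρ (c ^ (2 * k)) (ρ y v) := fun v k => by rw [hm, hyp, hm]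
      have hd : ρ y (ρ y a) = a + ρ y a := by
        have : ρ y (ρ y a) = (a + ρ y a + ρ y (ρ y a)) + (a + ρ y a) := by
          have := add2 (F := F) h2 (a + ρ y a)
          calc ρ y (ρ y a) = ρ y (ρ y a) + 0 := (add_zero _).symm
            _ = ρ y (ρ y a) + ((a + ρ y a) + (a + ρ y a)) := by rw [this]
            _ = _ := by abel
        rw [this, t1, zero_add]
      have E1 : ρ (c ^ 1) a + ρ (c ^ 2) (ρ y a) + ρ (c ^ 4) (a + ρ y a) = 0 := by
        rw [← hd, ← t2, r1, r2, pow_one]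
      have E2 : ρ (c ^ 2) a + ρ (c ^ 4) (ρ y a) + ρ (c ^ 1) (a + ρ y a) = 0 := by
        have h5 : ρ c (ρ c a) = ρ (c ^ 2) a := by rw [hm, pow_two]
        rw [← hd, ← t3, h5, r2, r2, hcm (2 * (2 * 2))]
      have X1 := congrArg (ρ (c ^ 4)) E1
      have X2 := congrArg (ρ (c ^ 1)) E1
      have X3 := congrArg (ρ (c ^ 2)) E2
      have X4 := congrArg (ρ (c ^ 4)) E2
      simp only [map_add, map_zero, hm, ← pow_add, ← mul_assoc] at X1 X2 X3 X4
      rw [hcm (4 + 4)] at X1 X4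
      norm_num only at X1 X2 X3 X4
      rw [hone] at hNa
      simp only [pow_one] at X1 X2 X3 X4 hNa
      have key : a = (a + ρ c a + ρ (c ^ 2) a + ρ (c ^ 3) a + ρ (c ^ 4) a + ρ (c ^ 5) a + ρ (c ^ 6) a) +
          ((ρ (c ^ 5) a + ρ (c ^ 6 * y) a + (ρ c a + ρ (c * y) a)) +
          (ρ (c ^ 2) a + ρ (c ^ 3 * y) a + (ρ (c ^ 5) a + ρ (c ^ 5 * y) a)) +
          (ρ (c ^ 4) a + ρ (c ^ 6 * y) a + (ρ (c ^ 3) a + ρ (c ^ 3 * y) a)) +
          (ρ (c ^ 6) a + ρ (c * y) a + (ρ (c ^ 5) a + ρ (c ^ 5 * y) a))) -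
          (2 : F) • (ρ c a + ρ (c ^ 2) a + ρ (c ^ 3) a + ρ (c ^ 4) a + (2 : F) • ρ (c ^ 5) a + ρ (c ^ 6) a +
            ρ (c ^ 6 * y) a + ρ (c * y) a + ρ (c ^ 3 * y) a + ρ (c ^ 5 * y) a) := by module
      rw [hNa, h2, zero_smul, sub_zero, zero_add] at key
      rw [key, X1, X2, X3, X4]
      simp
    have h5 := LinearMap.finrank_le_finrank_of_injective hinj
    rw [finrank_prod, finrank_prod] at h5
    omega
  omega

end Lin

/-! ### elements of `A₇` -/

abbrev A7 : Type := ↥(alternatingGroup (Fin 7))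

def s7 : A7 := ⟨c[(2 : Fin 7), 3, 4, 5, 6], by rw [Equiv.Perm.mem_alternatingGroup]; decide⟩
def t7 : A7 := ⟨c[(0 : Fin 7), 1, 2], by rw [Equiv.Perm.mem_alternatingGroup]; decide⟩
/-- an involution generating `A₇` together with `s7 * t7` -/
def p7 : A7 := ⟨c[(2 : Fin 7), 3] * c[(4 : Fin 7), 6], by rw [Equiv.Perm.mem_alternatingGroup]; decide⟩
/-- `r7` conjugates `s7` to its square -/
def r7 : A7 := ⟨c[(3 : Fin 7), 4, 6, 5] * c[(0 : Fin 7), 1], by rw [Equiv.Perm.mem_alternatingGroup]; decide⟩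
/-- a 3-cycle disjoint from `t7` -/
def u7 : A7 := ⟨c[(3 : Fin 7), 4, 5], by rw [Equiv.Perm.mem_alternatingGroup]; decide⟩

theorem r7_s7 : r7 * s7 * r7⁻¹ = s7 ^ 2 := by decide +kernel
theorem s7_ne : s7 ≠ 1 := by decide +kernel
theorem c7_ne : s7 * t7 ≠ 1 := by decide +kernel
theorem p7_sq : p7 * p7 = 1 := by decide +kernel
theorem g7_six : (p7 * (s7 * t7)) ^ 6 = 1 := by decide +kernel
theorem g7_ord : orderOf ((p7 * (s7 * t7)) ^ 4) = 3 :=
  orderOf_eq_prime (by decide +kernel) (by decide +kernel)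
theorem yw7_ord : orderOf (yw s7 t7) = 3 := orderOf_eq_prime (by decide +kernel) (by decide +kernel)

theorem closure_top {x y : A7} (h : ∀ k : Fin 7, k ≠ 0 → ∃ l : List (Fin 4),
    (((l.map (![x, x⁻¹, y, y⁻¹] : Fin 4 → A7)).prod : A7) : Perm (Fin 7)) = swap (0 : Fin 7) 1 * swap 0 k) :
    Subgroup.closure {x, y} = ⊤ := by
  have hx : x ∈ Subgroup.closure {x, y} := Subgroup.subset_closure (by simp)
  have hy : y ∈ Subgroup.closure {x, y} := Subgroup.subset_closure (by simp)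
  rw [eq_top_iff]
  intro g _
  have hstar : ∀ k : Fin 7, k ≠ 0 →
      swap (0 : Fin 7) 1 * swap 0 k ∈ (Subgroup.closure {x, y}).map (alternatingGroup (Fin 7)).subtype := by
    intro k hk
    obtain ⟨l, hl⟩ := h k hk
    rw [← hl]
    refine ⟨(l.map (![x, x⁻¹, y, y⁻¹] : Fin 4 → A7)).prod, Subgroup.list_prod_mem _ fun a ha => ?_, rfl⟩
    obtain ⟨i, -, rfl⟩ := List.mem_map.1 ha
    fin_cases i
    · exact hx
    · exact Subgroup.inv_mem _ hx
    · exact hy
    · exact Subgroup.inv_mem _ hy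
  obtain ⟨a, ha, ha'⟩ := H952.F4.Gen.mem_of_star (n := 5)
    ((Subgroup.closure {x, y}).map (alternatingGroup (Fin 7)).subtype) (by
      rintro _ ⟨a, -, rfl⟩
      exact a.2) hstar g.2
  have : a = g := Subtype.ext ha'
  rw [← this]
  exact ha

theorem gen_st : Subgroup.closure {s7, t7} = ⊤ := by
  refine closure_top fun k hk => ?_
  fin_cases k
  · exact absurd rfl hk
  · exact ⟨[], by decide +kernel⟩
  · exact ⟨[3], by decide +kernel⟩
  · exact ⟨[0, 3, 1], by decide +kernel⟩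
  · exact ⟨[0, 0, 3, 1, 1], by decide +kernel⟩
  · exact ⟨[1, 1, 3, 0, 0], by decide +kernel⟩
  · exact ⟨[1, 3, 0], by decide +kernel⟩

theorem gen_pc : Subgroup.closure {p7, s7 * t7} = ⊤ := by
  refine closure_top fun k hk => ?_
  fin_cases k
  · exact absurd rfl hk
  · exact ⟨[], by decide +kernel⟩
  · exact ⟨[0, 2, 0, 2], by decide +kernel⟩
  · exact ⟨[2, 0, 2, 0], by decide +kernel⟩
  · exact ⟨[2, 0, 3, 0, 3, 0, 2, 0], by decide +kernel⟩
  · exact ⟨[2, 0, 3, 0, 2, 2, 0, 3, 0, 2], by decide +kernel⟩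
  · exact ⟨[0, 2, 0, 3, 0, 3, 0, 2], by decide +kernel⟩

/-! ### lifts -/

section Grp

variable {F : Type u} [Field F] [Finite F] {φ : A7 →* ↥(chevE6.group F)}

omit [Finite F] in
/-- a subgroup generated by lifts of generators -/
theorem exists_lift {x y : ↥(Zgrp F)} {x0 y0 : A7} (hx : ad F x = φ x0) (hy : ad F y = φ y0)
    (hg : Subgroup.closure {x0, y0} = ⊤) {g : ↥(Zgrp F)} (hgr : ad F g ∈ φ.range) :
    ∃ k ∈ Subgroup.closure {x, y}, ad F k = ad F g := by
  have h1 : (Subgroup.closure {x, y}).map (ad F) = φ.range := by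
    rw [MonoidHom.map_closure, Set.image_pair, hx, hy, MonoidHom.range_eq_map, ← hg, MonoidHom.map_closure,
      Set.image_pair]
  rw [← h1] at hgr
  exact hgr

theorem z_mem {ω : Fˣ} (hc : Cover φ ω) {x y : ↥(Zgrp F)} {x0 y0 : A7} (hx : ad F x = φ x0) (hy : ad F y = φ y0)
    (hg : Subgroup.closure {x0, y0} = ⊤) : ∃ z ∈ Subgroup.closure {x, y}, (z : GL I27 F) = scal ω := by
  obtain ⟨h1, h3, z, hz, hzm⟩ := hc
  refine ⟨z, ?_, hz⟩
  refine (Subgroup.commutator_le.2 ?_ : ⁅φ.range.comap (ad F), φ.range.comap (ad F)⁆ ≤ Subgroup.closure {x, y}) hzm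
  intro g hg1 h hh1
  obtain ⟨k, hk, hkg⟩ := exists_lift hx hy hg (Subgroup.mem_comap.1 hg1)
  obtain ⟨l, hl, hlh⟩ := exists_lift hx hy hg (Subgroup.mem_comap.1 hh1)
  have e1 : ad F (k⁻¹ * g) = 1 := by rw [map_mul, map_inv, hkg, inv_mul_cancel]
  have e2 : ad F (l⁻¹ * h) = 1 := by rw [map_mul, map_inv, hlh, inv_mul_cancel]
  have c1 := Cov.ker_comm e1
  have c2 := Cov.ker_comm e2
  set! u := k⁻¹ * g with hu; rewrite [← hu] at c1 e1
  set! w := l⁻¹ * h with hw; rewrite [← hw] at c2 e2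
  have eg : g = k * u := by rw [hu, mul_inv_cancel_left]
  have eh : h = l * w := by rw [hw, mul_inv_cancel_left]
  have hcomm : g * h * g⁻¹ * h⁻¹ = k * l * k⁻¹ * l⁻¹ := by
    rw [eg, eh]
    have c1' : ∀ r, u * r = r * u := fun r => (c1 r).symm
    have c2' : ∀ r, w * r = r * w := fun r => (c2 r).symm
    have c1i : ∀ r, u⁻¹ * r = r * u⁻¹ := fun r => by
      rw [inv_mul_eq_iff_eq_mul, ← mul_assoc, c1', mul_inv_cancel_right]
    calc k * u * (l * w) * (k * u)⁻¹ * (l * w)⁻¹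
        = k * (u * l) * w * (u⁻¹ * k⁻¹) * (w⁻¹ * l⁻¹) := by group
      _ = k * (l * u) * w * (k⁻¹ * u⁻¹) * (w⁻¹ * l⁻¹) := by rw [c1', c1i]
      _ = k * l * (u * (w * k⁻¹)) * u⁻¹ * (w⁻¹ * l⁻¹) := by group
      _ = k * l * (u * (k⁻¹ * w)) * u⁻¹ * (w⁻¹ * l⁻¹) := by rw [c2']
      _ = k * l * (u * (k⁻¹ * w) * u⁻¹) * (w⁻¹ * l⁻¹) := by group
      _ = k * l * ((k⁻¹ * w) * u * u⁻¹) * (w⁻¹ * l⁻¹) := by rw [c1']
      _ = k * l * k⁻¹ * l⁻¹ := by group
  show g * h * g⁻¹ * h⁻¹ ∈ Subgroup.closure {x, y}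
  rw [hcomm]
  exact mul_mem (mul_mem (mul_mem hk hl) (inv_mem hk)) (inv_mem hl)

omit [Finite F] in
/-- the elements fixing a vector form a subgroup -/
theorem fix_closure {G : Type*} [Group G] {ρ : Representation F G (I27 → F)} {x y : G} {v : I27 → F} (hx : ρ x v = v)
    (hy : ρ y v = v) {g : G} (hg : g ∈ Subgroup.closure {x, y}) : ρ g v = v := by
  induction hg using Subgroup.closure_induction with
  | mem u hu =>
    rcases hu with rfl | rfl
    · exact hx
    · exact hy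
  | one => rw [map_one, Module.End.one_apply]
  | mul a b _ _ ha hb => rw [map_mul, Module.End.mul_apply, hb, ha]
  | inv a _ ha =>
    nth_rw 1 [← ha]
    rw [← Module.End.mul_apply, ← map_mul, inv_mul_cancel, map_one, Module.End.one_apply]

omit [Finite F] in
theorem stab_closure {G : Type*} [Group G] {ρ : Representation F G (I27 → F)} {x y : G} {W : Submodule F (I27 → F)}
    (hx : ∀ w ∈ W, ρ x w ∈ W) (hy : ∀ w ∈ W, ρ y w ∈ W) {g : G} (hg : g ∈ Subgroup.closure {x, y}) :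
    ∀ w ∈ W, ρ g w ∈ W := by
  induction hg using Subgroup.closure_induction with
  | mem u hu =>
    rcases hu with rfl | rfl
    · exact hx
    · exact hy
  | one => intro w hw; rw [map_one, Module.End.one_apply]; exact hw
  | mul a b _ _ ha hb => intro w hw; rw [map_mul, Module.End.mul_apply]; exact ha _ (hb _ hw)
  | inv a _ ha =>
    intro w hw
    have hinj : Function.Injective ((ρ a).restrict ha) := by
      intro p q hpq
      have h1 : ρ a (p : I27 → F) = ρ a (q : I27 → F) := congrArg Subtype.val hpq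
      have h2 := congrArg (ρ a⁻¹) h1
      rw [← Module.End.mul_apply, ← map_mul, inv_mul_cancel, map_one, Module.End.one_apply,
        ← Module.End.mul_apply, ← map_mul, inv_mul_cancel, map_one, Module.End.one_apply] at h2
      exact Subtype.ext h2
    obtain ⟨q, hq⟩ := (LinearMap.injective_iff_surjective.1 hinj) ⟨w, hw⟩
    have h1 : ρ a (q : I27 → F) = w := congrArg Subtype.val hq
    rw [← h1, ← Module.End.mul_apply, ← map_mul, inv_mul_cancel, map_one, Module.End.one_apply]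
    exact q.2

theorem pd : PD (V F) (V' F) := ⟨Act.tf_act, Act.sh_act, Act.sh_act'⟩

/-- no vectors fixed by a pair of lifts of generators -/
theorem no_fix {ω : Fˣ} (hc : Cover φ ω) {x y : ↥(Zgrp F)} {x0 y0 : A7} (hx : ad F x = φ x0) (hy : ad F y = φ y0)
    (hg : Subgroup.closure {x0, y0} = ⊤) :
    es (V F x) 1 ⊓ es (V F y) 1 = ⊥ ∧ es (V' F x) 1 ⊓ es (V' F y) 1 = ⊥ := by
  obtain ⟨z, hz, hzs⟩ := z_mem hc hx hy hg
  have h1 : (ω : F) ≠ 1 := fun h => hc.1 (Units.ext h)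
  have h2 : ((ω⁻¹ : Fˣ) : F) ≠ 1 := fun h => hc.1 (inv_eq_one.1 (Units.ext h))
  constructor
  · rw [eq_bot_iff]
    rintro v ⟨hv1, hv2⟩
    have e1 := Module.End.mem_eigenspace_iff.1 hv1
    have e2 := Module.End.mem_eigenspace_iff.1 hv2
    rw [one_smul] at e1 e2
    have e3 := fix_closure (ρ := V F) e1 e2 hz
    rw [H931.E6.V_scal hzs] at e3
    have e4 : ((ω : F) - 1) • v = 0 := by rw [sub_smul, e3, one_smul, sub_self]
    exact (smul_eq_zero.1 e4).resolve_left (sub_ne_zero.2 h1)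
  · rw [eq_bot_iff]
    rintro v ⟨hv1, hv2⟩
    have e1 := Module.End.mem_eigenspace_iff.1 hv1
    have e2 := Module.End.mem_eigenspace_iff.1 hv2
    rw [one_smul] at e1 e2
    have e3 := fix_closure (ρ := V' F) e1 e2 hz
    rw [H931.E6.V'_scal hzs] at e3
    have e4 : (((ω⁻¹ : Fˣ) : F) - 1) • v = 0 := by rw [sub_smul, e3, one_smul, sub_self]
    exact (smul_eq_zero.1 e4).resolve_left (sub_ne_zero.2 h2)

/-- Scott's lemma for two elements -/
theorem scott_two (x y : ↥(Zgrp F)) : ev (V F x) 1 + ev (V F y) 1 + ev (V F (x * y)) 1 ≤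
    27 + finrank F ↥(es (V F x) 1 ⊓ es (V F y) 1) + finrank F ↥(es (V' F x) 1 ⊓ es (V' F y) 1) := by
  let K := Subgroup.closure {x, y}
  have hx : x ∈ K := Subgroup.subset_closure (by simp)
  have hy : y ∈ K := Subgroup.subset_closure (by simp)
  have hgen : Subgroup.closure {(⟨x, hx⟩ : ↥K), ⟨y, hy⟩} = ⊤ := by
    have h1 : (Subgroup.closure {(⟨x, hx⟩ : ↥K), ⟨y, hy⟩}).map K.subtype = K := by
      rw [MonoidHom.map_closure, Set.image_pair]
      rfl
    apply Subgroup.map_injective K.subtype_injective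
    rw [h1, ← MonoidHom.range_eq_map, Subgroup.range_subtype]
  have h := (pd (F := F)).comp K.subtype |>.scott hgen
  have e1 : Representation.invariants (MonoidHom.comp (V F) K.subtype) ≤ es (V F x) 1 ⊓ es (V F y) 1 := by
    intro v hv
    rw [Representation.mem_invariants] at hv
    exact ⟨Module.End.mem_eigenspace_iff.2 ((hv ⟨x, hx⟩).trans (one_smul F v).symm),
      Module.End.mem_eigenspace_iff.2 ((hv ⟨y, hy⟩).trans (one_smul F v).symm)⟩
  have e2 : Representation.invariants (MonoidHom.comp (V' F) K.subtype) ≤ es (V' F x) 1 ⊓ es (V' F y) 1 := by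
    intro v hv
    rw [Representation.mem_invariants] at hv
    exact ⟨Module.End.mem_eigenspace_iff.2 ((hv ⟨x, hx⟩).trans (one_smul F v).symm),
      Module.End.mem_eigenspace_iff.2 ((hv ⟨y, hy⟩).trans (one_smul F v).symm)⟩
  have h1 := Submodule.finrank_mono e1
  have h2 := Submodule.finrank_mono e2
  have h3 : ev ((MonoidHom.comp (V F) K.subtype) ⟨x, hx⟩) 1 = ev (V F x) 1 := rfl
  have h4 : ev ((MonoidHom.comp (V F) K.subtype) ⟨y, hy⟩) 1 = ev (V F y) 1 := rfl
  have h5 : ev ((MonoidHom.comp (V F) K.subtype) (⟨x, hx⟩ * ⟨y, hy⟩)) 1 = ev (V F (x * y)) 1 := rfl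
  simp only [h3, h4, h5] at h
  omega

/-- conjugation relations lift to elements of order prime to 3 -/
theorem conj_lift {x g : ↥(Zgrp F)} {x0 g0 : A7} (hx : ad F x = φ x0) (hg : ad F g = φ g0) {m k : ℕ}
    (hm : Nat.Coprime m 3) (hxm : x ^ m = 1) (h : g0 * x0 * g0⁻¹ = x0 ^ k) : g * x * g⁻¹ = x ^ k := by
  have h1 : ad F (g * x * g⁻¹ * (x ^ k)⁻¹) = 1 := by
    (rewrite [map_mul]; simp +singlePass only [map_mul]; simp only [map_mul]; (conv => enter [@2, @5, @6]; rw [map_inv]); simp only [map_inv]; simp only [map_pow]; simp only [hx]; rewrite [hg]; simp only [← map_inv]; (conv => enter [@2, @5, @5]; rw [← map_mul]); rewrite [← map_mul, h, map_pow, mul_inv_cancel]; with_reducible rfl)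
  set! w := g * x * g⁻¹ * (x ^ k)⁻¹ with hw; rewrite [← hw] at h1
  have h2 : g * x * g⁻¹ = w * x ^ k := by rw [hw, inv_mul_cancel_right]
  have h3 := Cov.ker_pow h1
  have h4 : w ^ m = 1 := by
    have h5 : (g * x * g⁻¹) ^ m = 1 := by rw [conj_pow, hxm, mul_one, mul_inv_cancel]
    have hcm : Commute w (x ^ k) := (Cov.ker_comm h1 (x ^ k)).symm
    rw [h2, hcm.mul_pow, ← pow_mul, mul_comm k m, pow_mul, hxm, one_pow, mul_one] at h5
    exact h5
  have h5 : w ^ Nat.gcd m 3 = 1 := by rw [pow_gcd_eq_one]; exact ⟨h4, h3⟩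
  rw [hm, pow_one] at h5
  rw [h2, h5, one_mul]

variable [CharP F 2]

theorem two_zero : (2 : F) = 0 := by
  have := CharP.cast_eq_zero F 2
  exact_mod_cast this

/-- elements of order 5 -/
theorem ev_five (hφ : Function.Injective φ) {S : ↥(Zgrp F)} (hS : ad F S = φ s7) (S5 : S ^ 5 = 1) :
    ev (V F S) 1 = 7 := by
  have hne : S ≠ 1 := by
    rintro rfl
    rw [map_one] at hS
    exact s7_ne (hφ (hS.symm.trans (map_one φ).symm))
  obtain ⟨g, hg⟩ := ad_surjective (F := F) (φ r7)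
  exact ((Tor.tab (F := F) 2).five_rat (by norm_num) S hne S5 ⟨g, conj_lift hS hg (by norm_num) S5 r7_s7⟩).1

/-- elements of order 6 -/
theorem ev_six (hφ : Function.Injective φ) {ω : Fˣ} (hc : Cover φ ω) {g : ↥(Zgrp F)}
    (hg : ad F g = φ (p7 * (s7 * t7))) : 5 ≤ ev (V F g) 1 := by
  have h2 := two_zero (F := F)
  obtain ⟨h3, h9, -⟩ := Cov.type_thirty (Or.inr rfl) hφ hc g7_ord (x := g ^ 4) (by rw [map_pow, hg, map_pow])
  have hw : ad F (g ^ 6) = 1 := by rw [map_pow, hg, ← map_pow, g7_six, map_one]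
  have hw3 := Cov.ker_pow hw
  have hw2 : (g ^ 6) ^ 2 = 1 := by
    rw [← pow_mul]
    rw [← pow_mul] at h3
    exact h3
  have hw1 : g ^ 6 = 1 := by
    have : (g ^ 6) ^ 3 = (g ^ 6) ^ 2 * g ^ 6 := pow_succ _ _
    rw [hw3, hw2, one_mul] at this
    exact this.symm
  have hm : ∀ a b v, V F a (V F b v) = V F (a * b) v := fun a b v => by rw [map_mul, Module.End.mul_apply]
  have hone : ∀ v, V F 1 v = v := fun v => by rw [map_one, Module.End.one_apply]
  have h := half_fix h2 (τ := V F (g ^ 3)) (W := es (V F (g ^ 4)) 1) (fun v => by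
    rw [hm, ← pow_add, hw1, hone]) (fun w hw' => by
    show _ ∈ Module.End.eigenspace _ _
    have h4 := Module.End.mem_eigenspace_iff.1 hw'
    rw [Module.End.mem_eigenspace_iff, hm, ← pow_add, show 4 + 3 = 3 + 4 from rfl, pow_add, ← hm, h4, map_smul])
  have h4 : es (V F (g ^ 4)) 1 ⊓ es (V F (g ^ 3)) 1 ≤ es (V F g) 1 := by
    rintro v ⟨hv1, hv2⟩
    have e1 := Module.End.mem_eigenspace_iff.1 hv1
    have e2 := Module.End.mem_eigenspace_iff.1 hv2
    rw [one_smul] at e1 e2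
    show v ∈ Module.End.eigenspace _ _
    rw [Module.End.mem_eigenspace_iff, one_smul]
    nth_rw 1 [← e2]
    rw [hm, ← pow_succ', e1]
  have h5 := Submodule.finrank_mono h4
  have h6 : finrank F ↥(es (V F (g ^ 4)) 1) = 9 := h9
  have h7 : ev (V F g) 1 = finrank F ↥(es (V F g) 1) := rfl
  omega

/-- elements of order 7 -/
theorem ev_seven (hφ : Function.Injective φ) {ω : Fˣ} (hc : Cover φ ω) {S T : ↥(Zgrp F)} (hS : ad F S = φ s7)
    (hT : ad F T = φ t7) (ST7 : (S * T) ^ 7 = 1) (yz : yw S T * (S * T) = (S * T) ^ 2 * yw S T) :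
    ev (V F (S * T)) 1 ≤ 5 := by
  have hST : ad F (S * T) = φ (s7 * t7) := by rw [map_mul, hS, hT, map_mul]
  have hne : S * T ≠ 1 := by
    intro h
    rw [h, map_one] at hST
    exact c7_ne (hφ (hST.symm.trans (map_one φ).symm))
  rcases (Tor.tab (F := F) 2).seven_rat (by norm_num) (S * T) hne ST7 ⟨yw S T, by rw [yz, mul_inv_cancel_right]⟩ with
    h | h | h
  · exfalso
    obtain ⟨g, hg⟩ := ad_surjective (F := F) (φ p7)
    have hw : ad F (g * g) = 1 := by rw [map_mul, hg, ← map_mul, p7_sq, map_one]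
    have hc1 := Cov.ker_comm hw g
    have hw3 := Cov.ker_pow hw
    set! P := g * (g * g) with hP; rewrite [← hP] at hc1
    have hPP : P * P = 1 := by
      rw [← hw3, hP]
      simp only [pow_succ, pow_zero, one_mul, mul_assoc]
    have hPa : ad F P = φ p7 := by rw [hP, map_mul, hw, mul_one, hg]
    have f1 := Tor.two_two P hPP
    have f2 := ev_six hφ hc (g := P * (S * T)) (by rw [map_mul, hPa, hST, ← map_mul])
    have f3 := scott_two P (S * T)
    obtain ⟨e1, e2⟩ := no_fix hc hPa hST gen_pc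
    ((conv at f3 => enter [@4, @5, @6]; rw [e1]); (conv at f3 => enter [@4, @6]; rw [e2]); simp only [finrank_bot] at f3; simp only [h.1] at f3)
    omega
  · omega
  · omega

theorem ev_dual_one (g : ↥(Zgrp F)) : ev (V' F g) 1 = ev (V F g) 1 := by
  have h := Act.ev_dual g (μ := 1) one_ne_zero
  rwa [inv_one] at h

/-- **the dimensions of the spaces fixed by the group of order 21** -/
theorem dimD (hφ : Function.Injective φ) {ω : Fˣ} (hc : Cover φ ω) {S T : ↥(Zgrp F)} (hS : ad F S = φ s7)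
    (hT : ad F T = φ t7) (ST7 : (S * T) ^ 7 = 1) (y3 : yw S T ^ 3 = 1)
    (yz : yw S T * (S * T) = (S * T) ^ 2 * yw S T) :
    finrank F ↥(VD (V F) S T) ≤ 1 ∧ finrank F ↥(VD (V' F) S T) ≤ 1 := by
  have h7 := ev_seven hφ hc hS hT ST7 yz
  have hy : ad F (yw S T) = φ (yw s7 t7) := by
    unfold yw
    simp only [map_mul, map_inv, hS, hT]
  obtain ⟨-, h9, -⟩ := Cov.type_thirty (Or.inr rfl) hφ hc yw7_ord hy
  have h1 := fix21 (V F) (two_zero (F := F)) ST7 y3 yz
  have h2 := fix21 (V' F) (two_zero (F := F)) ST7 y3 yz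
  rw [ev_dual_one, ev_dual_one] at h2
  simp only [H905.E6T.finrank27, h9] at h1 h2
  constructor
  · show finrank F ↥(es (V F (S * T)) 1 ⊓ es (V F (yw S T)) 1) ≤ 1
    omega
  · show finrank F ↥(es (V' F (S * T)) 1 ⊓ es (V' F (yw S T)) 1) ≤ 1
    omega

/-- **the dimensions of the spaces fixed by the symmetric group of degree 5** -/
theorem dimX (hφ : Function.Injective φ) {S a : ↥(Zgrp F)} (hS : ad F S = φ s7) (S5 : S ^ 5 = 1) (a2 : a * a = 1)
    (b4 : (a * S) ^ 4 = 1) : 3 ≤ finrank F ↥(X (V F) S a) + finrank F ↥(X (V' F) S a) := by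
  have h1 := scott_two a S
  have h2 := Tor.two_two a a2
  have h3 := Tor.two_four (a * S) b4
  have h4 := ev_five hφ hS S5
  have e1 : X (V F) S a = es (V F a) 1 ⊓ es (V F S) 1 := inf_comm _ _
  have e2 : X (V' F) S a = es (V' F a) 1 ⊓ es (V' F S) 1 := inf_comm _ _
  rw [e1, e2]
  omega

omit [CharP F 2] in
/-- **no totally singular stable subspaces of small dimension** -/
theorem nots {H : Subgroup ↥(chevE6.group F)} (hH : Sit H 7 φ) {ω : Fˣ} (hc : Cover φ ω) {S T : ↥(Zgrp F)}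
    (hS : ad F S = φ s7) (hT : ad F T = φ t7) {ρ : Representation F ↥(Zgrp F) (I27 → F)} (hρ : ρ = V F ∨ ρ = V' F)
    {W : Submodule F (I27 → F)} (hWS : ∀ w ∈ W, ρ S w ∈ W) (hWT : ∀ w ∈ W, ρ T w ∈ W) (hW0 : W ≠ ⊥)
    (hW6 : finrank F ↥W ≤ 6) : ¬ TS W := by
  have hφ := hH.inj
  -- `W` is stable under the preimage
  have hker : ∀ c : ↥(Zgrp F), ad F c = 1 → ∀ w ∈ W, ρ c w ∈ W := by
    intro c hc1 w hw
    obtain ⟨e, -, he⟩ := (Act.ad_eq_one_iff c).1 hc1
    rcases hρ with rfl | rfl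
    · rw [H931.E6.V_scal he]
      exact W.smul_mem _ hw
    · rw [H931.E6.V'_scal he]
      exact W.smul_mem _ hw
  have hst : Stab ρ φ.range W := by
    intro g hg w hw
    obtain ⟨k, hk, hkg⟩ := exists_lift hS hT gen_st hg
    have e1 : ad F (k⁻¹ * g) = 1 := by rw [map_mul, map_inv, hkg, inv_mul_cancel]
    have e2 : g = k * (k⁻¹ * g) := by rw [mul_inv_cancel_left]
    rw [e2, map_mul, Module.End.mul_apply]
    exact stab_closure hWS hWT hk _ (hker _ e1 w hw)
  -- the dimension is divisible by 3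
  obtain ⟨x, hx⟩ := ad_surjective (F := F) (φ t7)
  obtain ⟨y, hy⟩ := ad_surjective (F := F) (φ u7)
  have hmem : ∀ {g : ↥(Zgrp F)} {g0 : A7}, ad F g = φ g0 → ∀ w ∈ W, ρ g w ∈ W := fun {g g0} hg w hw =>
    hst g ⟨g0, hg.symm⟩ w hw
  have hcom : ∃ c : Fˣ, c ≠ 1 ∧ c ^ 3 = 1 ∧ ((x * y * x⁻¹ * y⁻¹ : ↥(Zgrp F)) : GL I27 F) = scal c := by
    rcases Cov.not_comm (Or.inr rfl) hφ hc (a := t7) (b := u7) (by decide +kernel) (by decide +kernel)
      (by
        intro i
        revert i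
        decide +kernel) hx hy with h | h
    · exact ⟨ω, hc.1, hc.2.1, h.2⟩
    · exact ⟨ω⁻¹, inv_ne_one.2 hc.1, by rw [inv_pow, hc.2.1, inv_one], h.2⟩
  obtain ⟨c, hc1, hc3, hcs⟩ := hcom
  have hxy : x * y = (x * y * x⁻¹ * y⁻¹) * (y * x) := by group
  have h3 : 3 ∣ finrank F ↥W := by
    have hcomm : ∃ e : F, e ≠ 1 ∧ e ^ 3 = 1 ∧ ∀ v, ρ x (ρ y v) = e • ρ y (ρ x v) := by
      rcases hρ with rfl | rfl
      · refine ⟨(c : F), fun h => hc1 (Units.ext h), by rw [← Units.val_pow_eq_pow_val, hc3, Units.val_one], fun v => ?_⟩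
        rw [← Module.End.mul_apply, ← map_mul, hxy, map_mul, Module.End.mul_apply, H931.E6.V_scal hcs, map_mul,
          Module.End.mul_apply]
      · refine ⟨((c⁻¹ : Fˣ) : F), fun h => hc1 (inv_eq_one.1 (Units.ext h)), by
          rw [← Units.val_pow_eq_pow_val, inv_pow, hc3, inv_one, Units.val_one], fun v => ?_⟩
        rw [← Module.End.mul_apply, ← map_mul, hxy, map_mul, Module.End.mul_apply, H931.E6.V'_scal hcs, map_mul,
          Module.End.mul_apply]
    obtain ⟨e, he1, he3, he⟩ := hcomm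
    exact three_dvd he1 he3 he (hmem hx) (hmem (g := x⁻¹) (g0 := t7⁻¹) (by rw [map_inv, hx, map_inv])) (hmem hy)
      (hmem (g := y⁻¹) (g0 := u7⁻¹) (by rw [map_inv, hy, map_inv]))
  have hpos : 0 < finrank F ↥W := Submodule.one_le_finrank_iff.2 hW0
  obtain ⟨m, hm⟩ := h3
  have hm12 : m = 1 ∨ m = 2 := by omega
  rcases hm12 with rfl | rfl
  · exact hH.no_three (Or.inl (by norm_num)) ρ hρ W hst hm
  · exact hH.no_six ρ hρ W hst hm

/-- **Task A2** -/
theorem numerics {H : Subgroup ↥(chevE6.group F)} (hH : Sit H 7 φ) {ω : Fˣ} (hc : Cover φ ω) {s t : A7}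
    (hs : (s : Perm (Fin 7)) = c[(2 : Fin 7), 3, 4, 5, 6]) (ht : (t : Perm (Fin 7)) = c[(0 : Fin 7), 1, 2]) {S T a : ↥(Zgrp F)}
    (hS : ad F S = φ s) (hT : ad F T = φ t) (S5 : S ^ 5 = 1) (ST7 : (S * T) ^ 7 = 1) (a2 : a * a = 1)
    (b4 : (a * S) ^ 4 = 1) (y3 : yw S T ^ 3 = 1) (yz : yw S T * (S * T) = (S * T) ^ 2 * yw S T) :
    3 ≤ finrank F ↥(X (V F) S a) + finrank F ↥(X (V' F) S a) ∧
    finrank F ↥(VD (V F) S T) ≤ 1 ∧ finrank F ↥(VD (V' F) S T) ≤ 1 ∧
    7 ≤ ev (V F S) 1 ∧ 7 ≤ ev (V' F S) 1 ∧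
    (∀ W : Submodule F (I27 → F), (∀ w ∈ W, V F S w ∈ W) → (∀ w ∈ W, V F T w ∈ W) → W ≠ ⊥ → finrank F ↥W ≤ 6 →
      ¬ TS W) ∧
    (∀ W : Submodule F (I27 → F), (∀ w ∈ W, V' F S w ∈ W) → (∀ w ∈ W, V' F T w ∈ W) → W ≠ ⊥ → finrank F ↥W ≤ 6 →
      ¬ TS W) := by
  have hs' : s = s7 := Subtype.ext hs
  have ht' : t = t7 := Subtype.ext ht
  subst hs' ht'
  have h5 := ev_five hH.inj hS S5
  obtain ⟨d1, d2⟩ := dimD hH.inj hc hS hT ST7 y3 yz
  exact ⟨dimX hH.inj hS S5 a2 b4, d1, d2, h5.ge, by rw [ev_dual_one]; exact h5.ge,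
    fun W h1 h2 h3 h4 => nots hH hc hS hT (Or.inl rfl) h1 h2 h3 h4,
    fun W h1 h2 h3 h4 => nots hH hc hS hT (Or.inr rfl) h1 h2 h3 h4⟩

end Grp

end Cfsg.Agent.H251.S7
end

-- part: H952/E6SevencTwo
section
/-!
# S5927, S5928: the threefold cover of `A₇` in characteristic 2 (helper952)

with helper16 (lifts and cocycle), helper251 (dimensions), helper401 (Hecke operator), helper288 (Gram matrices),
helper911 (the case of two independent families).
-/

set_option autoImplicit false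

namespace Cfsg.Agent.H163.E6

open Cfsg Cfsg.Lie Module
open Cfsg.Agent.ChevalleyStructure.E6Min.Tables Cfsg.Agent.ChevalleyStructure.E6Min.Basic
  Cfsg.Agent.ChevalleyStructure.E6Min.Adjoint
open Cfsg.Agent.H952.F4 (ev es matRep sh cr tf MaxAlt tr1)

universe u

namespace Cases

variable {F : Type u} [Field F] [Finite F] {H : Subgroup ↥(chevE6.group F)}

/-- cube roots of unity in characteristic 2 -/
theorem sevenc_root {ω : F} (h2 : (2 : F) = 0) (h1 : ω ≠ 1) (h3 : ω ^ 3 = 1) : ω * ω = ω + 1 := by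
  have h4 : (ω - 1) * (ω * ω + ω + 1) = 0 := by linear_combination h3
  have h5 := (mul_eq_zero.1 h4).resolve_left (sub_ne_zero.2 h1)
  linear_combination h5 - (ω + 1) * h2

theorem sevenc_two [CharP F 2] {φ : ↥(alternatingGroup (Fin 7)) →* ↥(chevE6.group F)} (hS : Sit H 7 φ)
    {ω : Fˣ} (hω : Cover φ ω) : False := by
  have h2 : (2 : F) = 0 := CharP.cast_eq_zero F 2
  obtain ⟨S, T, a, h⟩ := H16.S7.exists_lifts hS.inj hω
  obtain ⟨dX, dD, dD', f5, f5', ns, ns'⟩ := H251.S7.numerics hS hω (s := H16.S7.s7) (t := H16.S7.t7)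
    (by decide +kernel) (by decide +kernel) h.adS h.adT h.S5 h.ST7 h.a2 h.b4 h.y3 h.yz
  have hX : H952.S7.X (V F) S a ≠ ⊥ ∨ H952.S7.X (V' F) S a ≠ ⊥ := by
    by_contra hne
    push Not at hne
    rw [hne.1, hne.2, finrank_bot] at dX
    omega
  obtain ⟨w, hw, ha, ha', fam, fam'⟩ := H16.S7.exists_fam hS.inj hω h hX
  obtain ⟨h1, h3, -⟩ := hω
  have hω1 : (ω : F) ≠ 1 := fun h0 => h1 (Units.ext h0)
  have hω3 : (ω : F) ^ 3 = 1 := by rw [← Units.val_pow_eq_pow_val, h3, Units.val_one]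
  have hww : w * w = w + 1 := by
    rcases hw with rfl | rfl
    · exact sevenc_root h2 hω1 hω3
    · exact sevenc_root h2 (fun h0 => hω1 (inv_eq_one.1 h0)) (by rw [inv_pow, hω3, inv_one])
  have hD : H952.S7.Dat w (V F) (V' F) S T a := {
    h2 := h2
    hω := hww
    pd := H251.S7.pd
    S5 := h.S5
    T3 := h.T3
    ST7 := h.ST7
    a2 := h.a2
    b4 := h.b4
    y3 := h.y3
    yz := h.yz
    half := ⟨ha, fam, dD, f5, ns⟩
    half' := ⟨ha', fam', dD', f5', ns'⟩
    dimX := dX }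
  refine hD.false fun c => ?_
  obtain ⟨d, hd⟩ := (bijective_frobenius F 2).2 c
  exact ⟨d, by rw [← hd, frobenius_def]⟩

end Cases

end Cfsg.Agent.H163.E6
end

private theorem dce_984303f7623e : _root_.True := by
  try have : _root_.True := by simp only [_root_.Cfsg.Agent.H16.S7.cw.eq_1]
  try have : _root_.True := by simp only [_root_.Cfsg.Agent.H16.S7.exl.eq_2]
  try have : _root_.True := by simp only [_root_.Cfsg.Agent.H16.S7.exl.eq_def]
  try have : _root_.True := by simp only [_root_.Cfsg.Agent.H16.S7.exl.eq_1]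
  exact _root_.True.intro
end
end
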